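import Cfsg.Agent.Lib.RankOne.Basic
import Cfsg.Agent.Lib.Involutions.StronglyEmbedded
import Cfsg.Agent.Lib.OddDown.KleinFour
import Cfsg.Agent.Lib.OddChar.OddTheorem
import Cfsg.Agent.Lib.CITStruct.GraphSz
import Cfsg.Prelude.Def_Exceptional
import Cfsg.Prelude.Def_LieRecognition
import Cfsg.Prelude.Def_Sz

/-!
# From a strongly embedded subgroup with a regular normal subgroup to the split rank-one set-up
-/

set_option autoImplicit false
set_option linter.unusedSectionVars false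
set_option linter.style.haveILetI false

namespace Cfsg.Agent.RankOne

open MulAction

universe u

variable {G : Type u} [Group G] [Finite G] [IsSimpleGroup G]

theorem faithful_of_simple {H : Subgroup G} (hH : H ≠ ⊤) : FaithfulSMul G (G ⧸ H) := by
  have hcore : H.normalCore = ⊥ :=
    (Subgroup.Normal.eq_bot_or_eq_top H.normalCore_normal).resolve_right fun h =>
      hH (top_le_iff.1 (h ▸ H.normalCore_le))
  refine ⟨fun {g g'} h => ?_⟩
  have hker : g'⁻¹ * g ∈ (MulAction.toPermHom G (G ⧸ H)).ker := by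
    rw [MonoidHom.mem_ker]
    refine Equiv.ext fun x => ?_
    show (g'⁻¹ * g) • x = x
    rw [mul_smul, h x, inv_smul_smul]
  rw [← Subgroup.normalCore_eq_ker, hcore, Subgroup.mem_bot, inv_mul_eq_one] at hker
  exact hker.symm

theorem exists_invol_out {H : Subgroup G} (hH : Cfsg.IsStronglyEmbedded H) :
    ∃ t : G, t ∉ H ∧ orderOf t = 2 := by
  by_contra hno
  push Not at hno
  obtain ⟨s, hsH, hs⟩ := Invol.exists_invol hH.2.1
  refine hH.1 (eq_top_iff.2 fun g _ => Invol.se_mem_of_conj hH hs hsH ?_)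
  by_contra hg
  exact hno _ hg (by rw [← MulAut.conj_apply, MulEquiv.orderOf_eq, hs])

/-- The hypotheses of the set-up from a strongly embedded subgroup. -/
theorem exists_setup {H : Subgroup G} (hH : Cfsg.IsStronglyEmbedded H) {Q : Subgroup G} (hQH : Q ≤ H)
    (hQn : (Q.subgroupOf H).Normal)
    (htrans : ∀ g₁ g₂ : G, g₁ ∉ H → g₂ ∉ H → ∃ u ∈ Q, g₂⁻¹ * (u * g₁) ∈ H)
    (hreg : ∀ g : G, g ∉ H → ∀ u ∈ Q, g⁻¹ * (u * g) ∈ H → u = 1) :
    ∃ t : G, Cfsg.IsRankOneSetup G (G ⧸ H) ((1 : G) : G ⧸ H) t Q := by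
  classical
  obtain ⟨t, htH, ht⟩ := exists_invol_out hH
  have htt : t * t = 1 := by rw [← pow_two, ← ht, pow_orderOf_eq_one]
  have hti : t⁻¹ = t := inv_eq_of_mul_eq_one_right htt
  set a : G ⧸ H := ((1 : G) : G ⧸ H) with ha
  have hb : t • a = (t : G ⧸ H) := by rw [ha, MulAction.Quotient.smul_mk, smul_eq_mul, mul_one]
  have hsta : stabilizer G a = H := by rw [ha]; exact MulAction.stabilizer_quotient H
  have hne : ∀ g : G, (g : G ⧸ H) ≠ a ↔ g ∉ H := fun g => by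
    rw [ha, ne_eq, QuotientGroup.eq, mul_one, inv_mem_iff]
  have hQa : ∀ u ∈ Q, u • a = a := fun u hu => by
    rw [← mem_stabilizer_iff, hsta]; exact hQH hu
  have hQ : ∀ c d : G ⧸ H, c ≠ a → d ≠ a → ∃ u ∈ Q, u • c = d := by
    intro c d hc hd
    induction c using QuotientGroup.induction_on with
    | _ g₁ =>
      induction d using QuotientGroup.induction_on with
      | _ g₂ =>
        obtain ⟨u, hu, h⟩ := htrans g₁ g₂ ((hne _).1 hc) ((hne _).1 hd)
        refine ⟨u, hu, ?_⟩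
        rw [MulAction.Quotient.smul_mk, smul_eq_mul, QuotientGroup.eq]
        simpa [mul_assoc] using inv_mem h
  have hta : t • a ≠ a := by rw [hb]; exact (hne t).2 htH
  have hmove : ∀ c d : G ⧸ H, c ≠ d → ∃ g : G, g • a = c ∧ g • (t • a) = d := by
    intro c d hcd
    induction c using QuotientGroup.induction_on with
    | _ g =>
      have hga : g • a = (g : G ⧸ H) := by rw [ha, MulAction.Quotient.smul_mk, smul_eq_mul, mul_one]
      obtain ⟨u, hu, e⟩ := hQ (t • a) (g⁻¹ • d) hta fun h => hcd (by rw [← hga, ← h, smul_inv_smul])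
      exact ⟨g * u, by rw [mul_smul, hQa u hu, hga], by rw [mul_smul, e, smul_inv_smul]⟩
  have hinf : Q ⊓ stabilizer G (t • a) = ⊥ := by
    rw [Subgroup.eq_bot_iff_forall]
    intro u hu
    obtain ⟨hu1, hu2⟩ := Subgroup.mem_inf.1 hu
    refine hreg t htH u hu1 ?_
    rw [mem_stabilizer_iff, hb, MulAction.Quotient.smul_mk, smul_eq_mul, QuotientGroup.eq] at hu2
    simpa [mul_assoc] using inv_mem hu2
  have hqd : ∀ h ∈ H, ∃ q ∈ Q, ∃ d ∈ stabilizer G a ⊓ stabilizer G (t • a), h = q * d := by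
    intro h hh
    have hha : h • a = a := by rw [← mem_stabilizer_iff, hsta]; exact hh
    obtain ⟨u, hu, e⟩ := hQ (t • a) (h • (t • a)) hta
      fun h' => hta (MulAction.injective h (h'.trans hha.symm))
    refine ⟨u, hu, u⁻¹ * h, Subgroup.mem_inf.2 ⟨?_, ?_⟩, by group⟩
    · rw [hsta]; exact mul_mem (inv_mem (hQH hu)) hh
    · rw [mem_stabilizer_iff, mul_smul, ← e, inv_smul_smul]
  have hD : stabilizer G a ⊓ stabilizer G (t • a) = H ⊓ H.map (MulAut.conj t).toMonoidHom := by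
    rw [stabilizer_smul_eq_stabilizer_map_conj, hsta]
  have hodd : Odd (Nat.card ↥(stabilizer G a ⊓ stabilizer G (t • a))) := by
    rw [hD]; exact hH.2.2 t htH
  have hcard : Nat.card H = Nat.card Q * Nat.card ↥(stabilizer G a ⊓ stabilizer G (t • a)) := by
    rw [← Nat.card_prod]
    refine (Nat.card_eq_of_bijective (fun p : Q × ↥(stabilizer G a ⊓ stabilizer G (t • a)) =>
      (⟨p.1.1 * p.2.1, mul_mem (hQH p.1.2) (hsta.le (Subgroup.mem_inf.1 p.2.2).1)⟩ : H))
      ⟨fun p q e => ?_, fun h => ?_⟩).symm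
    · have e1 : (p.1 : G) * p.2 = q.1 * q.2 := congrArg Subtype.val e
      have e2 : (q.1 : G)⁻¹ * p.1 ∈ Q ⊓ stabilizer G (t • a) := Subgroup.mem_inf.2
        ⟨mul_mem (inv_mem q.1.2) p.1.2, by
          rw [show (q.1 : G)⁻¹ * p.1 = q.2 * (p.2 : G)⁻¹ by
            calc (q.1 : G)⁻¹ * p.1 = (q.1 : G)⁻¹ * ((p.1 : G) * p.2) * (p.2 : G)⁻¹ := by group
              _ = _ := by rw [e1]; group]
          exact mul_mem (Subgroup.mem_inf.1 q.2.2).2 (inv_mem (Subgroup.mem_inf.1 p.2.2).2)⟩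
      rw [hinf, Subgroup.mem_bot, inv_mul_eq_one] at e2
      rw [← e2] at e1
      exact Prod.ext (Subtype.ext e2.symm) (Subtype.ext (mul_left_cancel e1))
    · obtain ⟨q, hq, d, hd, e⟩ := hqd h h.2
      exact ⟨(⟨q, hq⟩, ⟨d, hd⟩), Subtype.ext e.symm⟩
  refine ⟨t, ⟨MulAction.is_two_pretransitive_iff.2 ?_, htt, fun e => by
      rw [e, orderOf_one] at ht; norm_num at ht, hta, ?_, ?_, hinf, ?_, ?_, hodd⟩⟩
  · intro c d c' d' hcd hcd'
    obtain ⟨g, g1, g2⟩ := hmove c d hcd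
    obtain ⟨g', g1', g2'⟩ := hmove c' d' hcd'
    exact ⟨g' * g⁻¹, by rw [← g1, mul_smul, inv_smul_smul, g1'],
      by rw [← g2, mul_smul, inv_smul_smul, g2']⟩
  · rw [hsta]; exact hQH
  · intro h hh x hx
    rw [hsta] at hh
    exact hQn.conj_mem ⟨x, hQH hx⟩ hx ⟨h, hh⟩
  · refine le_antisymm (sup_le (hsta.symm ▸ hQH) inf_le_left) fun h hh => ?_
    rw [hsta] at hh
    obtain ⟨q, hq, d, hd, rfl⟩ := hqd h hh
    exact mul_mem (Subgroup.mem_sup_left hq) (Subgroup.mem_sup_right hd)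
  · have h := hH.2.1
    rw [hcard, Nat.even_mul] at h
    exact h.resolve_right (Nat.not_even_iff_odd.2 hodd)

/-- A simple group of even order has two commuting involutions. -/
theorem exists_commuting_of_simple {H : Subgroup G} (hH : Cfsg.IsStronglyEmbedded H) :
    ∃ x y : G, x ≠ 1 ∧ y ≠ 1 ∧ x ≠ y ∧ x * x = 1 ∧ y * y = 1 ∧ x * y = y * x := by
  classical
  have hna : ¬ IsCyclic G := fun hc => by
    obtain ⟨s, hsH, hs⟩ := Invol.exists_invol hH.2.1
    letI := hc.commGroup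
    obtain ⟨g, hg, -⟩ := exists_invol_out hH
    exact hg (Invol.se_mem_of_conj hH hs hsH (by rwa [mul_comm g s, mul_inv_cancel_right]))
  obtain ⟨E, hE⟩ := OddDown.exists_klein_of_simple (fun K _ _ hK => OddChar.oddSolvable K hK) hna
  haveI := hE
  haveI : Fintype E := Fintype.ofFinite E
  have hE4 : Fintype.card E = 4 := by rw [← Nat.card_eq_fintype_card]; exact IsKleinFour.card_four
  obtain ⟨x, hx⟩ : ∃ x : E, x ≠ 1 := Fintype.exists_ne_of_one_lt_card (by omega) 1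
  obtain ⟨y, hy, hy'⟩ : ∃ y : E, y ≠ 1 ∧ y ≠ x := by
    by_contra hno
    push Not at hno
    have hsub : (Finset.univ : Finset E) ⊆ {1, x} := fun y _ => by
      rw [Finset.mem_insert, Finset.mem_singleton]
      exact (em (y = 1)).imp id (hno y)
    have := Finset.card_le_card hsub
    rw [Finset.card_univ, hE4] at this
    exact absurd (this.trans Finset.card_le_two) (by omega)
  have hsq : ∀ z : E, (z : G) * z = 1 := fun z => congrArg Subtype.val (IsKleinFour.mul_self z)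
  refine ⟨x, y, fun e => hx (Subtype.ext e), fun e => hy (Subtype.ext e), fun e => hy' (Subtype.ext e).symm,
    hsq x, hsq y, ?_⟩
  have h := hsq (x * y)
  rw [Subgroup.coe_mul] at h
  calc (x : G) * y = ((x : G) * y)⁻¹ := (inv_eq_of_mul_eq_one_right h).symm
    _ = y * x := by
      rw [mul_inv_rev, inv_eq_of_mul_eq_one_right (hsq x), inv_eq_of_mul_eq_one_right (hsq y)]

/-- A simple group isomorphic to a Suzuki group has Suzuki order. -/
theorem isSuzuki_of_iso (h : Cfsg.Lie.IsoSuzuki G) : Cfsg.IsSuzuki G := by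
  obtain ⟨F, i1, i2, m, hm, hF, ⟨e⟩⟩ := h
  have hd : Suzuki.SzField F m := ⟨hm, hF⟩
  refine ⟨inferInstance, m, hm, ?_⟩
  rw [Nat.card_congr e.toEquiv, CITStruct.GraphSz.card_lie hd, Suzuki.card_Sz hd]

/-- The conclusion of the set-up theorem, for a simple group. -/
theorem simple_outcome {H : Subgroup G} (hH : Cfsg.IsStronglyEmbedded H)
    (h : ∃ L : Subgroup G, L.Normal ∧ Odd L.index ∧
      ((∃ (F : Type) (_ : Field F) (_ : Fintype F), (∃ n : ℕ, 2 ≤ n ∧ Fintype.card F = 2 ^ n) ∧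
          Nonempty (L ≃* Matrix.ProjectiveSpecialLinearGroup (Fin 2) F)) ∨
        Cfsg.Lie.IsoSuzuki L ∨
        (∃ (F : Type) (_ : Field F) (_ : Fintype F) (n : ℕ), 2 ≤ n ∧ Fintype.card F = (2 ^ n) ^ 2 ∧
          Nonempty (L ≃* Cfsg.PSU 3 F (2 ^ n))))) :
    (∃ (F : Type) (_ : Field F) (_ : Fintype F), CharP F 2 ∧ 4 ≤ Fintype.card F ∧
        Nonempty (G ≃* Matrix.ProjectiveSpecialLinearGroup (Fin 2) F)) ∨ Cfsg.IsSuzuki G ∨
      (∃ (F : Type) (_ : Field F) (_ : Fintype F) (q : ℕ), Fintype.card F = q ^ 2 ∧ Even q ∧ 4 ≤ q ∧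
        Nonempty (G ≃* Cfsg.PSU 3 F q)) := by
  obtain ⟨L, hL, hodd, hcases⟩ := h
  have hLt : L = ⊤ := by
    refine (Subgroup.Normal.eq_bot_or_eq_top hL).resolve_left fun h => ?_
    rw [h, Subgroup.index_bot] at hodd
    exact Nat.not_even_iff_odd.2 hodd
      (even_iff_two_dvd.2 (hH.2.1.two_dvd.trans (Subgroup.card_subgroup_dvd_card H)))
  subst hLt
  have e : (⊤ : Subgroup G) ≃* G := Subgroup.topEquiv
  rcases hcases with ⟨F, i1, i2, ⟨n, hn, hF⟩, ⟨f⟩⟩ | ⟨F, i1, i2, m, hm, hF, ⟨f⟩⟩ |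
    ⟨F, i1, i2, n, hn, hF, ⟨f⟩⟩
  · have h4 : 4 ≤ Fintype.card F := by
      rw [hF]; exact le_trans (by norm_num) (Nat.pow_le_pow_right two_pos hn)
    haveI : Fact (Nat.Prime 2) := ⟨Nat.prime_two⟩
    exact Or.inl ⟨F, i1, i2, charP_of_card_eq_prime_pow hF, h4, ⟨e.symm.trans f⟩⟩
  · exact Or.inr (Or.inl (isSuzuki_of_iso ⟨F, i1, i2, m, hm, hF, ⟨e.symm.trans f⟩⟩))
  · exact Or.inr (Or.inr ⟨F, i1, i2, 2 ^ n, hF, Nat.even_pow.2 ⟨even_two, by omega⟩,
      le_trans (by norm_num) (Nat.pow_le_pow_right two_pos hn), ⟨e.symm.trans f⟩⟩)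

end Cfsg.Agent.RankOne
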