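import Mathlib.FieldTheory.Galois.Basic
import Mathlib.FieldTheory.Finite.GaloisField
import Mathlib.FieldTheory.Perfect
import Mathlib.LinearAlgebra.LinearIndependent.Basic
import Mathlib.Algebra.CharP.Two
import Mathlib.Algebra.Module.ZMod

/-!
# Additive, biadditive and quadratic maps of a finite field of characteristic two
-/

set_option autoImplicit false

namespace Cfsg.Agent.RankOne.FieldMaps

open Finset

variable {F : Type*} [Field F]

theorem independent : LinearIndependent F (fun σ : F ≃+* F => ((σ : F →+* F) : F → F)) :=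
  (linearIndependent_monoidHom F F).comp (fun σ : F ≃+* F => ((σ : F →+* F) : F →* F)) fun _ _ h =>
    RingEquiv.ext fun x => DFunLike.congr_fun h x

section
variable [Fintype F] [CharP F 2]

instance autFinite : Finite (F ≃+* F) := Finite.of_injective (fun σ => (σ : F → F)) DFunLike.coe_injective

theorem card_aut : Fintype.card F = 2 ^ Nat.card (F ≃+* F) := by
  let : Algebra (ZMod 2) F := ZMod.algebra F 2
  have : Fact (Nat.Prime 2) := ⟨Nat.prime_two⟩
  have e : Gal(F/ZMod 2) ≃ (F ≃+* F) :=
    { toFun := fun σ => σ.toRingEquiv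
      invFun := fun σ => AlgEquiv.ofRingEquiv (f := σ) fun x =>
        RingHom.congr_fun (RingHom.ext_zmod (σ.toRingHom.comp (algebraMap (ZMod 2) F)) (algebraMap (ZMod 2) F)) x
      left_inv := fun σ => AlgEquiv.ext fun _ => rfl
      right_inv := fun σ => RingEquiv.ext fun _ => rfl }
  rw [← Nat.card_congr e, IsGalois.card_aut_eq_finrank, Module.card_eq_pow_finrank (K := ZMod 2), ZMod.card]

variable [Fintype (F ≃+* F)]

/-- The combination of automorphisms with given coefficients. -/
def combo (c : (F ≃+* F) → F) : F →+ F :=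
  ∑ σ, (AddMonoidHom.mulLeft (c σ)).comp (σ : F →+* F).toAddMonoidHom

theorem combo_apply (c : (F ≃+* F) → F) (x : F) : combo c x = ∑ σ, c σ * σ x := by
  simp [combo, AddMonoidHom.finsetSum_apply]

theorem combo_injective : Function.Injective (combo (F := F)) := by
  intro c d h
  have h2 : ∑ σ, (c - d) σ • ((σ : F →+* F) : F → F) = 0 := by
    funext x
    rw [Finset.sum_apply]
    have := DFunLike.congr_fun h x
    rw [combo_apply, combo_apply, ← sub_eq_zero, ← sum_sub_distrib] at this
    simpa [sub_mul] using this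
  funext σ
  exact sub_eq_zero.1 (Fintype.linearIndependent_iff.1 independent _ h2 σ)

theorem combo_bijective : Function.Bijective (combo (F := F)) := by
  classical
  let : Algebra (ZMod 2) F := ZMod.algebra F 2
  have : Fact (Nat.Prime 2) := ⟨Nat.prime_two⟩
  have : Finite (F →+ F) := Finite.of_injective (fun f => (f : F → F)) DFunLike.coe_injective
  refine (Nat.bijective_iff_injective_and_card _).2 ⟨combo_injective, ?_⟩
  have e : (F →+ F) ≃ (Fin (Module.finrank (ZMod 2) F) → F) :=
    { toFun := fun f i => f ((Module.finBasis (ZMod 2) F) i)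
      invFun := fun v => ((Module.finBasis (ZMod 2) F).constr (ZMod 2) v).toAddMonoidHom
      left_inv := fun f => by
        have := (Module.finBasis (ZMod 2) F).constr_self (S := ZMod 2) (f.toZModLinearMap 2)
        exact AddMonoidHom.ext fun x => LinearMap.congr_fun this x
      right_inv := fun v => funext fun i => Module.Basis.constr_basis (Module.finBasis (ZMod 2) F) (ZMod 2) v i }
  rw [Nat.card_fun, Nat.card_congr e, Nat.card_fun, Nat.card_fin]
  congr 1
  refine Nat.pow_right_injective (le_refl 2) ?_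
  simp only
  rw [← card_aut (F := F), Module.card_eq_pow_finrank (K := ZMod 2) (V := F), ZMod.card]

theorem exists_combo (f : F →+ F) : ∃ c : (F ≃+* F) → F, ∀ x, f x = ∑ σ, c σ * σ x := by
  obtain ⟨c, rfl⟩ := combo_bijective.2 f
  exact ⟨c, combo_apply c⟩

theorem exists_bicombo (B : F →+ F →+ F) :
    ∃ c : (F ≃+* F) × (F ≃+* F) → F, ∀ x y, B x y = ∑ p, c p * (p.1 x * p.2 y) := by
  choose c hc using fun x => exists_combo (B x)
  have hadd : ∀ x x' τ, c (x + x') τ = c x τ + c x' τ := fun x x' τ => by
    refine congrFun (combo_injective (a₁ := c (x + x')) (a₂ := c x + c x') (AddMonoidHom.ext fun y => ?_)) τ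
    rw [combo_apply, combo_apply, ← hc]
    simp [add_mul, sum_add_distrib, ← hc]
  have h0 : ∀ τ, c 0 τ = 0 := fun τ => by simpa using hadd 0 0 τ
  choose d hd using fun τ => exists_combo
    ({ toFun := fun x => c x τ, map_zero' := h0 τ, map_add' := fun x x' => hadd x x' τ } : F →+ F)
  refine ⟨fun p => d p.2 p.1, fun x y => ?_⟩
  have hd' : ∀ τ, c x τ = ∑ σ, d τ σ * σ x := fun τ => hd τ x
  rw [hc, Fintype.sum_prod_type, sum_comm]
  refine sum_congr rfl fun τ _ => ?_
  rw [hd', sum_mul]
  exact sum_congr rfl fun σ _ => by ring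

theorem exists_quadratic (q : F → F)
    (hq : ∀ x y z : F, q (x + y + z) + q (x + y) + q (x + z) + q (y + z) + q x + q y + q z = 0) :
    ∃ c : (F ≃+* F) × (F ≃+* F) → F, ∀ x, q x = ∑ p, c p * (p.1 x * p.2 x) := by
  classical
  have h2 : ∀ w : F, w + w = 0 := CharTwo.add_self_eq_zero
  have h0 : q 0 = 0 := by
    have := hq 0 0 0
    simp only [add_zero] at this
    linear_combination this - 3 * h2 (q 0)
  let B : F →+ F →+ F := AddMonoidHom.mk' (fun x => AddMonoidHom.mk' (fun y => q (x + y) + q x + q y)
    (fun y y' => by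
      have := hq x y y'
      rw [add_assoc x y y'] at this
      linear_combination this - h2 (q (x + y) + q x + q y) - h2 (q (x + y') + q y'))) (fun x x' => by
    ext y
    show q (x + x' + y) + q (x + x') + q y = q (x + y) + q x + q y + (q (x' + y) + q x' + q y)
    linear_combination hq x x' y - h2 (q (x + y) + q x + q y) - h2 (q (x' + y) + q x'))
  obtain ⟨d, hd⟩ := exists_bicombo B
  have hsymm : ∀ σ τ, d (σ, τ) = d (τ, σ) := by
    have key : ∀ x, ∀ τ, (∑ σ, d (σ, τ) * σ x) = ∑ σ, d (τ, σ) * σ x := fun x τ => by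
      refine congrFun (combo_injective (a₁ := fun τ => ∑ σ, d (σ, τ) * σ x)
        (a₂ := fun τ => ∑ σ, d (τ, σ) * σ x) (AddMonoidHom.ext fun y => ?_)) τ
      rw [combo_apply, combo_apply]
      have e1 : ∑ τ, (∑ σ, d (σ, τ) * σ x) * τ y = B x y := by
        rw [hd, Fintype.sum_prod_type, sum_comm]
        exact sum_congr rfl fun τ _ => by rw [sum_mul]; exact sum_congr rfl fun σ _ => by ring
      have e2 : ∑ τ, (∑ σ, d (τ, σ) * σ x) * τ y = B y x := by
        rw [hd, Fintype.sum_prod_type]
        exact sum_congr rfl fun τ _ => by rw [sum_mul]; exact sum_congr rfl fun σ _ => by ring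
      rw [e1, e2]
      show q (x + y) + q x + q y = q (y + x) + q y + q x
      rw [add_comm x y]; ring
    intro σ τ
    exact congrFun (combo_injective (a₁ := fun σ => d (σ, τ)) (a₂ := fun σ => d (τ, σ))
      (AddMonoidHom.ext fun x => by rw [combo_apply, combo_apply]; exact key x τ)) σ
  let e := Fintype.equivFin (F ≃+* F)
  let m : (F ≃+* F) × (F ≃+* F) → F := fun p => if e p.1 < e p.2 then d p else 0
  let q' : F → F := fun x => ∑ p, m p * (p.1 x * p.2 x)
  have hswap : ∀ f : (F ≃+* F) × (F ≃+* F) → F, ∑ p, f p = ∑ p : (F ≃+* F) × (F ≃+* F), f (p.2, p.1) := fun f =>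
    ((Equiv.prodComm _ _).sum_comp f).symm
  have hm : ∀ σ τ, σ ≠ τ → m (σ, τ) + m (τ, σ) = d (σ, τ) := fun σ τ h => by
    rcases lt_or_gt_of_ne (e.injective.ne h) with h' | h'
    · simp [m, h', h'.le.not_gt]
    · simp [m, h', h'.le.not_gt, hsymm σ τ]
  have hdiag : ∀ σ, d (σ, σ) = 0 := by
    have h1 : ∀ x : F, ∑ σ, d (σ, σ) * (σ x * σ x) = 0 := fun x => by
      have hb : B x x = 0 := by
        show q (x + x) + q x + q x = 0
        rw [h2 x, h0, zero_add, h2]
      rw [hd] at hb
      have hsplit : ∑ p, d p * (p.1 x * p.2 x) =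
          (∑ σ, d (σ, σ) * (σ x * σ x)) + ((∑ p, m p * (p.1 x * p.2 x)) + ∑ p, m p * (p.1 x * p.2 x)) := by
        conv_rhs => arg 2; arg 2; rw [hswap]
        rw [← sum_add_distrib]
        rw [show (∑ σ, d (σ, σ) * (σ x * σ x)) = ∑ p : (F ≃+* F) × (F ≃+* F),
          if p.1 = p.2 then d p * (p.1 x * p.2 x) else 0 by
            rw [Fintype.sum_prod_type]
            exact sum_congr rfl fun σ _ => by simp, ← sum_add_distrib]
        refine sum_congr rfl fun p _ => ?_
        obtain ⟨σ, τ⟩ := p
        by_cases h : σ = τ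
        · subst h; simp [m]
        · rw [if_neg h, zero_add, ← hm σ τ h]; ring
      rw [hsplit, h2, add_zero] at hb
      exact hb
    let fr := frobeniusEquiv F 2
    intro σ
    have h := congrFun (combo_injective (a₁ := fun τ => d ((fr.symm.trans τ), (fr.symm.trans τ))) (a₂ := 0)
      (AddMonoidHom.ext fun x => ?_)) (fr.trans σ)
    · have : fr.symm.trans (fr.trans σ) = σ := RingEquiv.ext fun y => by simp
      simpa [this] using h
    · rw [combo_apply, combo_apply]
      simp only [Pi.zero_apply, zero_mul, sum_const_zero]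
      refine (Fintype.sum_equiv ⟨fun τ : F ≃+* F => fr.symm.trans τ, fun τ => fr.trans τ,
        fun τ => RingEquiv.ext fun y => by simp, fun τ => RingEquiv.ext fun y => by simp⟩ _
        (fun σ => d (σ, σ) * (σ x * σ x)) fun τ => ?_).trans (h1 x)
      simp only [Equiv.coe_fn_mk, RingEquiv.coe_trans, Function.comp_apply]
      rw [← map_mul, ← pow_two, ← map_pow]
      congr 2
      rw [← fr.symm_apply_apply x]
      simp only [fr.symm_apply_apply]
      rw [RingEquiv.eq_symm_apply]
      simp [fr, frobenius_def]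
  have hlin : ∀ x y, (q (x + y) - q' (x + y)) = (q x - q' x) + (q y - q' y) := by
    intro x y
    have hb : B x y = q' (x + y) + q' x + q' y := by
      rw [hd]
      simp only [q', map_add]
      rw [← sum_add_distrib, ← sum_add_distrib]
      have : ∀ p : (F ≃+* F) × (F ≃+* F),
          m p * ((p.1 x + p.1 y) * (p.2 x + p.2 y)) + m p * (p.1 x * p.2 x) + m p * (p.1 y * p.2 y) =
            m p * (p.1 x * p.2 y) + m p * (p.1 y * p.2 x) := fun p => by
        linear_combination h2 (m p * (p.1 x * p.2 x)) + h2 (m p * (p.1 y * p.2 y))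
      simp only [this, sum_add_distrib]
      conv_rhs => arg 2; rw [hswap]
      rw [← sum_add_distrib]
      refine sum_congr rfl fun p _ => ?_
      obtain ⟨σ, τ⟩ := p
      by_cases h : σ = τ
      · subst h; simp [m, hdiag]
      · rw [← hm σ τ h]; ring
    have hb' : q (x + y) + q x + q y = q' (x + y) + q' x + q' y := hb
    linear_combination hb' - h2 (q x + q y) + h2 (q' x + q' y)
  obtain ⟨l, hl⟩ := exists_combo (AddMonoidHom.mk' (fun x => q x - q' x) hlin)
  let fr := frobeniusEquiv F 2
  refine ⟨fun p => m p + if p.1 = p.2 then l (fr.trans p.1) else 0, fun x => ?_⟩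
  simp only [add_mul, sum_add_distrib]
  have hl' : q x - q' x = ∑ σ, l σ * σ x := hl x
  have : (∑ p : (F ≃+* F) × (F ≃+* F), (if p.1 = p.2 then l (fr.trans p.1) else 0) * (p.1 x * p.2 x)) =
      ∑ σ, l σ * σ x := by
    rw [Fintype.sum_prod_type]
    simp only [ite_mul, zero_mul, sum_ite_eq, mem_univ, if_true]
    refine Fintype.sum_equiv ⟨fun σ : F ≃+* F => fr.trans σ, fun σ => fr.symm.trans σ,
      fun σ => RingEquiv.ext fun y => by simp, fun σ => RingEquiv.ext fun y => by simp⟩ _ _ fun σ => ?_
    simp [fr, frobenius_def, pow_two]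
  rw [this, ← hl']
  show q x = q' x + (q x - q' x)
  ring

end

end Cfsg.Agent.RankOne.FieldMaps
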