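import Cfsg.Agent.Lib.RankOne.Basic
import Mathlib.GroupTheory.Perm.Cycle.Type

/-!
# Involutions and centralisers in the split rank-one set-up
-/

set_option autoImplicit false

namespace Cfsg.Agent.RankOne

open MulAction

variable {G Ω : Type*} [Group G] [MulAction G Ω] {a : Ω} {t : G} {Q : Subgroup G}

/-- Involution. -/
def IsInvol (u : G) : Prop := u ≠ 1 ∧ u * u = 1

theorem IsInvol.inv_eq {u : G} (h : IsInvol u) : u⁻¹ = u := inv_eq_of_mul_eq_one_right h.2

theorem IsInvol.conj {u : G} (h : IsInvol u) (g : G) : IsInvol (g * u * g⁻¹) :=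
  ⟨fun e => h.1 (conj_eq_one_iff.1 e), by rw [conj_mul, h.2, mul_one, mul_inv_cancel]⟩

theorem IsInvol.orderOf {u : G} (h : IsInvol u) : orderOf u = 2 :=
  orderOf_eq_prime (by rw [pow_two, h.2]) h.1

theorem conj_pow_invol {u v : G} (hu : IsInvol u) (hv : IsInvol v) (k : ℕ) :
    u * (u * v) ^ k * u⁻¹ = ((u * v) ^ k)⁻¹ := by
  rw [← conj_pow, ← inv_pow]
  congr 1
  rw [mul_inv_rev, hu.inv_eq, hv.inv_eq, ← mul_assoc u u v, hu.2, one_mul]

section
variable [Finite G] (hS : Cfsg.IsRankOneSetup G Ω a t Q)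
include hS

theorem t_invol : IsInvol t := ⟨hS.ne_one, hS.mul_self⟩

theorem odd_card_points : Odd (Nat.card Ω) := by
  rw [card_points hS]
  exact Even.add_one hS.even_card

theorem even_orderOf_imp_mem {x : G} (hx : x ∈ stabilizer G a) (h2 : IsPGroup 2 (Subgroup.zpowers x)) :
    x ∈ Q := by
  obtain ⟨q, hq, d, hd, rfl⟩ := exists_qd hS hx
  obtain ⟨k, hk⟩ := IsPGroup.iff_orderOf.1 h2 ⟨q * d, Subgroup.mem_zpowers _⟩
  rw [Subgroup.orderOf_mk] at hk
  have hpow : ∀ m : ℕ, ∃ q' ∈ Q, (q * d) ^ m = q' * d ^ m := by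
    intro m
    induction m with
    | zero => exact ⟨1, one_mem _, by simp⟩
    | succ m ih =>
      obtain ⟨q', hq', he⟩ := ih
      refine ⟨q' * (d ^ m * q * (d ^ m)⁻¹),
        mul_mem hq' (hS.conj_mem _ (pow_mem (Subgroup.mem_inf.1 hd).1 m) q hq), ?_⟩
      rw [pow_succ, he, pow_succ]; group
  obtain ⟨q', hq', he⟩ := hpow (2 ^ k)
  rw [← hk, pow_orderOf_eq_one] at he
  obtain ⟨-, h1⟩ := qd_unique hS (one_mem Q) hq' (one_mem _) (pow_mem hd _)
    (by rw [one_mul]; exact he)
  have hd1 : d = 1 := by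
    have hdiv : orderOf d ∣ 2 ^ k := hk ▸ orderOf_dvd_of_pow_eq_one h1.symm
    have hodd : Odd (orderOf d) := odd_orderOf hS.odd_card hd
    rw [← orderOf_eq_one_iff]
    exact Nat.eq_one_of_dvd_coprimes (Nat.Coprime.pow_left k (Nat.coprime_two_left.2 hodd)) hdiv dvd_rfl
  rw [hd1, mul_one]
  exact hq

theorem invol_mem_Q {s : G} (hs : IsInvol s) (ha : s ∈ stabilizer G a) : s ∈ Q :=
  even_orderOf_imp_mem hS ha (IsPGroup.of_card (n := 1) (by rw [Nat.card_zpowers, hs.orderOf, pow_one]))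

theorem exists_fixed {u : G} (hu : u * u = 1) : ∃ p : Ω, u • p = p := by
  classical
  have := finite_points hS
  have : Fintype Ω := Fintype.ofFinite Ω
  have hodd := odd_card_points hS
  rw [Nat.card_eq_fintype_card] at hodd
  obtain ⟨p, hp⟩ := Equiv.Perm.exists_fixed_point_of_prime (p := 2) (n := 1)
    (σ := MulAction.toPermHom G Ω u) (by rwa [← even_iff_two_dvd, Nat.not_even_iff_odd])
    (by rw [pow_one, pow_two, ← map_mul, hu, map_one])
  exact ⟨p, hp⟩

/-- An involution has exactly one fixed point. -/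
theorem existsUnique_fixed {u : G} (hu : IsInvol u) : ∃! p : Ω, u • p = p := by
  obtain ⟨p, hp⟩ := exists_fixed hS hu.2
  refine ⟨p, hp, fun c hc => ?_⟩
  have := pretransitive hS
  obtain ⟨g, rfl⟩ := MulAction.exists_smul_eq G a p
  have hs : IsInvol (g⁻¹ * u * g) := by simpa using hu.conj g⁻¹
  have hsa : g⁻¹ * u * g ∈ stabilizer G a := by
    rw [mem_stabilizer_iff, mul_smul, mul_smul, hp, inv_smul_smul]
  have h := eq_a_of_fixed hS (invol_mem_Q hS hs hsa) hs.1 (c := g⁻¹ • c)
    (by rw [mul_smul, mul_smul, smul_inv_smul, hc])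
  rw [← smul_inv_smul g c, h]

theorem fixed_unique {u : G} (hu : IsInvol u) {p c : Ω} (hp : u • p = p) (hc : u • c = c) : p = c :=
  (existsUnique_fixed hS hu).unique hp hc

theorem fixed_of_commute {z u : G} (hz : IsInvol z) {p : Ω} (hp : z • p = p) (h : z * u = u * z) :
    u • p = p :=
  fixed_unique hS hz (by rw [← mul_smul, h, mul_smul, hp]) hp

/-- Involutions with different fixed points have a product of odd order. -/
theorem odd_mul {u v : G} (hu : IsInvol u) (hv : IsInvol v) {p c : Ω} (hp : u • p = p) (hc : v • c = c)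
    (hne : p ≠ c) : Odd (orderOf (u * v)) := by
  by_contra h
  obtain ⟨m, hm⟩ := Nat.not_odd_iff_even.1 h
  have hpos : 0 < orderOf (u * v) := orderOf_pos _
  set z := (u * v) ^ m with hz
  have hz1 : z ≠ 1 := pow_ne_one_of_lt_orderOf (by omega) (by omega)
  have hz2 : z * z = 1 := by rw [hz, ← pow_add, ← hm, pow_orderOf_eq_one]
  have hzu : z * u = u * z := by
    have h1 := conj_pow_invol hu hv m
    rw [← hz, inv_eq_of_mul_eq_one_right hz2] at h1
    calc z * u = (u * z * u⁻¹) * u := by rw [h1]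
      _ = u * z := by group
  have hzv : z * v = v * z := by
    have h2 : z * (u * v) = (u * v) * z := (Commute.pow_left (Commute.refl _) m).eq
    calc z * v = u * (u * z) * v := by rw [← mul_assoc u u z, hu.2, one_mul]
      _ = u * (z * (u * v)) := by rw [← hzu]; group
      _ = (u * u) * (v * z) := by rw [h2]; group
      _ = v * z := by rw [hu.2, one_mul]
  obtain ⟨r, hr, -⟩ := existsUnique_fixed hS ⟨hz1, hz2⟩
  exact hne ((fixed_unique hS hu hp (fixed_of_commute hS ⟨hz1, hz2⟩ hr hzu)).trans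
    (fixed_unique hS hv (fixed_of_commute hS ⟨hz1, hz2⟩ hr hzv) hc))

/-- Involutions with different fixed points are conjugate by a third involution of the group they generate. -/
theorem exists_conjugating {u v : G} (hu : IsInvol u) (hv : IsInvol v) {p c : Ω} (hp : u • p = p)
    (hc : v • c = c) (hne : p ≠ c) :
    ∃ k : ℕ, IsInvol (u * (u * v) ^ k) ∧ (u * (u * v) ^ k) * u * (u * (u * v) ^ k)⁻¹ = v := by
  obtain ⟨m, hm⟩ := exists_sqrt (odd_mul hS hu hv hp hc hne)
  have key := conj_pow_invol hu hv m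
  set r := (u * v) ^ m with hr
  have hr' : r * u = u * r⁻¹ := by
    rw [← key, hu.inv_eq]
    calc r * u = (u * u) * r * u := by rw [hu.2, one_mul]
      _ = u * (u * r * u) := by group
  refine ⟨m, ⟨fun h => ?_, ?_⟩, ?_⟩
  · rw [← hr] at h
    have h2 : r = u := by rw [← mul_left_cancel_iff (a := u), h, hu.2]
    have h3 : u * v = 1 := by rw [← hm, h2, hu.2]
    have h4 : v = u := by rw [← mul_left_cancel_iff (a := u), h3, hu.2]
    exact hne (fixed_unique hS hu hp (h4 ▸ hc))
  · rw [← hr]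
    calc u * r * (u * r) = u * (r * u) * r := by group
      _ = (u * u) := by rw [hr']; group
      _ = 1 := hu.2
  · rw [← hr]
    calc u * r * u * (u * r)⁻¹ = u * (r * u) * r⁻¹ * u⁻¹ := by group
      _ = (u * u) * (r * r)⁻¹ * u⁻¹ := by rw [hr']; group
      _ = (u * v)⁻¹ * u := by rw [hu.2, hm, hu.inv_eq, one_mul]
      _ = v := by rw [mul_inv_rev, hu.inv_eq, hv.inv_eq, mul_assoc, hu.2, mul_one]

theorem all_conj {u v : G} (hu : IsInvol u) (hv : IsInvol v) : ∃ g : G, g * u * g⁻¹ = v := by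
  obtain ⟨p, hp, -⟩ := existsUnique_fixed hS hu
  obtain ⟨c, hc, -⟩ := existsUnique_fixed hS hv
  by_cases hpc : p = c
  · subst hpc
    have := pretransitive hS
    have ht := t_invol hS
    obtain ⟨e, he, -⟩ := existsUnique_fixed hS ht
    obtain ⟨x, hx⟩ : ∃ x : Ω, x ≠ p := by
      by_cases h : a = p
      · exact ⟨t • a, h ▸ ta_ne hS⟩
      · exact ⟨a, h⟩
    obtain ⟨g, hg⟩ := MulAction.exists_smul_eq G e x
    have hw : (g * t * g⁻¹) • x = x := by rw [mul_smul, mul_smul, ← hg, inv_smul_smul, he]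
    obtain ⟨m, -, h1⟩ := exists_conjugating hS hu (ht.conj g) hp hw (Ne.symm hx)
    obtain ⟨l, -, h2⟩ := exists_conjugating hS (ht.conj g) hv hw hc hx
    refine ⟨(g * t * g⁻¹) * (g * t * g⁻¹ * v) ^ l * (u * (u * (g * t * g⁻¹)) ^ m), ?_⟩
    rw [show ∀ A B : G, A * B * u * (A * B)⁻¹ = A * (B * u * B⁻¹) * A⁻¹ from fun A B => by group, h1, h2]
  · obtain ⟨m, -, h1⟩ := exists_conjugating hS hu hv hp hc hpc
    exact ⟨_, h1⟩

theorem mem_involutionsIn {s : G} :
    s ∈ Cfsg.involutionsIn (stabilizer G a : Set G) ↔ IsInvol s ∧ s • a = a :=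
  ⟨fun h => ⟨⟨h.2.1, h.2.2⟩, h.1⟩, fun h => ⟨h.2, h.1.1, h.1.2⟩⟩

theorem exists_invol_fixing (p : Ω) : ∃ s : G, IsInvol s ∧ s • p = p := by
  have := pretransitive hS
  have ht := t_invol hS
  obtain ⟨e, he, -⟩ := existsUnique_fixed hS ht
  obtain ⟨g, rfl⟩ := MulAction.exists_smul_eq G e p
  exact ⟨g * t * g⁻¹, ht.conj g, by rw [mul_smul, mul_smul, inv_smul_smul, he]⟩

/-- A swapping involution is `t` times an inverted element. -/
theorem swap_mem_inverted {u : G} (hu : IsInvol u) (h : u • a = t • a) :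
    t * u ∈ Cfsg.invertedBy (twoStab a t) t := by
  refine ⟨Subgroup.mem_inf.2 ⟨?_, ?_⟩, ?_⟩
  · rw [mem_stabilizer_iff, mul_smul, h, ← mul_smul, hS.mul_self, one_smul]
  · rw [mem_stabilizer_iff, mul_smul, ← h, ← mul_smul u u a, hu.2, one_smul]
    exact h.symm
  · rw [mul_inv_rev, hu.inv_eq, inv_t hS, ← mul_assoc, hS.mul_self, one_mul]

theorem swap_of_inverted {k : G} (hk : k ∈ Cfsg.invertedBy (twoStab a t) t) :
    IsInvol (t * k) ∧ (t * k) • a = t • a := by
  have h : k • a = a := (Subgroup.mem_inf.1 hk.1).1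
  refine ⟨⟨fun e => hS.not_mem ?_, ?_⟩, by rw [mul_smul, h]⟩
  · rw [show t = k⁻¹ from eq_inv_of_mul_eq_one_left e]
    exact inv_mem (Subgroup.mem_inf.1 hk.1).1
  · calc t * k * (t * k) = (t * k * t⁻¹) * k := by rw [inv_t hS]; group
      _ = 1 := by rw [hk.2, inv_mul_cancel]

omit [Finite G] in
theorem inv_mem_inverted {k : G} (hk : k ∈ Cfsg.invertedBy (twoStab a t) t) :
    k⁻¹ ∈ Cfsg.invertedBy (twoStab a t) t :=
  ⟨inv_mem hk.1, by rw [← conj_inv, hk.2]⟩

omit [Finite G] in
theorem pow_mem_inverted {k : G} (hk : k ∈ Cfsg.invertedBy (twoStab a t) t) (m : ℕ) :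
    k ^ m ∈ Cfsg.invertedBy (twoStab a t) t :=
  ⟨pow_mem hk.1 m, by rw [← conj_pow, hk.2, inv_pow]⟩

/-- Every involution interchanging the two base points is conjugate to `t` by an inverted element. -/
theorem swap_conj {u : G} (hu : IsInvol u) (h : u • a = t • a) :
    ∃ l ∈ Cfsg.invertedBy (twoStab a t) t, l * u * l⁻¹ = t := by
  have hk := swap_mem_inverted hS hu h
  obtain ⟨m, hm⟩ := exists_sqrt (odd_orderOf hS.odd_card hk.1)
  have hl := pow_mem_inverted hS hk m
  refine ⟨(t * u) ^ m, hl, ?_⟩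
  set l := (t * u) ^ m with hldef
  have hlt : l * t = t * l⁻¹ := by
    rw [← hl.2]
    calc l * t = (t * t) * l * t := by rw [hS.mul_self, one_mul]
      _ = t * (t * l * t⁻¹) := by rw [inv_t hS]; group
  have hu' : u = t * (l * l) := by rw [hm, ← mul_assoc, hS.mul_self, one_mul]
  calc l * u * l⁻¹ = (l * t) * l := by rw [hu']; group
    _ = t := by rw [hlt]; group

/-- The key lemma: an element of `D` centralising an involution of `G_a` and inverted by an involution
interchanging the two base points is trivial. -/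
theorem key_trivial {d s u : G} (hd : d ∈ twoStab a t) (hs : IsInvol s) (hsa : s • a = a)
    (hds : d * s = s * d) (hu : IsInvol u) (hua : u • a = t • a) (hinv : u * d * u⁻¹ = d⁻¹) : d = 1 := by
  have hd0 := mem_twoStab hS hd
  have huta : u • (t • a) = a := by rw [← hua, ← mul_smul, hu.2, one_smul]
  set s' := u * s * u⁻¹ with hs'
  have hs'b : s' • (t • a) = t • a := by
    rw [hs', hu.inv_eq, mul_smul, mul_smul, huta, hsa, hua]
  have hds' : Commute d s' := by
    have h1 : Commute (u * d⁻¹ * u⁻¹) (u * s * u⁻¹) := by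
      show u * d⁻¹ * u⁻¹ * (u * s * u⁻¹) = u * s * u⁻¹ * (u * d⁻¹ * u⁻¹)
      rw [conj_mul, conj_mul, (show Commute d s from hds).inv_left.eq]
    rwa [← conj_inv, hinv, inv_inv] at h1
  obtain ⟨m, hw, hwc⟩ := exists_conjugating hS hs (hs.conj u) hsa hs'b (ta_ne hS).symm
  set w := s * (s * s') ^ m with hwdef
  have hwd : Commute d w := (show Commute d s from hds).mul_right ((Commute.mul_right hds hds').pow_right m)
  have hwa : w • a = t • a := fixed_unique hS (hs.conj u)
    (by show s' • (w • a) = w • a; rw [hs', ← hwc, mul_smul, mul_smul, inv_smul_smul, hsa]) hs'b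
  have hxD : u * w ∈ twoStab a t := Subgroup.mem_inf.2
    ⟨by rw [mem_stabilizer_iff, mul_smul, hwa, huta],
     by rw [mem_stabilizer_iff, mul_smul, ← hwa, ← mul_smul w w a, hw.2, one_smul, hua, hwa]⟩
  refine eq_one_of_conj_inv (odd_orderOf hS.odd_card hd) (odd_orderOf hS.odd_card hxD) ?_
  calc u * w * d * (u * w)⁻¹ = u * (w * d * w⁻¹) * u⁻¹ := by group
    _ = d⁻¹ := by rw [hwd.symm.eq, mul_inv_cancel_right, hinv]

theorem eq_one_of_inverted_commute {k s : G} (hk : k ∈ Cfsg.invertedBy (twoStab a t) t) (hs : IsInvol s)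
    (hsa : s • a = a) (hks : k * s = s * k) : k = 1 :=
  key_trivial hS hk.1 hs hsa hks (t_invol hS) rfl hk.2

/-- Conjugation of a fixed involution of `G_a` by inverted elements is injective. -/
theorem inverted_conj_inj {s k k' : G} (hs : IsInvol s) (hsa : s • a = a)
    (hk : k ∈ Cfsg.invertedBy (twoStab a t) t) (hk' : k' ∈ Cfsg.invertedBy (twoStab a t) t)
    (h : k⁻¹ * s * k = k'⁻¹ * s * k') : k = k' := by
  have hd : k' * k⁻¹ ∈ twoStab a t := mul_mem hk'.1 (inv_mem hk.1)
  have hds : (k' * k⁻¹) * s = s * (k' * k⁻¹) := by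
    calc (k' * k⁻¹) * s = k' * (k⁻¹ * s * k) * k⁻¹ := by group
      _ = s * (k' * k⁻¹) := by rw [h]; group
  obtain ⟨hu, hua⟩ := swap_of_inverted hS (inv_mem_inverted hS hk)
  have hua' : (t * k⁻¹)⁻¹ = t * k⁻¹ := hu.inv_eq
  have h1 : k * t = t * k⁻¹ := by rw [← hua', mul_inv_rev, inv_inv, inv_t hS]
  refine (mul_inv_eq_one.1 (key_trivial hS hd hs hsa hds hu hua ?_)).symm
  rw [← h1]
  calc k * t * (k' * k⁻¹) * (k * t)⁻¹ = k * ((t * k' * t⁻¹) * (t * k * t⁻¹)⁻¹) * k⁻¹ := by group
    _ = (k' * k⁻¹)⁻¹ := by rw [hk'.2, hk.2]; group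

theorem conj_mem_involutionsIn {s d : G} (hs : s ∈ Cfsg.involutionsIn (stabilizer G a : Set G))
    (hd : d • a = a) : d⁻¹ * s * d ∈ Cfsg.involutionsIn (stabilizer G a : Set G) := by
  obtain ⟨h1, h2⟩ := (mem_involutionsIn hS).1 hs
  refine (mem_involutionsIn hS).2 ⟨by simpa using h1.conj d⁻¹, ?_⟩
  rw [mul_smul, mul_smul, hd, h2, inv_smul_eq_iff, hd]

theorem card_swap : Nat.card {u : G // IsInvol u ∧ u • a = t • a} =
    Nat.card (Cfsg.invertedBy (twoStab a t) t) :=
  Nat.card_congr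
    { toFun := fun u => ⟨t * u.1, swap_mem_inverted hS u.2.1 u.2.2⟩
      invFun := fun k => ⟨t * k.1, swap_of_inverted hS k.2⟩
      left_inv := fun u => Subtype.ext (by simp [← mul_assoc, hS.mul_self])
      right_inv := fun k => Subtype.ext (by simp [← mul_assoc, hS.mul_self]) }

theorem card_inverted : Nat.card (Cfsg.invertedBy (twoStab a t) t) =
    Nat.card (Cfsg.involutionsIn (stabilizer G a : Set G)) := by
  classical
  have := finite_points hS
  have : Fintype Ω := Fintype.ofFinite Ω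
  have : Fintype G := Fintype.ofFinite G
  set K := Nat.card (Cfsg.invertedBy (twoStab a t) t) with hK
  set N := Nat.card (Cfsg.involutionsIn (stabilizer G a : Set G)) with hN
  have hpair : ∀ c d : Ω, c ≠ d → (Finset.univ.filter fun u : G => IsInvol u ∧ u • c = d).card = K := by
    intro c d hcd
    obtain ⟨g, hgc, hgd⟩ := exists_smul_pair hS hcd (ta_ne hS).symm
    rw [← Fintype.card_subtype, ← Nat.card_eq_fintype_card, hK, ← card_swap hS]
    refine Nat.card_congr (Equiv.subtypeEquiv (MulAut.conj g).toEquiv fun u => ?_)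
    show _ ↔ IsInvol (g * u * g⁻¹) ∧ (g * u * g⁻¹) • a = t • a
    rw [mul_smul, mul_smul, inv_smul_eq_iff.2 hgc.symm, ← hgd, (MulAction.injective g).eq_iff]
    exact and_congr_left fun _ => ⟨fun h => h.conj g, fun h => by simpa [mul_assoc] using h.conj g⁻¹⟩
  have hfix : ∀ c : Ω, (Finset.univ.filter fun u : G => IsInvol u ∧ u • c = c).card = N := by
    intro c
    have := pretransitive hS
    obtain ⟨g, rfl⟩ := MulAction.exists_smul_eq G a c
    rw [← Fintype.card_subtype, ← Nat.card_eq_fintype_card, hN]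
    refine Nat.card_congr (Equiv.subtypeEquiv (MulAut.conj g⁻¹).toEquiv fun u => ?_)
    show _ ↔ g⁻¹ * u * g⁻¹⁻¹ ∈ Cfsg.involutionsIn (stabilizer G a : Set G)
    rw [mem_involutionsIn hS, inv_inv, mul_smul, mul_smul, inv_smul_eq_iff]
    exact and_congr_left fun _ => ⟨fun h => by simpa using h.conj g⁻¹,
      fun h => by simpa [mul_assoc] using h.conj g⟩
  set I := Finset.univ.filter fun u : G => IsInvol u with hI
  have hIcard : I.card = Fintype.card Ω * N := by
    rw [Finset.card_eq_sum_ones]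
    have : ∀ u ∈ I, 1 = ∑ c : Ω, if u • c = c then 1 else 0 := fun u hu => by
      obtain ⟨p, hp, hp'⟩ := existsUnique_fixed hS (Finset.mem_filter.1 hu).2
      rw [Finset.sum_eq_single p (fun c _ hc => if_neg fun h => hc (hp' c h)) (by simp), if_pos hp]
    rw [Finset.sum_congr rfl this, Finset.sum_comm]
    simp only [← Finset.card_filter, hI, Finset.filter_filter, hfix, Finset.sum_const, Finset.card_univ, smul_eq_mul]
  have hmoved : I.card * (Fintype.card Ω - 1) = Fintype.card Ω * (Fintype.card Ω - 1) * K := by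
    have h1 : ∀ u ∈ I, (Fintype.card Ω - 1) = ∑ c : Ω, if u • c ≠ c then 1 else 0 := fun u hu => by
      obtain ⟨p, hp, hp'⟩ := existsUnique_fixed hS (Finset.mem_filter.1 hu).2
      rw [← Finset.card_filter, ← Finset.card_univ, ← Finset.card_erase_of_mem (Finset.mem_univ p)]
      congr 1
      ext c
      simp only [Finset.mem_erase, Finset.mem_univ, and_true, Finset.mem_filter, true_and]
      exact ⟨fun h h' => h (hp' c h'), fun h h' => h (h' ▸ hp)⟩
    rw [← smul_eq_mul, ← Finset.sum_const, Finset.sum_congr rfl h1, Finset.sum_comm]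
    have h2 : ∀ c : Ω, (∑ u ∈ I, if u • c ≠ c then 1 else 0) = (Fintype.card Ω - 1) * K := fun c => by
      rw [← Finset.card_filter, hI, Finset.filter_filter,
        Finset.card_eq_sum_card_fiberwise (f := fun u : G => u • c) (t := Finset.univ.erase c)
          (fun u hu => by simpa using (Finset.mem_filter.1 hu).2.2)]
      rw [Finset.sum_congr rfl (g := fun _ => K) fun d hd => ?_, Finset.sum_const,
        Finset.card_erase_of_mem (Finset.mem_univ c), Finset.card_univ, smul_eq_mul]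
      rw [Finset.filter_filter, ← hpair c d (Finset.mem_erase.1 hd).1.symm]
      congr 1
      ext u
      simp only [Finset.mem_filter, Finset.mem_univ, true_and]
      exact ⟨fun h => ⟨h.1.1, h.2⟩, fun h => ⟨⟨h.1, h.2.symm ▸ (Finset.mem_erase.1 hd).1⟩, h.2⟩⟩
    simp only [h2, Finset.sum_const, Finset.card_univ, smul_eq_mul]
    ring
  rw [hIcard] at hmoved
  have hp : 0 < Fintype.card Ω * (Fintype.card Ω - 1) := by
    have h1 : Fintype.card Ω = Nat.card Q + 1 := by rw [← Nat.card_eq_fintype_card, card_points hS]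
    have := Nat.card_pos (α := Q)
    exact Nat.mul_pos (by omega) (by omega)
  refine (Nat.eq_of_mul_eq_mul_left hp ?_).symm
  rw [← hmoved]; ring

theorem inverted_transitive {s s' : G} (hs : s ∈ Cfsg.involutionsIn (stabilizer G a : Set G))
    (hs' : s' ∈ Cfsg.involutionsIn (stabilizer G a : Set G)) :
    ∃ k ∈ Cfsg.invertedBy (twoStab a t) t, k⁻¹ * s * k = s' := by
  classical
  let f : Cfsg.invertedBy (twoStab a t) t → Cfsg.involutionsIn (stabilizer G a : Set G) := fun k =>
    ⟨k.1⁻¹ * s * k.1, conj_mem_involutionsIn hS hs (Subgroup.mem_inf.1 k.2.1).1⟩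
  have hinj : Function.Injective f := fun k k' h => Subtype.ext
    (inverted_conj_inj hS ((mem_involutionsIn hS).1 hs).1 hs.1 k.2 k'.2 (congrArg Subtype.val h))
  have hbij : Function.Bijective f :=
    (Nat.bijective_iff_injective_and_card f).2 ⟨hinj, card_inverted hS⟩
  obtain ⟨k, hk⟩ := hbij.2 ⟨s', hs'⟩
  exact ⟨k.1, k.2, congrArg Subtype.val hk⟩

end

end Cfsg.Agent.RankOne
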