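import Cfsg.Agent.Lib.RankOne.Reduce
import Cfsg.Agent.Lib.RankOneU3.Unitary

/-!
# The classification of the split rank-one set-up from its last two inputs

The inputs: `Q` is a 2-group, and in the cube case with `G = ⟨Q, t⟩` the set-up is unitary.
-/

set_option autoImplicit false
set_option linter.unusedSectionVars false

namespace Cfsg.Agent.RankOne

open MulAction

universe u v

variable {G : Type u} {Ω : Type v} [Group G] [MulAction G Ω] {a : Ω} {t : G} {Q : Subgroup G}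
variable [Finite G] [FaithfulSMul G Ω] (hS : Cfsg.IsRankOneSetup G Ω a t Q)
  (h2 : ∃ x y : G, x ≠ 1 ∧ y ≠ 1 ∧ x ≠ y ∧ x * x = 1 ∧ y * y = 1 ∧ x * y = y * x)
include hS h2

/-- A unitary set-up generates `PSU₃`. -/
theorem psu_of_unitary (hU : IsUnitary a t Q) : IsPSUThree (qtGroup t Q) := by
  obtain ⟨n, hn2, hn⟩ := qSize_pow hS h2
  obtain ⟨F, _, _, hF, hne⟩ := Lib.RankOneU3.recog_of_unitary hS h2 hU
  rw [hn] at hF hne
  exact ⟨F, inferInstance, inferInstance, n, hn2, hF, hne⟩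

/-- The conclusion, given the unitary case for groups generated by `Q` and `t`. -/
theorem outcome_of_unitary (hP : IsPGroup 2 Q)
    (hUni : ∀ (H : Type u) [Group H] [Finite H] [MulAction H Ω] [FaithfulSMul H Ω] {s : H} {P : Subgroup H},
      Cfsg.IsRankOneSetup H Ω a s P →
      (∃ x y : H, x ≠ 1 ∧ y ≠ 1 ∧ x ≠ y ∧ x * x = 1 ∧ y * y = 1 ∧ x * y = y * x) →
      IsCube a s P → P ⊔ Subgroup.zpowers s = ⊤ → IsUnitary a s P) :
    ∃ L : Subgroup G, L.Normal ∧ Odd L.index ∧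
      ((∃ (F : Type) (_ : Field F) (_ : Fintype F), (∃ n : ℕ, 2 ≤ n ∧ Fintype.card F = 2 ^ n) ∧
          Nonempty (L ≃* Matrix.ProjectiveSpecialLinearGroup (Fin 2) F)) ∨
        Cfsg.Lie.IsoSuzuki L ∨
        (∃ (F : Type) (_ : Field F) (_ : Fintype F) (n : ℕ), 2 ≤ n ∧ Fintype.card F = (2 ^ n) ^ 2 ∧
          Nonempty (L ≃* Cfsg.PSU 3 F (2 ^ n)))) := by
  refine outcome_of_parts hS h2 hP fun hC => ?_
  refine cube_psu_of_top hS h2 hC ?_
  intro H _ _ _ _ s P hS' h2' hC' htop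
  obtain ⟨F, iF, iT, n, hn, hF, ⟨e⟩⟩ := psu_of_unitary hS' h2' (hUni H hS' h2' hC' htop)
  exact ⟨F, iF, iT, n, hn, hF, ⟨(Subgroup.topEquiv.symm.trans (MulEquiv.subgroupCongr htop.symm)).trans e⟩⟩

end Cfsg.Agent.RankOne
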