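import Cfsg.Agent.Lib.RankOne.Centralisers

/-!
# The set-up on the fixed points of a subset of the two-point stabiliser

If `X ⊆ D` fixes at least three points and is centralised by `t`, then the group induced by `C_G(X)` on the
fixed points of `X` satisfies the hypotheses of the split rank-one set-up, with the image of `C_Q(X)` as `Q`.
-/

set_option autoImplicit false
set_option linter.unusedSectionVars false

namespace Cfsg.Agent.RankOne

open MulAction

universe u v

variable {G : Type u} {Ω : Type v} [Group G] [MulAction G Ω]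

/-- The points fixed by a subset of `G`. -/
def FixPts (Ω : Type v) [MulAction G Ω] (X : Set G) : Type v := {c : Ω // ∀ x ∈ X, x • c = c}

theorem smul_fixed {X : Set G} {g : G} (hg : g ∈ Subgroup.centralizer X) {c : Ω}
    (hc : ∀ x ∈ X, x • c = c) : ∀ x ∈ X, x • (g • c) = g • c := fun x hx => by
  rw [← mul_smul, Subgroup.mem_centralizer_iff.1 hg x hx, mul_smul, hc x hx]

instance fixAction (X : Set G) : MulAction (Subgroup.centralizer X) (FixPts Ω X) where
  smul g c := ⟨(g : G) • c.1, smul_fixed g.2 c.2⟩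
  one_smul c := Subtype.ext (one_smul G c.1)
  mul_smul g h c := Subtype.ext (mul_smul (g : G) h c.1)

theorem fix_smul_coe {X : Set G} (g : Subgroup.centralizer X) (c : FixPts Ω X) :
    (g • c).1 = (g : G) • c.1 := rfl

/-- The homomorphism to the permutations of the fixed points. -/
def fixHom (Ω : Type v) [MulAction G Ω] (X : Set G) :
    Subgroup.centralizer X →* Equiv.Perm (FixPts Ω X) :=
  MulAction.toPermHom (Subgroup.centralizer X) (FixPts Ω X)

/-- The group induced by the centraliser on the fixed points. -/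
abbrev fixGroup (Ω : Type v) [MulAction G Ω] (X : Set G) : Subgroup (Equiv.Perm (FixPts Ω X)) :=
  (fixHom Ω X).range

/-- The induced element. -/
def fixElt (Ω : Type v) [MulAction G Ω] (X : Set G) : Subgroup.centralizer X →* fixGroup Ω X :=
  (fixHom Ω X).rangeRestrict

theorem fixElt_surjective (X : Set G) : Function.Surjective (fixElt Ω X) :=
  (fixHom Ω X).rangeRestrict_surjective

theorem fixElt_smul {X : Set G} (g : Subgroup.centralizer X) (c : FixPts Ω X) :
    (fixElt Ω X g • c).1 = (g : G) • c.1 := rfl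

theorem fixElt_eq_one {X : Set G} {g : Subgroup.centralizer X} :
    fixElt Ω X g = 1 ↔ ∀ c : FixPts Ω X, (g : G) • c.1 = c.1 := by
  constructor
  · intro h c
    rw [← fixElt_smul, h, one_smul]
  · intro h
    exact Subtype.ext (Equiv.ext fun c => Subtype.ext (h c))

/-- The image of `C_Q(X)`. -/
def fixQ (Ω : Type v) [MulAction G Ω] (X : Set G) (Q : Subgroup G) : Subgroup (fixGroup Ω X) :=
  (Q.subgroupOf (Subgroup.centralizer X)).map (fixElt Ω X)

theorem mem_fixQ {X : Set G} {Q : Subgroup G} {y : fixGroup Ω X} :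
    y ∈ fixQ Ω X Q ↔ ∃ g : Subgroup.centralizer X, (g : G) ∈ Q ∧ fixElt Ω X g = y := Iff.rfl

variable [Finite G] {a : Ω} {t : G} {Q : Subgroup G} (hS : Cfsg.IsRankOneSetup G Ω a t Q)
  {X : Set G} (hX : X ⊆ (twoStab a t : Set G)) (ht : t ∈ Subgroup.centralizer X)
  (h3 : ∃ b c d : Ω, b ≠ c ∧ b ≠ d ∧ c ≠ d ∧ ∀ x ∈ X, x • b = b ∧ x • c = c ∧ x • d = d)
include hS hX

/-- The base point as a fixed point. -/
def fixBase : FixPts Ω X := ⟨a, fun _ hx => (mem_twoStab hS (hX hx)).1⟩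

theorem fix_finite : Finite (FixPts Ω X) := by
  have := finite_points hS
  exact Subtype.finite

theorem fixQ_inj {g g' : Subgroup.centralizer X} (hg : (g : G) ∈ Q) (hg' : (g' : G) ∈ Q)
    (h : fixElt Ω X g = fixElt Ω X g') : g = g' := by
  let b : FixPts Ω X := ⟨t • a, fun _ hx => (mem_twoStab hS (hX hx)).2⟩
  have e : (g : G) • (t • a) = (g' : G) • (t • a) := by
    rw [← fixElt_smul g b, ← fixElt_smul g' b, h]
  by_cases hne : (g'⁻¹ * g : G) = 1
  · exact Subtype.ext (inv_mul_eq_one.1 hne).symm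
  · refine absurd (eq_a_of_fixed hS (mul_mem (inv_mem hg') hg) hne (c := t • a) ?_) (ta_ne hS)
    rw [mul_smul, e, inv_smul_smul]

theorem card_fixQ : Nat.card (fixQ Ω X Q) = Nat.card ↥(Subgroup.centralizer X ⊓ Q) := by
  symm
  refine Nat.card_eq_of_bijective (fun g : ↥(Subgroup.centralizer X ⊓ Q) =>
    (⟨fixElt Ω X ⟨g.1, g.2.1⟩, ⟨⟨g.1, g.2.1⟩, g.2.2, rfl⟩⟩ : fixQ Ω X Q)) ⟨fun g g' h => ?_, ?_⟩
  · have e := congrArg Subtype.val (fixQ_inj hS hX (g := ⟨g.1, g.2.1⟩) (g' := ⟨g'.1, g'.2.1⟩)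
      g.2.2 g'.2.2 (congrArg Subtype.val h))
    exact Subtype.ext e
  · rintro ⟨_, g, hg, rfl⟩
    exact ⟨⟨g.1, g.2, hg⟩, rfl⟩

include ht

theorem fix_twoStab {g : Subgroup.centralizer X} :
    fixElt Ω X g ∈ twoStab (fixBase hS hX) (fixElt Ω X ⟨t, ht⟩) ↔ (g : G) ∈ twoStab a t := by
  refine ⟨fun h => Subgroup.mem_inf.2 ⟨?_, ?_⟩, fun h => Subgroup.mem_inf.2 ⟨?_, ?_⟩⟩
  · exact congrArg Subtype.val (Subgroup.mem_inf.1 h).1
  · exact congrArg Subtype.val (Subgroup.mem_inf.1 h).2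
  · exact Subtype.ext (mem_twoStab hS h).1
  · exact Subtype.ext (mem_twoStab hS h).2

theorem card_fix_twoStab_dvd :
    Nat.card (twoStab (fixBase hS hX) (fixElt Ω X ⟨t, ht⟩)) ∣
      Nat.card ↥(Subgroup.centralizer X ⊓ twoStab a t) := by
  have e : twoStab (fixBase hS hX) (fixElt Ω X ⟨t, ht⟩) =
      ((twoStab a t).subgroupOf (Subgroup.centralizer X)).map (fixElt Ω X) := by
    ext y
    obtain ⟨g, rfl⟩ := fixElt_surjective X y
    refine ⟨fun h => ⟨g, (fix_twoStab hS hX ht).1 h, rfl⟩, ?_⟩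
    rintro ⟨g', hg', e'⟩
    rw [← e']
    exact (fix_twoStab hS hX ht).2 hg'
  rw [e]
  refine (Subgroup.card_map_dvd _ _).trans (dvd_of_eq ?_)
  rw [← Subgroup.inf_subgroupOf_left]
  exact Nat.card_congr (Subgroup.subgroupOfEquivOfLe inf_le_left).toEquiv

include h3

/-- **The set-up on the fixed points.** -/
theorem fix_setup :
    Cfsg.IsRankOneSetup (fixGroup Ω X) (FixPts Ω X) (fixBase hS hX) (fixElt Ω X ⟨t, ht⟩) (fixQ Ω X Q) := by
  have hbase : ∀ g : Subgroup.centralizer X,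
      fixElt Ω X g ∈ stabilizer (fixGroup Ω X) (fixBase hS hX) ↔ (g : G) • a = a :=
    fun g => ⟨fun h => congrArg Subtype.val h, fun h => Subtype.ext h⟩
  refine ⟨?_, ?_, fun h => ta_ne hS ?_, fun h => ta_ne hS ((hbase _).1 h), ?_, ?_, ?_, ?_, ?_, ?_⟩
  · rw [MulAction.is_two_pretransitive_iff]
    intro b c b' c' hbc hbc'
    obtain ⟨g, hg, g1, g2⟩ := centralizer_two_transitive hS hX h3 (b₁ := b.1) (b₂ := c.1) (c₁ := b'.1)
      (c₂ := c'.1) (fun x hx => ⟨b.2 x hx, c.2 x hx, b'.2 x hx, c'.2 x hx⟩)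
      (fun h => hbc (Subtype.ext h)) (fun h => hbc' (Subtype.ext h))
    exact ⟨fixElt Ω X ⟨g, hg⟩, Subtype.ext g1, Subtype.ext g2⟩
  · rw [← map_mul, show (⟨t, ht⟩ : Subgroup.centralizer X) * ⟨t, ht⟩ = 1 from Subtype.ext hS.mul_self, map_one]
  · exact fixElt_eq_one.1 h (fixBase hS hX)
  · rintro _ ⟨g, hg, rfl⟩
    exact (hbase g).2 (smul_a hS hg)
  · intro h hh x hx
    obtain ⟨g, rfl⟩ := fixElt_surjective X h
    obtain ⟨q, hq, rfl⟩ := mem_fixQ.1 hx
    rw [← map_inv, ← map_mul, ← map_mul]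
    exact mem_fixQ.2 ⟨_, hS.conj_mem g ((hbase g).1 hh) q hq, rfl⟩
  · rw [eq_bot_iff]
    intro y hy
    obtain ⟨h1, h2⟩ := Subgroup.mem_inf.1 hy
    obtain ⟨g, hg, rfl⟩ := mem_fixQ.1 h1
    have e : (g : G) ∈ Q ⊓ stabilizer G (t • a) := Subgroup.mem_inf.2 ⟨hg, congrArg Subtype.val h2⟩
    rw [hS.inf_eq_bot, Subgroup.mem_bot] at e
    rw [Subgroup.mem_bot, show g = 1 from Subtype.ext e, map_one]
  · refine le_antisymm (sup_le ?_ inf_le_left) fun y hy => ?_
    · rintro _ ⟨g, hg, rfl⟩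
      exact (hbase g).2 (smul_a hS hg)
    · obtain ⟨g, rfl⟩ := fixElt_surjective X y
      have hga := (hbase g).1 hy
      obtain ⟨q, hq, d, hd, e⟩ := exists_qd hS (g := (g : G)) hga
      have key : ∀ x ∈ X, x * q * x⁻¹ = q ∧ x * d * x⁻¹ = d := fun x hx => by
        refine qd_unique hS (hS.conj_mem x (mem_twoStab hS (hX hx)).1 q hq) hq
          (mul_mem (mul_mem (hX hx) hd) (inv_mem (hX hx))) hd ?_
        rw [conj_mul, mul_inv_eq_iff_eq_mul, ← e, Subgroup.mem_centralizer_iff.1 g.2 x hx]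
      have hqc : q ∈ Subgroup.centralizer X :=
        Subgroup.mem_centralizer_iff.2 fun x hx => mul_inv_eq_iff_eq_mul.1 (key x hx).1
      have hdc : d ∈ Subgroup.centralizer X :=
        Subgroup.mem_centralizer_iff.2 fun x hx => mul_inv_eq_iff_eq_mul.1 (key x hx).2
      rw [show g = (⟨q, hqc⟩ : Subgroup.centralizer X) * ⟨d, hdc⟩ from Subtype.ext e, map_mul]
      exact mul_mem (Subgroup.mem_sup_left (mem_fixQ.2 ⟨_, hq, rfl⟩))
        (Subgroup.mem_sup_right ((fix_twoStab hS hX ht (g := ⟨d, hdc⟩)).2 hd))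
  · rw [card_fixQ hS hX]
    exact even_centralizer hS hX h3
  · refine Odd.of_dvd_nat (hS.odd_card) ((card_fix_twoStab_dvd hS hX ht).trans ?_)
    exact Subgroup.card_dvd_of_le inf_le_right

omit ht h3 in
/-- The induced group is smaller if some element of `X` centralising `X` is not trivial. -/
theorem card_fixGroup_lt {x : G} (hx : x ∈ X) (hxc : x ∈ Subgroup.centralizer X) (hx1 : x ≠ 1) :
    Nat.card (fixGroup Ω X) < Nat.card G := by
  have hker : (fixHom Ω X).ker ≠ ⊥ := fun h => hx1 (by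
    have hk : (⟨x, hxc⟩ : Subgroup.centralizer X) ∈ (fixHom Ω X).ker :=
      Equiv.ext fun c => Subtype.ext (c.2 x hx)
    rw [h, Subgroup.mem_bot] at hk
    exact congrArg Subtype.val hk)
  have h1 := Subgroup.card_mul_index (fixHom Ω X).ker
  rw [Subgroup.index_ker] at h1
  have h2 : 1 < Nat.card (fixHom Ω X).ker := (Subgroup.one_lt_card_iff_ne_bot _).2 hker
  haveI := fix_finite hS hX
  have h3 : 0 < Nat.card (fixGroup Ω X) := Nat.card_pos
  have h4 := Subgroup.card_le_card_group (Subgroup.centralizer X)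
  nlinarith

omit ht h3 in
theorem fix_faithful : FaithfulSMul (fixGroup Ω X) (FixPts Ω X) :=
  ⟨fun h => Subtype.ext (Equiv.ext h)⟩

end Cfsg.Agent.RankOne
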