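import Cfsg.Agent.Lib.RankOne.InvertedCyclic

/-!
# The Sylow 2-subgroups of `Q`
-/

set_option autoImplicit false
set_option linter.unusedSectionVars false

namespace Cfsg.Agent.RankOne

open MulAction

variable {G Ω : Type*} [Group G] [MulAction G Ω] {a : Ω} {t : G} {Q : Subgroup G}
variable [Finite G] (hS : Cfsg.IsRankOneSetup G Ω a t Q)
include hS

theorem sylow_two_abelian_or_suzuki
    (h2 : ∃ x y : G, x ≠ 1 ∧ y ≠ 1 ∧ x ≠ y ∧ x * x = 1 ∧ y * y = 1 ∧ x * y = y * x)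
    (S : Sylow 2 ↥Q) :
    IsMulCommutative (S : Subgroup ↥Q) ∨ Cfsg.IsSuzukiTwoGroup ↥(S : Subgroup ↥Q) := by
  classical
  haveI := Fact.mk Nat.prime_two
  by_cases hcomm : ∀ x y : (S : Subgroup ↥Q), x * y = y * x
  · exact Or.inl ⟨⟨hcomm⟩⟩
  push Not at hcomm
  refine Or.inr ⟨inferInstance, S.isPGroup', hcomm, ?_⟩
  have := nilpotent_Q hS h2
  have hnorm : (S : Subgroup Q).Normal :=
    Sylow.normal_of_normalizerCondition normalizerCondition_of_isNilpotent S
  letI := Sylow.unique_of_normal S hnorm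
  set P : Subgroup G := (S : Subgroup Q).map Q.subtype with hP
  let e : (S : Subgroup Q) ≃* P := (S : Subgroup Q).equivMapOfInjective _ Q.subtype_injective
  have hle : ∀ R : Subgroup G, R ≤ Q → IsPGroup 2 R → R ≤ P := by
    intro R hR hR2 x hx
    obtain ⟨S', hS'⟩ := (hR2.comap_subtype (K := Q)).exists_le_sylow
    rw [Subsingleton.elim S' S] at hS'
    exact ⟨⟨x, hR hx⟩, hS' hx, rfl⟩
  -- the involutions
  have hJP : ∀ s ∈ Cfsg.involutionsIn (stabilizer G a : Set G), s ∈ P := by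
    intro s hs
    refine hle (Subgroup.zpowers s) (Subgroup.zpowers_le.2 (invol_central hS h2 hs).1) ?_
      (Subgroup.mem_zpowers s)
    exact IsPGroup.of_card (n := 1)
      (by rw [Nat.card_zpowers, IsInvol.orderOf ⟨hs.2.1, hs.2.2⟩, pow_one])
  have hPJ : ∀ x : (S : Subgroup Q), x ≠ 1 → x * x = 1 →
      ((e x : P) : G) ∈ Cfsg.involutionsIn (stabilizer G a : Set G) := by
    intro x hx1 hx2
    refine ⟨hS.le (Subgroup.map_subtype_le _ (e x).2), fun h => hx1 ?_, ?_⟩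
    · exact e.injective (Subtype.ext (by rw [map_one]; exact h))
    · have h := congrArg (fun y : P => (y : G)) (congrArg e hx2)
      simpa using h
  obtain ⟨k₀, hk₀, hiff, -, -⟩ := exists_generator hS h2
  -- the automorphisms
  have hk0n : Subgroup.zpowers k₀ ≤ Subgroup.normalizer (P : Set G) := by
    have hka : ∀ k ∈ Subgroup.zpowers k₀, ∀ x ∈ P, k * x * k⁻¹ ∈ P := by
      intro k hk x hx
      have hkA : k ∈ stabilizer G a := (Subgroup.mem_inf.1 ((hiff k).2 hk).1).1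
      refine hle (P.map (MulAut.conj k).toMonoidHom) ?_ ((S.isPGroup'.map _).map _)
        (Subgroup.mem_map_of_mem _ hx)
      rintro _ ⟨y, hy, rfl⟩
      exact hS.conj_mem k hkA y (Subgroup.map_subtype_le _ hy)
    intro k hk
    rw [Subgroup.mem_normalizer_iff]
    refine fun x => ⟨fun hx => hka k hk x hx, fun hx => ?_⟩
    have h := hka k⁻¹ (inv_mem hk) _ hx
    simpa [mul_assoc] using h
  let ψ : Subgroup.zpowers k₀ →* MulAut (S : Subgroup Q) :=
    (MulAut.congr e.symm).toMonoidHom.comp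
      (P.normalizerMonoidHom.comp (Subgroup.inclusion hk0n))
  have hψ : ∀ (k : Subgroup.zpowers k₀) (x : (S : Subgroup Q)),
      ((e (ψ k x) : P) : G) = (k : G) * (e x : P) * (k : G)⁻¹ := by
    intro k x
    show ((e (e.symm ((P.normalizerMonoidHom (Subgroup.inclusion hk0n k)) (e x))) : P) : G) = _
    rw [MulEquiv.apply_symm_apply]
    rfl
  obtain ⟨s, s', hs, hs', hne, -⟩ := two_invol_fixing hS h2
  refine ⟨⟨e.symm ⟨s, hJP s hs⟩, e.symm ⟨s', hJP s' hs'⟩,
    fun h => hne (congrArg Subtype.val (e.symm.injective h)), fun h => ?_, ?_, fun h => ?_, ?_⟩,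
    ψ.range, isCyclic_of_surjective ψ.rangeRestrict ψ.rangeRestrict_surjective, ?_⟩
  · exact hs.2.1 (congrArg Subtype.val (e.symm.injective (h.trans (map_one e.symm).symm)))
  · rw [← map_mul, show (⟨s, hJP s hs⟩ : P) * ⟨s, hJP s hs⟩ = 1 from Subtype.ext hs.2.2, map_one]
  · exact hs'.2.1 (congrArg Subtype.val (e.symm.injective (h.trans (map_one e.symm).symm)))
  · rw [← map_mul, show (⟨s', hJP s' hs'⟩ : P) * ⟨s', hJP s' hs'⟩ = 1 from Subtype.ext hs'.2.2,
      map_one]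
  intro x y hx1 hx2 hy1 hy2
  have hxJ := hPJ x hx1 hx2
  have hyJ := hPJ y hy1 hy2
  obtain ⟨k, hk, hkxy⟩ := inverted_transitive hS hxJ hyJ
  have hkz : k⁻¹ ∈ Subgroup.zpowers k₀ := inv_mem ((hiff k).1 hk)
  refine ⟨⟨ψ ⟨k⁻¹, hkz⟩, _, rfl⟩, ?_, ?_⟩
  · refine e.injective (Subtype.ext ?_)
    show ((e (ψ ⟨k⁻¹, hkz⟩ x) : P) : G) = _
    rw [hψ]
    simpa using hkxy
  · rintro ⟨_, l, rfl⟩ hl
    refine Subtype.ext (congrArg ψ (Subtype.ext ?_))
    show (l : G) = k⁻¹
    have h1 : (l : G) * (e x : P) * (l : G)⁻¹ = (e y : P) := by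
      rw [← hψ]
      exact congrArg (fun z => ((e z : P) : G)) hl
    obtain ⟨hxi, hxa⟩ := (mem_involutionsIn hS).1 hxJ
    rw [← inv_inv (l : G)]
    refine congrArg _ (inverted_conj_inj hS hxi hxa (inv_mem_inverted hS ((hiff _).2 l.2)) hk ?_)
    rw [inv_inv, h1, hkxy]

end Cfsg.Agent.RankOne
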