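import Cfsg.Prelude.Def_LieRecognition
import Mathlib.GroupTheory.OrderOfElement
import Mathlib.GroupTheory.Sylow

/-!
# An involution acting on a group of odd order
-/

set_option autoImplicit false

namespace Cfsg.Agent.RankOne

variable {M : Type*} [Group M]

theorem odd_orderOf [Finite M] {X : Subgroup M} (hodd : Odd (Nat.card X)) {x : M} (hx : x ∈ X) :
    Odd (orderOf x) :=
  Odd.of_dvd_nat hodd (by
    have := orderOf_dvd_natCard (⟨x, hx⟩ : X)
    rwa [← Subgroup.orderOf_coe] at this)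

/-- Square roots in groups of odd order are unique. -/
theorem sq_inj {x y : M} (hx : Odd (orderOf x)) (hy : Odd (orderOf y)) (h : x * x = y * y) : x = y := by
  have key : ∀ z : M, ∀ k, orderOf z ∣ k → (z * z) ^ ((k + 1) / 2) = z ^ (2 * ((k + 1) / 2)) :=
    fun z k _ => by rw [← pow_two, ← pow_mul]
  set N := orderOf x * orderOf y with hN
  have hodd : Odd N := hx.mul hy
  obtain ⟨c, hc⟩ := hodd
  have h2 : 2 * ((N + 1) / 2) = N + 1 := by omega
  have e1 := key x N (Dvd.intro _ rfl)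
  have e2 := key y N (Dvd.intro_left _ rfl)
  rw [h2, pow_succ, orderOf_dvd_iff_pow_eq_one.1 (Dvd.intro _ rfl : orderOf x ∣ N), one_mul] at e1
  rw [h2, pow_succ, orderOf_dvd_iff_pow_eq_one.1 (Dvd.intro_left _ rfl : orderOf y ∣ N), one_mul] at e2
  rw [← e1, h, e2]

/-- An element of odd order has a square root among its powers. -/
theorem exists_sqrt {x : M} (hx : Odd (orderOf x)) : ∃ m : ℕ, x ^ m * x ^ m = x := by
  obtain ⟨c, hc⟩ := hx
  refine ⟨c + 1, ?_⟩
  rw [← pow_add, show c + 1 + (c + 1) = orderOf x + 1 by omega, pow_succ, pow_orderOf_eq_one, one_mul]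

theorem eq_one_of_conj_inv {x y : M} (hx : Odd (orderOf x)) (hy : Odd (orderOf y))
    (h : y * x * y⁻¹ = x⁻¹) : x = 1 := by
  obtain ⟨m, hm⟩ := exists_sqrt hy
  have hcomm : Commute y (y ^ m) := Commute.pow_right (Commute.refl y) m
  have h2 : Commute (y * y) x := by
    show y * y * x = x * (y * y)
    have e1 : y * (y * x * y⁻¹) * y⁻¹ = x := by
      rw [h, ← conj_inv, h, inv_inv]
    calc y * y * x = (y * (y * x * y⁻¹) * y⁻¹) * (y * y) := by group
      _ = x * (y * y) := by rw [e1]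
  obtain ⟨c, hc⟩ := hy
  have hy2 : Commute y x := by
    have : y = (y * y) ^ (c + 1) := by
      rw [← pow_two, ← pow_mul, show 2 * (c + 1) = orderOf y + 1 by omega, pow_succ, pow_orderOf_eq_one, one_mul]
    rw [this]
    exact h2.pow_left _
  rw [hy2.eq, mul_inv_cancel_right] at h
  exact sq_inj hx (by simp) (by rw [one_mul]; nth_rw 2 [h]; rw [mul_inv_cancel])

variable {t : M}

theorem conj_pow_eq (z : M) (m : ℕ) : t * z ^ m * t⁻¹ = (t * z * t⁻¹) ^ m := conj_pow.symm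

/-- Decomposition of a group of odd order under an involution normalising it. -/
theorem exists_decomp [Finite M] (ht : t * t = 1) {X : Subgroup M} (hodd : Odd (Nat.card X))
    (hnorm : ∀ x ∈ X, t * x * t⁻¹ ∈ X) {x : M} (hx : x ∈ X) :
    ∃ y z : M, y ∈ X ∧ t * y * t⁻¹ = y ∧ z ∈ Cfsg.invertedBy X t ∧ x = y * z := by
  have htt : ∀ w : M, t * (t * w * t⁻¹) * t⁻¹ = w := fun w => by
    calc t * (t * w * t⁻¹) * t⁻¹ = (t * t) * w * (t * t)⁻¹ := by group
      _ = w := by rw [ht]; group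
  set w := (t * x * t⁻¹)⁻¹ * x with hw
  have hwX : w ∈ X := mul_mem (inv_mem (hnorm x hx)) hx
  have hwinv : t * w * t⁻¹ = w⁻¹ := by
    calc t * w * t⁻¹ = (t * (t * x * t⁻¹) * t⁻¹)⁻¹ * (t * x * t⁻¹) := by rw [hw, ← conj_mul, ← conj_inv]
      _ = w⁻¹ := by rw [htt, hw, mul_inv_rev, inv_inv]
  obtain ⟨m, hm⟩ := exists_sqrt (odd_orderOf hodd hwX)
  have hzi : t * w ^ m * t⁻¹ = (w ^ m)⁻¹ := by rw [conj_pow_eq, hwinv, inv_pow]
  refine ⟨x * (w ^ m)⁻¹, w ^ m, mul_mem hx (inv_mem (pow_mem hwX m)), ?_, ⟨pow_mem hwX m, hzi⟩,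
    by group⟩
  calc t * (x * (w ^ m)⁻¹) * t⁻¹ = (t * x * t⁻¹) * (t * w ^ m * t⁻¹)⁻¹ := by group
    _ = x * w⁻¹ * w ^ m := by rw [hzi, hw]; group
    _ = x * (w ^ m * w ^ m)⁻¹ * w ^ m := by rw [hm]
    _ = x * (w ^ m)⁻¹ := by group

/-- Uniqueness of the decomposition. -/
theorem decomp_unique [Finite M] {X : Subgroup M} (hodd : Odd (Nat.card X)) {y y' z z' : M}
    (hyf : t * y * t⁻¹ = y) (hyf' : t * y' * t⁻¹ = y') (hz : z ∈ Cfsg.invertedBy X t)
    (hz' : z' ∈ Cfsg.invertedBy X t) (h : y * z = y' * z') : y = y' ∧ z = z' := by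
  have h1 : y * z⁻¹ = y' * z'⁻¹ := by
    have := congrArg (fun w => t * w * t⁻¹) h
    simpa only [← conj_mul, hyf, hyf', hz.2, hz'.2] using this
  have h2 : z * z = z' * z' := by
    calc z * z = (y * z⁻¹)⁻¹ * (y * z) := by group
      _ = (y' * z'⁻¹)⁻¹ * (y' * z') := by rw [h1, h]
      _ = z' * z' := by group
  have h3 := sq_inj (odd_orderOf hodd hz.1) (odd_orderOf hodd hz'.1) h2
  exact ⟨mul_right_cancel (h3 ▸ h), h3⟩

theorem mem_centralizer_iff_conj {x : M} : x ∈ Subgroup.centralizer {t} ↔ t * x * t⁻¹ = x := by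
  rw [Subgroup.mem_centralizer_singleton_iff, mul_inv_eq_iff_eq_mul]
  exact eq_comm

theorem card_decomp [Finite M] (ht : t * t = 1) (X : Subgroup M) (hodd : Odd (Nat.card X))
    (hnorm : ∀ x ∈ X, t * x * t⁻¹ ∈ X) :
    Nat.card X = Nat.card ↥(X ⊓ Subgroup.centralizer {t}) * Nat.card (Cfsg.invertedBy X t) := by
  rw [← Nat.card_prod]
  refine (Nat.card_eq_of_bijective
    (fun p : ↥(X ⊓ Subgroup.centralizer {t}) × Cfsg.invertedBy X t =>
      (⟨p.1.1 * p.2.1, mul_mem p.1.2.1 p.2.2.1⟩ : X)) ⟨?_, ?_⟩).symm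
  · intro p q h
    obtain ⟨h1, h2⟩ := decomp_unique hodd (mem_centralizer_iff_conj.1 p.1.2.2)
      (mem_centralizer_iff_conj.1 q.1.2.2) p.2.2 q.2.2 (congrArg Subtype.val h)
    exact Prod.ext (Subtype.ext h1) (Subtype.ext h2)
  · rintro ⟨x, hx⟩
    obtain ⟨y, z, hy, hyf, hz, rfl⟩ := exists_decomp ht hodd hnorm hx
    exact ⟨(⟨y, hy, mem_centralizer_iff_conj.2 hyf⟩, ⟨z, hz⟩), rfl⟩

theorem conj_closure_inverted [Finite M] (ht : t * t = 1) (X : Subgroup M) (hodd : Odd (Nat.card X))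
    (hnorm : ∀ x ∈ X, t * x * t⁻¹ ∈ X) {x : M} (hx : x ∈ X) {w : M}
    (hw : w ∈ Subgroup.closure (Cfsg.invertedBy X t)) :
    x * w * x⁻¹ ∈ Subgroup.closure (Cfsg.invertedBy X t) := by
  obtain ⟨y, z, hy, hyf, hz, rfl⟩ := exists_decomp ht hodd hnorm hx
  have hconj : ∀ v ∈ Subgroup.closure (Cfsg.invertedBy X t),
      y * v * y⁻¹ ∈ Subgroup.closure (Cfsg.invertedBy X t) := by
    intro v hv
    induction hv using Subgroup.closure_induction with
    | mem v hv =>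
      refine Subgroup.subset_closure ⟨mul_mem (mul_mem hy hv.1) (inv_mem hy), ?_⟩
      rw [← conj_mul, ← conj_mul, hv.2, hyf, ← conj_inv, hyf]
      group
    | one => simp
    | mul v v' _ _ h h' => rw [← conj_mul]; exact mul_mem h h'
    | inv v _ h => rw [← conj_inv]; exact inv_mem h
  have hz' := Subgroup.subset_closure hz
  have := hconj _ (mul_mem (mul_mem hz' hw) (inv_mem hz'))
  rwa [show y * z * w * (y * z)⁻¹ = y * (z * w * z⁻¹) * y⁻¹ by group]

end Cfsg.Agent.RankOne
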