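import Cfsg.Agent.Lib.RankOne.FieldMaps
import Cfsg.Agent.Lib.TransLinear.Basic
import Mathlib.Algebra.Module.ZMod
import Mathlib.FieldTheory.Finite.Basic
import Mathlib.Algebra.Ring.Subring.Basic
import Mathlib.Algebra.GroupWithZero.Action.Basic

/-!
# Stabilisers in a semilinear group on a module of order `2 ^ n`
-/

set_option autoImplicit false
set_option linter.style.haveILetI false
set_option linter.unusedSectionVars false

namespace Cfsg.Agent.RankOne

variable {D E : Type*} [Group D] [Finite D] [AddCommGroup E] [Finite E] [Nontrivial E]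
  [DistribMulAction D E] [FaithfulSMul D E]

/-- With a normal commutative transitive subgroup, a stabiliser embeds in the Galois group. -/
theorem stabilizer_card_le (hE : ∀ e : E, 2 • e = 0) (F : Subgroup D) [hFn : F.Normal]
    (hFc : ∀ g ∈ F, ∀ f ∈ F, g * f = f * g)
    (hFt : ∀ a b : E, a ≠ 0 → b ≠ 0 → ∃ d ∈ F, d • a = b) {s : E} (hs : s ≠ 0) {n : ℕ}
    (hn : Nat.card E = 2 ^ n) {V : Subgroup D} (hV : ∀ v ∈ V, v • s = s) : Nat.card V ≤ n := by
  classical
  haveI : Finite (AddMonoid.End E) :=
    Finite.of_injective (fun f => (f : E → E)) DFunLike.coe_injective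
  let ι := DistribMulAction.toAddMonoidEnd D E
  let R : Subring (AddMonoid.End E) := Subring.centralizer (ι '' (F : Set D))
  have hR : ∀ {r : AddMonoid.End E}, r ∈ R ↔ ∀ f ∈ F, ∀ e : E, f • r e = r (f • e) := by
    intro r
    rw [Subring.mem_centralizer_iff]
    constructor
    · intro h f hf e
      exact DFunLike.congr_fun (h _ ⟨f, hf, rfl⟩) e
    · rintro h _ ⟨f, hf, rfl⟩
      exact AddMonoidHom.ext (h f hf)
  have hdet : ∀ r : R, (r : AddMonoid.End E) s = 0 → r = 0 := by
    intro r hr
    refine Subtype.ext (AddMonoidHom.ext fun e => ?_)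
    show (r : AddMonoid.End E) e = 0
    by_cases he : e = 0
    · rw [he]; exact map_zero _
    obtain ⟨f, hf, rfl⟩ := hFt s e hs he
    rw [← hR.1 r.2 f hf, hr, smul_zero]
  haveI : Nontrivial R := ⟨0, 1, fun h => hs (DFunLike.congr_fun (congrArg Subtype.val h) s).symm⟩
  haveI : NoZeroDivisors R := ⟨fun {r r'} h => by
    by_cases hr' : r' = 0
    · exact Or.inr hr'
    refine Or.inl (Subtype.ext (AddMonoidHom.ext fun e => ?_))
    show (r : AddMonoid.End E) e = 0
    by_cases he : e = 0
    · rw [he]; exact map_zero _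
    obtain ⟨f, hf, hfe⟩ := hFt ((r' : AddMonoid.End E) s) e (fun h0 => hr' (hdet r' h0)) he
    rw [← hfe, hR.1 r'.2 f hf]
    exact DFunLike.congr_fun (congrArg Subtype.val h) (f • s)⟩
  haveI : IsDomain R := NoZeroDivisors.to_isDomain R
  letI : Field R := (Finite.isDomain_to_isField R).toField
  haveI : CharP R 2 := CharTwo.of_one_ne_zero_of_two_eq_zero one_ne_zero (by
    refine Subtype.ext (AddMonoidHom.ext fun e => ?_)
    rw [← one_add_one_eq_two]
    show e + e = 0
    rw [← two_nsmul, hE])
  have hcinv : ∀ (v : D) (r : AddMonoid.End E), r ∈ R → ι v * r * ι v⁻¹ ∈ R := by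
    intro v r hr
    refine hR.2 fun f hf e => ?_
    show f • v • r (v⁻¹ • e) = v • r (v⁻¹ • f • e)
    have h1 : f • v • r (v⁻¹ • e) = v • (v⁻¹ * f * v) • r (v⁻¹ • e) := by
      rw [← mul_smul, ← mul_smul]
      congr 1
      group
    rw [h1, hR.1 hr _ (by simpa using hFn.conj_mem f hf v⁻¹), ← mul_smul, ← mul_smul]
    congr 3
    group
  have hvv : ∀ v : D, ι v * ι v⁻¹ = 1 ∧ ι v⁻¹ * ι v = 1 := fun v =>
    ⟨by rw [← map_mul, mul_inv_cancel, map_one], by rw [← map_mul, inv_mul_cancel, map_one]⟩
  let ψ : D →* (R ≃+* R) :=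
    { toFun := fun v =>
        { toFun := fun r => ⟨ι v * (r : AddMonoid.End E) * ι v⁻¹, hcinv v r r.2⟩
          invFun := fun r => ⟨ι v⁻¹ * (r : AddMonoid.End E) * ι v, by
            have h := hcinv v⁻¹ r r.2
            rwa [inv_inv] at h⟩
          left_inv := fun r => Subtype.ext (by
            show ι v⁻¹ * (ι v * (r : AddMonoid.End E) * ι v⁻¹) * ι v = r
            simp only [← mul_assoc, (hvv v).2, one_mul]
            rw [mul_assoc, (hvv v).2, mul_one])
          right_inv := fun r => Subtype.ext (by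
            show ι v * (ι v⁻¹ * (r : AddMonoid.End E) * ι v) * ι v⁻¹ = r
            simp only [← mul_assoc, (hvv v).1, one_mul]
            rw [mul_assoc, (hvv v).1, mul_one])
          map_mul' := fun r r' => Subtype.ext (by
            show ι v * ((r : AddMonoid.End E) * r') * ι v⁻¹ =
              ι v * (r : AddMonoid.End E) * ι v⁻¹ * (ι v * (r' : AddMonoid.End E) * ι v⁻¹)
            rw [show ι v * (r : AddMonoid.End E) * ι v⁻¹ * (ι v * (r' : AddMonoid.End E) * ι v⁻¹) =
              ι v * (r : AddMonoid.End E) * (ι v⁻¹ * ι v) * r' * ι v⁻¹ by simp only [mul_assoc],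
              (hvv v).2, mul_one]
            simp only [mul_assoc])
          map_add' := fun r r' => Subtype.ext (by
            show ι v * ((r : AddMonoid.End E) + r') * ι v⁻¹ = _
            rw [mul_add, add_mul]
            rfl) }
      map_one' := RingEquiv.ext fun r => Subtype.ext (by
        show ι 1 * (r : AddMonoid.End E) * ι (1⁻¹ : D) = r
        rw [inv_one, map_one, one_mul, mul_one])
      map_mul' := fun v w => RingEquiv.ext fun r => Subtype.ext (by
        show ι (v * w) * (r : AddMonoid.End E) * ι (v * w)⁻¹ =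
          ι v * (ι w * (r : AddMonoid.End E) * ι w⁻¹) * ι v⁻¹
        rw [mul_inv_rev, map_mul, map_mul]
        simp only [mul_assoc]) }
  have hinj : Function.Injective (ψ.comp V.subtype) := by
    intro v w hvw
    have h1 : ψ v = ψ w := hvw
    -- `u` commutes with `F` and fixes `s`
    have h2 : ψ ((w : D)⁻¹ * v) = 1 := by rw [map_mul, h1, ← map_mul, inv_mul_cancel, map_one]
    set u : D := (w : D)⁻¹ * v with hu
    have husfix : u • s = s := hV _ (V.mul_mem (V.inv_mem w.2) v.2)
    have huF : ∀ f ∈ F, u * f * u⁻¹ = f := by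
      intro f hf
      have hfR : ι f ∈ R := hR.2 fun g hg e => by
        show g • f • e = f • g • e
        rw [← mul_smul, ← mul_smul,
          show g * f = f * g from hFc g hg f hf]
      have h3 : ι u * ι f * ι u⁻¹ = ι f := congrArg Subtype.val (RingEquiv.congr_fun h2 ⟨ι f, hfR⟩)
      refine eq_of_smul_eq_smul (α := E) fun e => ?_
      rw [mul_smul, mul_smul]
      exact DFunLike.congr_fun h3 e
    have hu1 : u = 1 := eq_of_smul_eq_smul (α := E) fun e => by
      rw [one_smul]
      by_cases he : e = 0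
      · rw [he, smul_zero]
      obtain ⟨f, hf, rfl⟩ := hFt s e hs he
      rw [← mul_smul, show u * f = f * u from mul_inv_eq_iff_eq_mul.1 (huF f hf), mul_smul, husfix]
    exact Subtype.ext (inv_mul_eq_one.1 hu1).symm
  haveI : Fintype R := Fintype.ofFinite R
  haveI : Finite (R ≃+* R) := Finite.of_injective (fun σ => (σ : R → R)) DFunLike.coe_injective
  have hcard : Nat.card R = Nat.card E := by
    refine Nat.card_eq_of_bijective (fun r : R => (r : AddMonoid.End E) s) ⟨fun r r' h => ?_, fun x => ?_⟩
    · refine sub_eq_zero.1 (hdet _ ?_)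
      show (r : AddMonoid.End E) s - (r' : AddMonoid.End E) s = 0
      exact sub_eq_zero.2 h
    · by_cases hx : x = 0
      · exact ⟨0, hx ▸ rfl⟩
      obtain ⟨f, hf, rfl⟩ := hFt s x hs hx
      exact ⟨⟨ι f, hR.2 fun g hg e => by
        show g • f • e = f • g • e
        rw [← mul_smul, ← mul_smul, hFc g hg f hf]⟩, rfl⟩
  have haut : n = Nat.card (R ≃+* R) :=
    Nat.pow_right_injective le_rfl (by
      show 2 ^ n = 2 ^ Nat.card (R ≃+* R)
      rw [← hn, ← hcard, Nat.card_eq_fintype_card, FieldMaps.card_aut])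
  rw [haut]
  exact Nat.card_le_card_of_injective _ hinj

end Cfsg.Agent.RankOne
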