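import Cfsg.Agent.Lib.RankOne.SmallQCases
import Cfsg.Agent.Lib.RankOne.AbelianField

/-!
# Fixed points of the two-point stabiliser on the involutions, for an abelian 2-group `Q`
-/

set_option autoImplicit false
set_option linter.style.haveILetI false
set_option linter.unusedSectionVars false

namespace Cfsg.Agent.RankOne

open MulAction

variable {G Ω : Type*} [Group G] [MulAction G Ω] {a : Ω} {t : G} {Q : Subgroup G}
variable [Finite G] (hS : Cfsg.IsRankOneSetup G Ω a t Q)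
  (h2 : ∃ x y : G, x ≠ 1 ∧ y ≠ 1 ∧ x ≠ y ∧ x * x = 1 ∧ y * y = 1 ∧ x * y = y * x)
  (hc : ∀ x ∈ Q, ∀ y ∈ Q, x * y = y * x)
include hS h2

theorem mem_invSub_of_sq_abelian {x : G} (hx : x ∈ Q) (hsq : x * x = 1) : x ∈ invSub hS h2 := by
  by_cases h1 : x = 1
  · exact Or.inl h1
  · exact Or.inr ((mem_involutionsIn hS).2 ⟨⟨h1, hsq⟩, smul_a hS hx⟩)

theorem sq_of_mem_invSub {x : G} (hx : x ∈ invSub hS h2) : x * x = 1 := by
  rcases hx with rfl | hx
  · exact one_mul 1
  · exact hx.2.2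

include hc in
/-- An element of `D` centralising the involutions is trivial. -/
theorem eq_one_of_fix_invols [FaithfulSMul G Ω] (hQ2 : IsPGroup 2 Q) {d : G} (hd : d ∈ twoStab a t)
    (hfix : ∀ x ∈ invSub hS h2, d * x = x * d) : d = 1 := by
  have hodd := odd_orderOf hS.odd_card hd
  have hda : d ∈ stabilizer G a := (Subgroup.mem_inf.1 hd).1
  have key : ∀ i : ℕ, ∀ x ∈ Q, x ^ 2 ^ i = 1 → d * x = x * d := by
    intro i
    induction i with
    | zero => intro x _ h; rw [pow_zero, pow_one] at h; rw [h, one_mul, mul_one]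
    | succ i ih =>
      intro x hx h
      rw [pow_succ', pow_mul, pow_two] at h
      have hsq := ih (x * x) (mul_mem hx hx) h
      set y := d * x * d⁻¹ * x⁻¹ with hy
      have hconj : d * x * d⁻¹ ∈ Q := hS.conj_mem d hda x hx
      have hyA : y ∈ invSub hS h2 := by
        refine mem_invSub_of_sq_abelian hS h2 (mul_mem hconj (inv_mem hx)) ?_
        calc y * y = (d * x * d⁻¹) * (x⁻¹ * (d * x * d⁻¹)) * x⁻¹ := by rw [hy]; group
          _ = (d * x * d⁻¹) * ((d * x * d⁻¹) * x⁻¹) * x⁻¹ := by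
            rw [hc _ (inv_mem hx) _ hconj]
          _ = (d * (x * x) * d⁻¹) * (x * x)⁻¹ := by group
          _ = 1 := by rw [hsq]; group
      have hdy := hfix y hyA
      have hpow : ∀ m : ℕ, d ^ m * x * (d ^ m)⁻¹ = y ^ m * x := by
        intro m
        induction m with
        | zero => simp
        | succ m ihm =>
          calc d ^ (m + 1) * x * (d ^ (m + 1))⁻¹ = d * (d ^ m * x * (d ^ m)⁻¹) * d⁻¹ := by
                rw [pow_succ']; group
            _ = (d * y ^ m) * x * d⁻¹ := by rw [ihm]; group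
            _ = y ^ m * (d * x * d⁻¹ * x⁻¹) * x := by
                rw [((show Commute d y from hdy).pow_right m).eq]; group
            _ = y ^ (m + 1) * x := by rw [← hy, pow_succ]
      have h1 := hpow (orderOf d)
      rw [pow_orderOf_eq_one, one_mul, inv_one, mul_one] at h1
      have h2' : y ^ orderOf d = 1 := mul_eq_right.1 h1.symm
      obtain ⟨c, hcc⟩ := hodd
      rw [hcc, pow_succ, pow_mul, pow_two, sq_of_mem_invSub hS h2 hyA, one_pow, one_mul] at h2'
      rw [hy, mul_inv_eq_one] at h2'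
      exact mul_inv_eq_iff_eq_mul.1 h2'
  refine eq_of_smul_eq_smul (α := Ω) fun c => ?_
  rw [one_smul]
  by_cases hca : c = a
  · rw [hca]; exact (mem_twoStab hS hd).1
  obtain ⟨q, hq, rfl⟩ := exists_q_smul hS hca
  obtain ⟨i, hi⟩ := hQ2 ⟨q, hq⟩
  have hdq := key i q hq (by simpa using congrArg Subtype.val hi)
  rw [← mul_smul, hdq, mul_smul, (mem_twoStab hS hd).2]

include hc in
/-- The fixed points of a nontrivial element form a subgroup of order at most `√q`. -/
theorem fix_sq_le [FaithfulSMul G Ω] (hQ2 : IsPGroup 2 Q) {d : G} (hd : d ∈ twoStab a t) (hd1 : d ≠ 1) :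
    Nat.card ↥(invSub hS h2 ⊓ Subgroup.centralizer {d}) *
      Nat.card ↥(invSub hS h2 ⊓ Subgroup.centralizer {d}) ≤ Nat.card (invSub hS h2) := by
  classical
  set A := invSub hS h2 with hA
  set R := A ⊓ Subgroup.centralizer {d} with hR
  by_cases hR1 : ∀ x ∈ R, x = 1
  · rw [(Subgroup.eq_bot_iff_forall R).2 hR1, Subgroup.card_bot, one_mul]
    exact Nat.card_pos
  push Not at hR1
  obtain ⟨u, huR, hu1⟩ := hR1
  obtain ⟨huA, hud⟩ := Subgroup.mem_inf.1 huR
  have hud' : d * u = u * d := (Subgroup.mem_centralizer_singleton_iff.1 hud).symm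
  have huI := huA.resolve_left hu1
  obtain ⟨hui, hua⟩ := (mem_involutionsIn hS).1 huI
  obtain ⟨w, hwA, hwd⟩ : ∃ w ∈ A, d * w ≠ w * d := by
    by_contra h
    push Not at h
    exact hd1 (eq_one_of_fix_invols hS h2 hc hQ2 hd h)
  -- the inverted element carrying `u` to a fixed point
  have hcar : ∀ x : R, ∃ k : G, k ∈ Cfsg.invertedBy (twoStab a t) t ∧
      ((x : G) ≠ 1 → k⁻¹ * u * k = x ∧ d * k = k * d) := by
    intro x
    by_cases hx1 : (x : G) = 1
    · exact ⟨1, ⟨one_mem _, by group⟩, fun h => absurd hx1 h⟩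
    obtain ⟨hxA, hxd⟩ := Subgroup.mem_inf.1 x.2
    have hxd' : d * x = x * d := (Subgroup.mem_centralizer_singleton_iff.1 hxd).symm
    obtain ⟨k, hk, hkx⟩ := inverted_transitive hS huI (hxA.resolve_left hx1)
    refine ⟨k, hk, fun _ => ⟨hkx, ?_⟩⟩
    have hk' : d * k * d⁻¹ ∈ Cfsg.invertedBy (twoStab a t) t :=
      (mem_invK hS h2).1 (conj_mem_invK hS h2 hd (Subgroup.subset_closure hk))
    refine mul_inv_eq_iff_eq_mul.1 (inverted_conj_inj hS hui hua hk' hk ?_)
    calc (d * k * d⁻¹)⁻¹ * u * (d * k * d⁻¹) = d * k⁻¹ * (d⁻¹ * (u * d)) * k * d⁻¹ := by group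
      _ = d * (k⁻¹ * u * k) * d⁻¹ := by rw [← hud']; group
      _ = k⁻¹ * u * k := by rw [hkx, hxd', mul_inv_cancel_right]
  choose κ hκ hκx using hcar
  let y : R → G := fun x => if (x : G) = 1 then 1 else (κ x)⁻¹ * w * κ x
  have hyA : ∀ x, y x ∈ A := by
    intro x
    simp only [y]
    split_ifs with h
    · exact one_mem _
    · simpa using conj_mem_invSub hS h2 (inv_mem (hκ x).1) hwA
  set ω := d * w * d⁻¹ * w⁻¹ with hω
  have hdA : d * w * d⁻¹ ∈ A := conj_mem_invSub hS h2 hd hwA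
  have hω1 : ω ≠ 1 := fun h => hwd (mul_inv_eq_iff_eq_mul.1 (mul_inv_eq_one.1 h))
  have hωI := (mul_mem hdA (inv_mem hwA) : ω ∈ A).resolve_left hω1
  obtain ⟨hωi, hωa⟩ := (mem_involutionsIn hS).1 hωI
  let ψ : G → G := fun z => d * z * d⁻¹ * z⁻¹
  have hψ : ∀ x : R, (x : G) ≠ 1 → ψ (y x) = (κ x)⁻¹ * ω * κ x := by
    intro x hx
    have hk : Commute d (κ x) := (hκx x hx).2
    simp only [ψ, y, if_neg hx]
    rw [hω]
    have h1 : d * (κ x)⁻¹ = (κ x)⁻¹ * d := hk.inv_right.eq
    have h3 : κ x * d⁻¹ = d⁻¹ * κ x := hk.inv_left.eq.symm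
    calc d * ((κ x)⁻¹ * w * κ x) * d⁻¹ * ((κ x)⁻¹ * w * κ x)⁻¹
        = (d * (κ x)⁻¹) * w * (κ x * d⁻¹) * (κ x)⁻¹ * w⁻¹ * κ x := by group
      _ = _ := by rw [h1, h3]; group
  have hψR : ∀ (z : R) (x : R), ψ ((z : G) * y x) = ψ (y x) := by
    intro z x
    have hzd : d * (z : G) = z * d :=
      (Subgroup.mem_centralizer_singleton_iff.1 (Subgroup.mem_inf.1 z.2).2).symm
    have hyd : d * y x * d⁻¹ ∈ A := conj_mem_invSub hS h2 hd (hyA x)
    have hcomm := invSub_comm hS h2 (Subgroup.mem_inf.1 z.2).1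
      (invSub_le_Q hS h2 (mul_mem hyd (inv_mem (hyA x))))
    simp only [ψ]
    calc d * ((z : G) * y x) * d⁻¹ * ((z : G) * y x)⁻¹
        = (d * z) * y x * d⁻¹ * (y x)⁻¹ * (z : G)⁻¹ := by group
      _ = ((z : G) * (d * y x * d⁻¹ * (y x)⁻¹)) * (z : G)⁻¹ := by rw [hzd]; group
      _ = _ := by rw [hcomm, mul_inv_cancel_right]
  rw [← Nat.card_prod]
  refine Nat.card_le_card_of_injective
    (fun p : R × R => (⟨(p.1 : G) * y p.2, mul_mem (Subgroup.mem_inf.1 p.1.2).1 (hyA p.2)⟩ : A)) ?_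
  rintro ⟨z, x⟩ ⟨z', x'⟩ h
  have he : (z : G) * y x = z' * y x' := congrArg Subtype.val h
  have hψe : ψ (y x) = ψ (y x') := by rw [← hψR z x, he, hψR]
  have hψ1 : ∀ x : R, (x : G) = 1 → ψ (y x) = 1 := fun x hx => by
    simp only [ψ, y, if_pos hx]; group
  have hxx : x = x' := by
    by_cases hx : (x : G) = 1 <;> by_cases hx' : (x' : G) = 1
    · exact Subtype.ext (hx.trans hx'.symm)
    · rw [hψ1 x hx, hψ x' hx'] at hψe
      exact absurd (conj_eq_one_iff.1 (show (κ x')⁻¹ * ω * (κ x')⁻¹⁻¹ = 1 by rw [inv_inv]; exact hψe.symm)) hω1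
    · rw [hψ1 x' hx', hψ x hx] at hψe
      exact absurd (conj_eq_one_iff.1 (show (κ x)⁻¹ * ω * (κ x)⁻¹⁻¹ = 1 by rw [inv_inv]; exact hψe)) hω1
    · rw [hψ x hx, hψ x' hx'] at hψe
      have hk := inverted_conj_inj hS hωi hωa (hκ x) (hκ x') hψe
      exact Subtype.ext (by rw [← (hκx x hx).1, ← (hκx x' hx').1, hk])
  subst hxx
  exact Prod.ext (Subtype.ext (mul_right_cancel he)) rfl

/-- All centralisers of involutions in `D` have the order of `C_D(t)`. -/
theorem card_centralizer_eq {u : G} (hu : u ∈ Cfsg.involutionsIn (stabilizer G a : Set G)) :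
    Nat.card ↥(twoStab a t ⊓ Subgroup.centralizer {u}) =
      Nat.card ↥(twoStab a t ⊓ Subgroup.centralizer {t}) := by
  obtain ⟨⟨s, r⟩, ⟨hs, hr, heq⟩, -⟩ := structure_equation hS
  rw [centralizer_t_eq hS hs hr heq]
  obtain ⟨k, hk, rfl⟩ := inverted_transitive hS hs hu
  refine Nat.card_congr
    { toFun := fun d => ⟨k * d * k⁻¹, Subgroup.mem_inf.2 ⟨mul_mem (mul_mem hk.1 d.2.1) (inv_mem hk.1), ?_⟩⟩
      invFun := fun d => ⟨k⁻¹ * d * k, Subgroup.mem_inf.2 ⟨mul_mem (mul_mem (inv_mem hk.1) d.2.1) hk.1, ?_⟩⟩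
      left_inv := fun d => Subtype.ext (by simp [mul_assoc])
      right_inv := fun d => Subtype.ext (by simp [mul_assoc]) }
  · rw [Subgroup.mem_centralizer_singleton_iff]
    have h : (d : G) * (k⁻¹ * s * k) = k⁻¹ * s * k * (d : G) :=
      Subgroup.mem_centralizer_singleton_iff.1 d.2.2
    calc k * (d : G) * k⁻¹ * s = k * ((d : G) * (k⁻¹ * s * k)) * k⁻¹ := by group
      _ = s * (k * (d : G) * k⁻¹) := by rw [h]; group
  · rw [Subgroup.mem_centralizer_singleton_iff]
    have h : (d : G) * s = s * (d : G) := Subgroup.mem_centralizer_singleton_iff.1 d.2.2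
    calc k⁻¹ * (d : G) * k * (k⁻¹ * s * k) = k⁻¹ * ((d : G) * s) * k := by group
      _ = k⁻¹ * s * k * (k⁻¹ * (d : G) * k) := by rw [h]; group

include hc in
/-- `C_D(t)` embeds in the Galois group of the field on the involutions. -/
theorem card_V_le [FaithfulSMul G Ω] (hQ2 : IsPGroup 2 Q) {n : ℕ}
    (hn : Nat.card (invSub hS h2) = 2 ^ n) :
    Nat.card ↥(twoStab a t ⊓ Subgroup.centralizer {t}) ≤ n := by
  classical
  obtain ⟨⟨s, r⟩, ⟨hs, hr, heq⟩, -⟩ := structure_equation hS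
  rw [centralizer_t_eq hS hs hr heq]
  letI : CommGroup (invSub hS h2) :=
    { (inferInstance : Group (invSub hS h2)) with
      mul_comm := fun x y => Subtype.ext (invSub_comm hS h2 x.2 (invSub_le_Q hS h2 y.2)) }
  let E := Additive (invSub hS h2)
  letI : DistribMulAction (twoStab a t) E :=
    { smul := fun d x => Additive.ofMul (invAct hS h2 d (Additive.toMul x))
      one_smul := fun x => by
        show Additive.ofMul (invAct hS h2 1 (Additive.toMul x)) = x
        rw [map_one]; rfl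
      mul_smul := fun d d' x => by
        show Additive.ofMul (invAct hS h2 (d * d') (Additive.toMul x)) = _
        rw [map_mul]; rfl
      smul_zero := fun d => map_one (invAct hS h2 d)
      smul_add := fun d x y => map_mul (invAct hS h2 d) _ _ }
  have hsmul : ∀ (d : twoStab a t) (x : E),
      ((Additive.toMul (d • x) : invSub hS h2) : G) =
        (d : G) * ((Additive.toMul x : invSub hS h2) : G) * (d : G)⁻¹ := fun d x => rfl
  haveI : FaithfulSMul (twoStab a t) E := ⟨fun {d d'} h => by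
    refine (inv_mul_eq_one.1 (Subtype.ext (eq_one_of_fix_invols hS h2 hc hQ2 (d'⁻¹ * d).2 fun x hx => ?_))).symm
    have h1 : (d'⁻¹ * d) • (Additive.ofMul ⟨x, hx⟩ : E) = Additive.ofMul ⟨x, hx⟩ := by
      rw [mul_smul, h, inv_smul_smul]
    have h3 := hsmul (d'⁻¹ * d) (Additive.ofMul ⟨x, hx⟩)
    rw [h1] at h3
    exact mul_inv_eq_iff_eq_mul.1 h3.symm⟩
  haveI : Finite E := inferInstanceAs (Finite (invSub hS h2))
  have hsA : s ∈ invSub hS h2 := Or.inr hs
  let s₀ : E := Additive.ofMul ⟨s, hsA⟩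
  have hs₀ : s₀ ≠ 0 := fun h =>
    hs.2.1 (congrArg (fun x : E => ((Additive.toMul x : invSub hS h2) : G)) h)
  haveI : Nontrivial E := ⟨⟨s₀, 0, hs₀⟩⟩
  have hmemJ : ∀ e : E, e ≠ 0 →
      ((Additive.toMul e : invSub hS h2) : G) ∈ Cfsg.involutionsIn (stabilizer G a : Set G) := fun e he =>
    (Additive.toMul e).2.resolve_left fun h => he (Additive.toMul.injective (Subtype.ext h))
  have hE : ∀ e : E, 2 • e = 0 := fun e => by
    refine Additive.toMul.injective (Subtype.ext ?_)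
    rw [toMul_nsmul, toMul_zero, OneMemClass.coe_one, SubmonoidClass.coe_pow, pow_two]
    exact sq_of_mem_invSub hS h2 (Additive.toMul e).2
  set F : Subgroup (twoStab a t) := (invK a t).subgroupOf (twoStab a t) with hF
  haveI : F.Normal := ⟨fun f hf d => conj_mem_invK hS h2 d.2 hf⟩
  have hcard := stabilizer_card_le (D := twoStab a t) hE F
    (fun g hg f hf => Subtype.ext (by
      obtain ⟨k₀, -, hiff, -, -⟩ := exists_generator hS h2
      obtain ⟨i, hi⟩ := (hiff _).1 ((mem_invK hS h2).1 hg)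
      obtain ⟨j, hj⟩ := (hiff _).1 ((mem_invK hS h2).1 hf)
      show (g : G) * (f : G) = (f : G) * (g : G)
      rw [show (g : G) = k₀ ^ i from hi.symm, show (f : G) = k₀ ^ j from hj.symm]
      exact (Commute.zpow_zpow (Commute.refl k₀) i j).eq))
    (fun x y hx hy => by
      obtain ⟨k, hk, hkxy⟩ := inverted_transitive hS (hmemJ x hx) (hmemJ y hy)
      refine ⟨⟨k⁻¹, inv_mem hk.1⟩, inv_mem (Subgroup.subset_closure hk), ?_⟩
      refine Additive.toMul.injective (Subtype.ext ?_)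
      rw [hsmul]
      simpa using hkxy)
    hs₀ (n := n) (by rw [← hn]; rfl)
    (V := (twoStab a t ⊓ Subgroup.centralizer {s}).subgroupOf (twoStab a t)) (fun v hv => by
      refine Additive.toMul.injective (Subtype.ext ?_)
      rw [hsmul]
      exact mul_inv_eq_iff_eq_mul.2
        (Subgroup.mem_centralizer_singleton_iff.1 (Subgroup.mem_inf.1 hv).2))
  rwa [Nat.card_congr (Subgroup.subgroupOfEquivOfLe inf_le_left).toEquiv] at hcard

end Cfsg.Agent.RankOne
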