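import Mathlib.Algebra.Ring.Parity
import Mathlib.Tactic.IntervalCases
import Mathlib.Tactic.Linarith
import Mathlib.Tactic.Ring

/-!
# The inequalities for an abelian `Q` of exponent at least four
-/

set_option autoImplicit false

namespace Cfsg.Agent.RankOne.AbelianNum

theorem four_sq_le : ∀ {n : ℕ}, 8 ≤ n → 4 * (n - 1) ^ 2 ≤ 2 ^ n := by
  intro n hn
  induction n, hn using Nat.le_induction with
  | base => norm_num
  | succ n hn ih =>
    obtain ⟨k, rfl⟩ : ∃ k, n = k + 8 := ⟨n - 8, by omega⟩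
    rw [pow_succ (2 : ℕ)]
    rw [show k + 8 - 1 = k + 7 by omega] at ih
    rw [show k + 8 + 1 - 1 = k + 8 by omega]
    nlinarith

theorem sq_le : ∀ n : ℕ, n ^ 2 ≤ 2 * 2 ^ n
  | 0 => by norm_num
  | 1 => by norm_num
  | 2 => by norm_num
  | 3 => by norm_num
  | n + 4 => by
    have := sq_le (n + 3)
    rw [pow_succ 2 (n + 3)]
    nlinarith [Nat.zero_le (n * n)]

theorem half_mul_le (n : ℕ) : 2 ^ (n / 2) * 2 ^ (n / 2) ≤ 2 ^ n := by
  rw [← pow_add]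
  exact Nat.pow_le_pow_right (by norm_num) (by omega)

theorem key {n v : ℕ} (hv : v ≤ n) (hv3 : 3 ≤ v) (hodd : Odd v) :
    2 * (v - 1) * 2 ^ (n / 2) ≤ 2 ^ n := by
  by_cases h8 : 8 ≤ n
  · have h1 : (2 * (v - 1) * 2 ^ (n / 2)) ^ 2 ≤ (2 ^ n) ^ 2 := by
      calc (2 * (v - 1) * 2 ^ (n / 2)) ^ 2 = 4 * (v - 1) ^ 2 * (2 ^ (n / 2) * 2 ^ (n / 2)) := by ring
        _ ≤ 2 ^ n * 2 ^ n := Nat.mul_le_mul
            (le_trans (Nat.mul_le_mul_left 4 (Nat.pow_le_pow_left (by omega) 2)) (four_sq_le h8)) (half_mul_le n)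
        _ = (2 ^ n) ^ 2 := by ring
    exact (Nat.pow_le_pow_iff_left two_ne_zero).1 h1
  · have hn3 : 3 ≤ n := hv3.trans hv
    push Not at h8
    interval_cases n <;> interval_cases v <;>
      first
      | exact absurd hodd (by decide)
      | norm_num

/-- The three inequalities. -/
theorem ineq {n v M e b₁ b : ℕ} (hn : 2 ≤ n) (hv : v ≤ n) (hodd : Odd v) (hMeq : M = 2 ^ (n / 2))
    (he : 2 ≤ e) (hev : 3 ≤ e ∨ v = 1)
    (hb₁ : b₁ ≤ 1 + 2 * M ^ (e - 2) * ((2 ^ n - 1) * (v - 1)))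
    (hb : b ≤ 1 + 2 * M ^ (e - 1) * ((2 ^ n - 1) * (v - 1))) :
    b₁ < (2 ^ n) ^ (e - 1) ∧ b + (2 ^ n) ^ (e - 1) < (2 ^ n) ^ e ∧
      (2 ^ n - 1 - 1) ^ 2 * v ^ 2 + 4 * b ≤ 4 * (2 ^ n) ^ e := by
  have hM : M * M ≤ 2 ^ n := hMeq ▸ half_mul_le n
  set q := 2 ^ n with hq
  have hq4 : 4 ≤ q := le_trans (by norm_num) (Nat.pow_le_pow_right (show 1 ≤ 2 by norm_num) hn)
  obtain ⟨f, rfl⟩ : ∃ f, e = f + 2 := ⟨e - 2, by omega⟩
  simp only [Nat.add_sub_cancel, show f + 2 - 1 = f + 1 by omega] at hb hb₁ ⊢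
  have hqf : 1 ≤ q ^ f := Nat.one_le_pow _ _ (by omega)
  have hp1 : q ^ (f + 1) = q ^ f * q := pow_succ q f
  have hp2 : q ^ (f + 2) = q ^ f * q * q := by rw [pow_succ, pow_succ]
  rw [hp1, hp2]
  rcases Nat.lt_or_ge v 3 with hv3 | hv3
  · obtain rfl : v = 1 := by
      obtain ⟨c, rfl⟩ := hodd
      omega
    simp only [Nat.sub_self, mul_zero, add_zero] at hb hb₁
    refine ⟨?_, ?_, ?_⟩
    · have : 4 ≤ q ^ f * q := le_trans hq4 (Nat.le_mul_of_pos_left _ hqf)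
      omega
    · have : q ^ f * q * 4 ≤ q ^ f * q * q := Nat.mul_le_mul_left _ hq4
      have : 4 ≤ q ^ f * q := le_trans hq4 (Nat.le_mul_of_pos_left _ hqf)
      omega
    · obtain ⟨p, hp⟩ : ∃ p, q = p + 2 := ⟨q - 2, by omega⟩
      rw [show q - 1 - 1 = p by omega, one_pow, mul_one]
      nlinarith [Nat.mul_le_mul_right (q * q) hqf]
  · obtain ⟨g, rfl⟩ : ∃ g, f = g + 1 := ⟨f - 1, by omega⟩
    have hk := key hv hv3 hodd
    rw [← hMeq, ← hq] at hk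
    have hMq : 2 * M ≤ q := by
      rcases Nat.lt_or_ge M 2 with h | h
      · omega
      · nlinarith
    have hMg : M ^ g ≤ q ^ g := Nat.pow_le_pow_left (by omega) g
    obtain ⟨p, hp⟩ : ∃ p, q = p + 1 := ⟨q - 1, by omega⟩
    have h1 : b₁ ≤ 1 + p * q ^ (g + 1) := by
      refine hb₁.trans (Nat.add_le_add_left ?_ 1)
      rw [show q - 1 = p by omega]
      calc 2 * M ^ (g + 1) * (p * (v - 1)) = p * (M ^ g * (2 * (v - 1) * M)) := by ring
        _ ≤ p * (q ^ g * q) := Nat.mul_le_mul_left _ (Nat.mul_le_mul hMg hk)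
        _ = _ := by rw [pow_succ]
    have hr : 1 ≤ q ^ g := Nat.one_le_pow _ _ (by omega)
    have h2 : 2 * b ≤ 2 + p * q * q ^ (g + 1) := by
      have : 2 * M ^ (g + 1 + 1) * ((q - 1) * (v - 1)) * 2 ≤ p * q * q ^ (g + 1) := by
        rw [show q - 1 = p by omega]
        calc 2 * M ^ (g + 1 + 1) * (p * (v - 1)) * 2 = p * (M ^ g * ((2 * (v - 1) * M) * (2 * M))) := by ring
          _ ≤ p * (q ^ g * (q * q)) := Nat.mul_le_mul_left _ (Nat.mul_le_mul hMg (Nat.mul_le_mul hk hMq))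
          _ = _ := by ring
      omega
    generalize hR : q ^ g = r at *
    rw [show q ^ (g + 1) = r * q by rw [pow_succ, hR]] at *
    refine ⟨?_, ?_, ?_⟩
    · nlinarith [Nat.mul_le_mul_left r hq4]
    · nlinarith [Nat.mul_le_mul_left (r * q * q) hq4]
    · have h3 : v ^ 2 ≤ 2 * q := le_trans (Nat.pow_le_pow_left hv 2) (sq_le n)
      have h4 : (q - 1 - 1) ^ 2 * v ^ 2 ≤ q ^ 2 * (2 * q) :=
        Nat.mul_le_mul (Nat.pow_le_pow_left (by omega) 2) h3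
      nlinarith [Nat.mul_le_mul_right (q * q * q) hr, Nat.mul_le_mul_left (r * q * q) hq4]

end Cfsg.Agent.RankOne.AbelianNum
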