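import Cfsg.Agent.Lib.RankOne.AbelianExc
import Cfsg.Agent.Lib.RankOne.AbelianFix
import Cfsg.Agent.Lib.RankOne.AbelianNum

/-!
# An abelian `Q` of exponent at least four is impossible

Regular orbits of `D` on the linear characters of `Q` give exceptional characters of equal degree;
one orbit is trivial on the involutions and one is not, and the class identity gives a degree too
large for the order of `G`.  For exponent four the group `⟨Q, t⟩` reduces to `C_D(t) = 1`.
-/

set_option autoImplicit false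
set_option linter.style.haveILetI false
set_option linter.unusedSectionVars false

namespace Cfsg.Agent.RankOne

open MulAction

section bad

variable {D R : Type*} [Group D] [Finite D] [CommGroup R] [Finite R]

/-- A bound for the characters with a nontrivial stabiliser. -/
theorem bad_le (σ : D → (R →* R)) (c : D → ℕ) {M f : ℕ} (hf : 1 ≤ f)
    (hc1 : ∀ d, d ≠ 1 → 1 ≤ c d) (hcM : ∀ d, d ≠ 1 → c d ≤ M)
    (hfix : ∀ d, d ≠ 1 → Nat.card {x : R // σ d x = x} ≤ c d ^ f)
    {T : ℕ} [Fintype D] [DecidableEq D] (hT : ∑ d ∈ Finset.univ.erase (1 : D), (c d - 1) ≤ T) :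
    Nat.card {χ : R →* ℂˣ // ∃ d, d ≠ 1 ∧ χ.comp (σ d) = χ} ≤ 1 + 2 * M ^ (f - 1) * T := by
  classical
  haveI : Fintype (R →* ℂˣ) := Fintype.ofFinite _
  let Fx : D → Finset (R →* ℂˣ) := fun d => (Finset.univ.filter fun χ => χ.comp (σ d) = χ).erase 1
  have hsub : (Finset.univ.filter fun χ : R →* ℂˣ => ∃ d, d ≠ 1 ∧ χ.comp (σ d) = χ) ⊆
      insert 1 ((Finset.univ.erase (1 : D)).biUnion Fx) := by
    intro χ hχ
    obtain ⟨d, hd, he⟩ := (Finset.mem_filter.1 hχ).2
    by_cases h : χ = 1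
    · exact Finset.mem_insert.2 (Or.inl h)
    · exact Finset.mem_insert_of_mem (Finset.mem_biUnion.2
        ⟨d, Finset.mem_erase.2 ⟨hd, Finset.mem_univ _⟩, by simp [Fx, h, he]⟩)
  rw [Nat.card_eq_fintype_card, Fintype.card_subtype]
  refine (Finset.card_le_card hsub).trans ((Finset.card_insert_le _ _).trans ?_)
  rw [add_comm]
  refine Nat.add_le_add_left (Finset.card_biUnion_le.trans ?_) 1
  refine le_trans ?_ (Nat.mul_le_mul_left _ hT)
  rw [Finset.mul_sum]
  refine Finset.sum_le_sum fun d hd => ?_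
  have hd1 := (Finset.mem_erase.1 hd).1
  have h1 : (1 : R →* ℂˣ) ∈ (Finset.univ.filter fun χ : R →* ℂˣ => χ.comp (σ d) = χ) :=
    Finset.mem_filter.2 ⟨Finset.mem_univ _, MonoidHom.ext fun x => rfl⟩
  show ((Finset.univ.filter fun χ : R →* ℂˣ => χ.comp (σ d) = χ).erase 1).card ≤ _
  rw [Finset.card_erase_of_mem h1, ← Fintype.card_subtype, ← Nat.card_eq_fintype_card,
    Layers.card_fixed_dual]
  refine le_trans (Nat.sub_le_sub_right (hfix d hd1) 1) ?_
  obtain ⟨j, rfl⟩ : ∃ j, f = j + 1 := ⟨f - 1, by omega⟩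
  rw [Nat.add_sub_cancel]
  rcases Nat.eq_or_lt_of_le (hc1 d hd1) with h | h
  · rw [← h, one_pow]
    simp
  · calc c d ^ (j + 1) - 1 ≤ c d ^ (j + 1) := Nat.sub_le _ _
      _ = c d ^ j * c d := pow_succ _ _
      _ ≤ M ^ j * (2 * (c d - 1)) :=
        Nat.mul_le_mul (Nat.pow_le_pow_left (hcM d hd1) j) (by omega)
      _ = 2 * M ^ j * (c d - 1) := by ring

end bad

variable {G Ω : Type*} [Group G] [MulAction G Ω] {a : Ω} {t : G} {Q : Subgroup G}

theorem mem_fix_iff [Fintype G] (hS : Cfsg.IsRankOneSetup G Ω a t Q) (d : twoStab a t) (x : Q) :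
    cjQ hS d x = x ↔ (x : G) ∈ Subgroup.centralizer {(d : G)} := by
  rw [Subgroup.mem_centralizer_singleton_iff, Subtype.ext_iff, coe_cjQ]
  constructor
  · intro h
    calc (x : G) * d = (d : G) * ((d : G)⁻¹ * x * d) := by group
      _ = (d : G) * x := by rw [h]
  · intro h
    rw [mul_assoc, h, inv_mul_cancel_left]

set_option maxHeartbeats 1000000 in
/-- The main case: exponent at least eight, or `C_D(t) = 1`. -/
theorem abelian_core [Finite G] [FaithfulSMul G Ω] (hS : Cfsg.IsRankOneSetup G Ω a t Q)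
    (h2 : ∃ x y : G, x ≠ 1 ∧ y ≠ 1 ∧ x ≠ y ∧ x * x = 1 ∧ y * y = 1 ∧ x * y = y * x)
    (hc : ∀ x ∈ Q, ∀ y ∈ Q, x * y = y * x) (hQ2 : IsPGroup 2 Q) {e : ℕ} (he : 2 ≤ e)
    (hexp : ∀ x ∈ Q, x ^ 2 ^ e = 1) (hmax : ∃ x ∈ Q, x ^ 2 ^ (e - 1) ≠ 1)
    (hev : 3 ≤ e ∨ Nat.card ↥(twoStab a t ⊓ Subgroup.centralizer {t}) = 1) : False := by
  classical
  haveI : Fintype G := Fintype.ofFinite G
  haveI := Fact.mk Nat.prime_two
  letI : CommGroup ↥Q :=
    { (inferInstance : Group ↥Q) with mul_comm := fun x y => Subtype.ext (hc _ x.2 _ y.2) }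
  set A := invSub hS h2 with hA
  have hAQ : ∀ x ∈ A, x ∈ Q := fun x hx => invSub_le_Q hS h2 hx
  obtain ⟨n, hn⟩ : ∃ n, Nat.card A = 2 ^ n :=
    IsPGroup.iff_card.1 fun x => ⟨1, Subtype.ext (by
      rw [pow_one, SubmonoidClass.coe_pow, pow_two, sq_of_mem_invSub hS h2 x.2, OneMemClass.coe_one])⟩
  have hn2 : 2 ≤ n := by
    have h4 := four_le hS h2
    rw [← hA, hn] at h4
    exact (Nat.pow_le_pow_iff_right Nat.one_lt_two).1 (show 2 ^ 2 ≤ 2 ^ n from h4)
  set v := Nat.card ↥(twoStab a t ⊓ Subgroup.centralizer {t}) with hv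
  have hvn : v ≤ n := card_V_le hS h2 hc hQ2 hn
  have hvodd : Odd v := Odd.of_dvd_nat hS.odd_card (Subgroup.card_dvd_of_le inf_le_left)
  set m := Nat.card (Cfsg.involutionsIn (stabilizer G a : Set G)) with hm
  have hmq : m + 1 = 2 ^ n := by rw [← hn, hA, card_invSub hS h2]
  have hmodd : Odd m := by
    obtain ⟨j, hj⟩ : Even (2 ^ n) := Nat.even_pow.2 ⟨even_two, by omega⟩
    exact ⟨j - 1, by omega⟩
  -- the first layer of `Q` is `A`
  have hL1 : ∀ x : Q, x ∈ Layers.layer ↥Q 1 ↔ (x : G) ∈ A := fun x => by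
    rw [Layers.mem_layer, pow_one, pow_two]
    exact ⟨fun h => mem_invSub_of_sq_abelian hS h2 x.2 (congrArg Subtype.val h),
      fun h => Subtype.ext (sq_of_mem_invSub hS h2 h)⟩
  have hexp' : ∀ x : Q, x ^ 2 ^ e = 1 := fun x => Subtype.ext (by simpa using hexp x x.2)
  have hL1card : Nat.card (Layers.layer ↥Q 1) = 2 ^ n := by
    rw [← hn]
    exact Nat.card_congr
      { toFun := fun x => ⟨((x : Q) : G), (hL1 x).1 x.2⟩
        invFun := fun x => ⟨⟨(x : G), hAQ x x.2⟩, (hL1 _).2 x.2⟩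
        left_inv := fun x => rfl
        right_inv := fun x => rfl }
  have hN : Nat.card Q = (2 ^ n) ^ e := by
    rw [← hL1card]
    refine Layers.card_eq (by omega) hexp' ?_ fun x y hx hx1 hy hy1 => ?_
    · obtain ⟨x, hx, hx'⟩ := hmax
      exact ⟨⟨x, hx⟩, fun h => hx' (by simpa using congrArg Subtype.val h)⟩
    · obtain ⟨k, hk, hkxy⟩ := inverted_transitive hS
        (((hL1 x).1 hx).resolve_left fun h => hx1 (Subtype.ext h))
        (((hL1 y).1 hy).resolve_left fun h => hy1 (Subtype.ext h))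
      refine ⟨MonoidHom.toMulEquiv (cjQ hS ⟨k, hk.1⟩) (cjQ hS ⟨k⁻¹, inv_mem hk.1⟩)
        (MonoidHom.ext fun z => Subtype.ext (by simp [mul_assoc]))
        (MonoidHom.ext fun z => Subtype.ext (by simp [mul_assoc])), Subtype.ext ?_⟩
      simpa using hkxy
  have hNsq : Nat.card (Layers.squares ↥Q) = (2 ^ n) ^ (e - 1) := by
    have h := Layers.card_squares (P := ↥Q)
    rw [hL1card, hN] at h
    refine Nat.eq_of_mul_eq_mul_right (Nat.two_pow_pos n) (h.trans ?_)
    rw [← pow_succ, Nat.sub_add_cancel (by omega)]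
  -- fixed points
  let c : twoStab a t → ℕ := fun d => Nat.card ↥(A ⊓ Subgroup.centralizer {(d : G)})
  let Fd : twoStab a t → Subgroup ↥Q := fun d => (Subgroup.centralizer {(d : G)}).subgroupOf Q
  have hFd : ∀ d, Nat.card ↥(Fd d ⊓ Layers.layer ↥Q 1) = c d := fun d => Nat.card_congr
    { toFun := fun x => ⟨((x : Q) : G), Subgroup.mem_inf.2
        ⟨(hL1 x).1 (Subgroup.mem_inf.1 x.2).2, (Subgroup.mem_inf.1 x.2).1⟩⟩
      invFun := fun x => ⟨⟨(x : G), hAQ x (Subgroup.mem_inf.1 x.2).1⟩, Subgroup.mem_inf.2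
        ⟨(Subgroup.mem_inf.1 x.2).2, (hL1 _).2 (Subgroup.mem_inf.1 x.2).1⟩⟩
      left_inv := fun x => rfl
      right_inv := fun x => rfl }
  set M := 2 ^ (n / 2) with hM
  have hcM : ∀ d : twoStab a t, d ≠ 1 → c d ≤ M := fun d hd => by
    have h := fix_sq_le hS h2 hc hQ2 d.2 (fun h => hd (Subtype.ext h))
    obtain ⟨j, hj⟩ : ∃ j, c d = 2 ^ j := by
      have h1 : Nat.card ↥(A ⊓ Subgroup.centralizer {(d : G)}) ∣ 2 ^ n :=
        hn ▸ Subgroup.card_dvd_of_le inf_le_left
      obtain ⟨j, -, hj⟩ := (Nat.dvd_prime_pow Nat.prime_two).1 h1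
      exact ⟨j, hj⟩
    change c d * c d ≤ Nat.card A at h
    rw [hn, hj, ← pow_add] at h
    have := (Nat.pow_le_pow_iff_right Nat.one_lt_two).1 h
    rw [hj]
    exact Nat.pow_le_pow_right (by norm_num) (by omega)
  have hc1 : ∀ d : twoStab a t, d ≠ 1 → 1 ≤ c d := fun d _ => Nat.card_pos
  -- double counting
  have hT : ∑ d ∈ Finset.univ.erase (1 : twoStab a t), (c d - 1) ≤ (2 ^ n - 1) * (v - 1) := by
    let J : Finset G := Finset.univ.filter fun u => u ∈ Cfsg.involutionsIn (stabilizer G a : Set G)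
    have hJ : J.card = m := by
      rw [hm, Nat.card_coe_set_eq, ← Set.ncard_coe_finset]
      congr 1
      ext u; simp [J]
    have hcd : ∀ d : twoStab a t, c d - 1 = (J.filter fun u => (d : G) * u = u * d).card := by
      intro d
      have h1 : (insert 1 (J.filter fun u => (d : G) * u = u * d) : Finset G) =
          Finset.univ.filter fun u => u ∈ A ⊓ Subgroup.centralizer {(d : G)} := by
        ext u
        simp only [Finset.mem_insert, Finset.mem_filter, Finset.mem_univ, true_and, J, Subgroup.mem_inf,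
          Subgroup.mem_centralizer_singleton_iff]
        refine ⟨fun h => ?_, fun ⟨h, h'⟩ => ?_⟩
        · rcases h with rfl | ⟨h, h'⟩
          · exact ⟨one_mem _, by rw [one_mul, mul_one]⟩
          · exact ⟨Or.inr h, h'.symm⟩
        · rcases h with rfl | h
          · exact Or.inl rfl
          · exact Or.inr ⟨h, h'.symm⟩
      have h3 : c d = (Finset.univ.filter fun u => u ∈ A ⊓ Subgroup.centralizer {(d : G)}).card := by
        show Nat.card ↥(A ⊓ Subgroup.centralizer {(d : G)}) = _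
        rw [Nat.card_eq_fintype_card]
        exact Fintype.card_subtype _
      rw [h3, ← h1, Finset.card_insert_of_notMem (by simp [J, Cfsg.involutionsIn]), Nat.add_sub_cancel]
    simp only [hcd, Finset.card_filter]
    rw [Finset.sum_comm]
    refine le_of_eq ?_
    rw [Finset.sum_congr rfl fun u hu => ?_, Finset.sum_const, hJ, smul_eq_mul,
      show 2 ^ n - 1 = m by omega]
    rw [← Finset.card_filter]
    have hu' : u ∈ Cfsg.involutionsIn (stabilizer G a : Set G) := (Finset.mem_filter.1 hu).2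
    rw [hv, ← card_centralizer_eq hS h2 hu', Finset.filter_erase, Finset.card_erase_of_mem (by simp),
      ← Fintype.card_subtype, ← Nat.card_eq_fintype_card]
    congr 1
    exact Nat.card_congr
      { toFun := fun d => ⟨((d : twoStab a t) : G), Subgroup.mem_inf.2
          ⟨(d : twoStab a t).2, Subgroup.mem_centralizer_singleton_iff.2 d.2⟩⟩
        invFun := fun d => ⟨⟨(d : G), (Subgroup.mem_inf.1 d.2).1⟩,
          Subgroup.mem_centralizer_singleton_iff.1 (Subgroup.mem_inf.1 d.2).2⟩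
        left_inv := fun d => rfl
        right_inv := fun d => rfl }
  have hfixQ : ∀ d : twoStab a t, Nat.card {x : Q // cjQ hS d x = x} = Nat.card (Fd d) := fun d =>
    Nat.card_congr (Equiv.subtypeEquivRight fun x => (mem_fix_iff hS d x).trans Subgroup.mem_subgroupOf.symm)
  have hbad := bad_le (fun d : twoStab a t => cjQ hS d) c (M := M) (f := e) (by omega) hc1 hcM
    (fun d _ => by rw [hfixQ, ← hFd d]; exact Layers.card_le hexp' (Fd d)) hT
  -- the same on the squares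
  let R : Subgroup ↥Q := Layers.squares ↥Q
  have hRinv : ∀ (d : twoStab a t) (x : R), cjQ hS d (x : Q) ∈ R := by
    rintro d ⟨_, y, rfl⟩
    exact ⟨cjQ hS d y, (map_pow (cjQ hS d) y 2).symm⟩
  let σ : twoStab a t → (↥R →* ↥R) := fun d => ((cjQ hS d).comp R.subtype).codRestrict R (hRinv d)
  have hfixR : ∀ d, Nat.card {x : R // σ d x = x} = Nat.card ↥(Fd d ⊓ R) := fun d => Nat.card_congr
    { toFun := fun x => ⟨((x : R) : Q), Subgroup.mem_inf.2
        ⟨Subgroup.mem_subgroupOf.2 ((mem_fix_iff hS d _).1 (congrArg Subtype.val x.2)), (x : R).2⟩⟩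
      invFun := fun x => ⟨⟨(x : Q), (Subgroup.mem_inf.1 x.2).2⟩, Subtype.ext
        ((mem_fix_iff hS d _).2 (Subgroup.mem_subgroupOf.1 (Subgroup.mem_inf.1 x.2).1))⟩
      left_inv := fun x => rfl
      right_inv := fun x => rfl }
  have hbad₁ := bad_le σ c (M := M) (f := e - 1) (by omega) hc1 hcM
    (fun d _ => by rw [hfixR, ← hFd d]; exact Layers.card_squares_le (by omega) hexp' (Fd d)) hT
  rw [show e - 1 - 1 = e - 2 by omega] at hbad₁
  obtain ⟨hn₁, hn₂, hn₃⟩ := AbelianNum.ineq hn2 hvn hvodd hM he hev hbad₁ hbad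
  -- the regular characters
  let Reg := {lam : Q →* ℂˣ // ∀ d : twoStab a t, lam.comp (cjQ hS d) = lam → d = 1}
  have hreg_card : Nat.card Reg +
      Nat.card {lam : Q →* ℂˣ // ∃ d : twoStab a t, d ≠ 1 ∧ lam.comp (cjQ hS d) = lam} = (2 ^ n) ^ e := by
    rw [← hN, ← Layers.card_dual (P := ↥Q), ← Nat.card_sum]
    refine Nat.card_congr (Equiv.trans (Equiv.sumCongr (Equiv.subtypeEquivRight fun lam => ?_) (Equiv.refl _))
      (Equiv.trans (Equiv.sumComm _ _) (Equiv.sumCompl _)))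
    constructor
    · rintro h ⟨d, hd, hd'⟩; exact hd (h d hd')
    · intro h d hd'; by_contra hd; exact h ⟨d, hd, hd'⟩
  have hcomp : ∀ (d d' : twoStab a t) (lam : Q →* ℂˣ),
      lam.comp (cjQ hS (d * d')) = (lam.comp (cjQ hS d')).comp (cjQ hS d) := fun d d' lam =>
    MonoidHom.ext fun x => congrArg lam (Subtype.ext (by simp [mul_assoc]))
  have hone : ∀ lam : Q →* ℂˣ, lam.comp (cjQ hS 1) = lam := fun lam =>
    MonoidHom.ext fun x => congrArg lam (Subtype.ext (by simp))
  letI : MulAction (twoStab a t) Reg :=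
    { smul := fun d lam => ⟨lam.1.comp (cjQ hS d), fun d' h => by
        have h1 : lam.1.comp (cjQ hS (d⁻¹ * d' * d)) = lam.1 := by
          rw [hcomp, hcomp, h, ← hcomp, inv_mul_cancel, hone]
        have h3 := lam.2 _ h1
        calc d' = d * (d⁻¹ * d' * d) * d⁻¹ := by group
          _ = 1 := by rw [h3]; group⟩
      one_smul := fun lam => Subtype.ext (hone _)
      mul_smul := fun d d' lam => Subtype.ext (hcomp d d' _) }
  let ι := Quotient (orbitRel (twoStab a t) Reg)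
  have hk : Nat.card Reg = Nat.card ι * Nat.card (twoStab a t) := by
    haveI : Fintype ι := Fintype.ofFinite _
    rw [Nat.card_congr (selfEquivSigmaOrbitsQuotientStabilizer (twoStab a t) Reg), Nat.card_sigma]
    have hst : ∀ w : ι, Nat.card ((twoStab a t) ⧸ stabilizer (twoStab a t) (Quotient.out w : Reg)) =
        Nat.card (twoStab a t) := by
      intro w
      rw [show stabilizer (twoStab a t) (Quotient.out w : Reg) = ⊥ from
        (Subgroup.eq_bot_iff_forall _).2 fun d hd => (Quotient.out w : Reg).2 d (congrArg Subtype.val hd),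
        ← Subgroup.index_eq_card, Subgroup.index_bot]
    rw [Finset.sum_congr rfl fun w _ => hst w, Finset.sum_const, Finset.card_univ,
      ← Nat.card_eq_fintype_card, smul_eq_mul]
  let L : ι → (Q →* ℂˣ) := fun w => (Quotient.out w : Reg).1
  have hLreg : ∀ i d, (L i).comp (cjQ hS d) = L i → d = 1 := fun i d h => (Quotient.out i : Reg).2 d h
  have hLorb : ∀ i j d, (L i).comp (cjQ hS d) = L j → i = j := by
    intro i j d h
    have h1 : d • (Quotient.out i : Reg) = Quotient.out j := Subtype.ext h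
    rw [← Quotient.out_eq i, ← Quotient.out_eq j]
    exact (Quotient.sound (orbitRel_apply.2 ⟨d, h1⟩)).symm
  have hout : ∀ lam : Reg, ∃ d : twoStab a t, L (Quotient.mk _ lam) = lam.1.comp (cjQ hS d) := by
    intro lam
    obtain ⟨d, hd⟩ := orbitRel_apply.1 (Quotient.mk_out (s := orbitRel (twoStab a t) Reg) lam)
    exact ⟨d, congrArg Subtype.val hd.symm⟩
  -- one regular character trivial on `A`, one not
  obtain ⟨lam₀, hlam₀⟩ : ∃ lam : Reg, ∀ x : Q, (x : G) ∈ A → lam.1 x = 1 := by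
    obtain ⟨χ, hχ⟩ : ∃ χ : ↥R →* ℂˣ, ¬ ∃ d, d ≠ 1 ∧ χ.comp (σ d) = χ := by
      by_contra h
      push Not at h
      have : Nat.card {χ : ↥R →* ℂˣ // ∃ d, d ≠ 1 ∧ χ.comp (σ d) = χ} = Nat.card (↥R →* ℂˣ) :=
        Nat.card_congr (Equiv.subtypeUnivEquiv h)
      rw [Layers.card_dual, hNsq] at this
      omega
    let sq : ↥Q →* ↥R := (powMonoidHom 2 : ↥Q →* ↥Q).rangeRestrict
    refine ⟨⟨χ.comp sq, fun d h => ?_⟩, fun x hx => ?_⟩
    · by_contra hd
      refine hχ ⟨d, hd, MonoidHom.ext fun y => ?_⟩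
      obtain ⟨x, rfl⟩ : ∃ x, sq x = y := (powMonoidHom 2 : ↥Q →* ↥Q).rangeRestrict_surjective y
      have h1 := DFunLike.congr_fun h x
      simp only [MonoidHom.comp_apply] at h1 ⊢
      rw [← h1]
      congr 1
      exact Subtype.ext (map_pow (cjQ hS d) x 2)
    · show χ (sq x) = 1
      rw [show sq x = 1 from Subtype.ext (by
        show x ^ 2 = 1
        have := (hL1 x).2 hx
        rwa [Layers.mem_layer, pow_one] at this), map_one]
  obtain ⟨lam₁, hlam₁⟩ : ∃ lam : Reg, ¬ ∀ x : Q, (x : G) ∈ A → lam.1 x = 1 := by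
    by_contra h
    push Not at h
    have h1 : Nat.card Reg ≤ Nat.card {χ : ↥Q →* ℂˣ // ∀ x ∈ Layers.layer ↥Q 1, χ x = 1} :=
      Nat.card_le_card_of_injective (fun lam : Reg => ⟨lam.1, fun x hx => h lam x ((hL1 x).1 hx)⟩)
        fun p p' hp => Subtype.ext (congrArg (fun z : {χ : ↥Q →* ℂˣ // ∀ x ∈ Layers.layer ↥Q 1, χ x = 1} => z.1) hp)
    rw [Layers.card_killing_layer, hNsq] at h1
    omega
  -- the involution
  obtain ⟨⟨s, r⟩, ⟨hs, hr, heq⟩, -⟩ := structure_equation hS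
  obtain ⟨hsi, hsa⟩ := (mem_involutionsIn hS).1 hs
  have hsQ : s ∈ Q := (invol_central hS h2 hs).1
  have hsA : s ∈ A := Or.inr hs
  have hne : Cfsg.indFun Q (ch (L (Quotient.mk _ lam₁)) - ch (L (Quotient.mk _ lam₀))) s ≠ 0 := by
    obtain ⟨d₀, hd₀⟩ := hout lam₀
    obtain ⟨d₁, hd₁⟩ := hout lam₁
    intro hzero
    rw [ind_on_Q hS hc _ ⟨s, hsQ⟩ (fun h => hsi.1 (congrArg Subtype.val h))] at hzero
    have hconj : ∀ (d : twoStab a t) (x : Q), (x : G) ∈ A → ((cjQ hS d x : Q) : G) ∈ A := fun d x hx => by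
      rw [coe_cjQ]
      simpa using conj_mem_invSub hS h2 (inv_mem d.2) hx
    have h0 : ∀ x : Q, (x : G) ∈ A → ch (L (Quotient.mk _ lam₀)) x = 1 := fun x hx => by
      simp [ch, hd₀, hlam₀ _ (hconj d₀ x hx)]
    have hpm : ∀ x : Q, (x : G) ∈ A →
        (ch (L (Quotient.mk _ lam₁)) x - 1).re ≤ 0 ∧
          ((ch (L (Quotient.mk _ lam₁)) x - 1).re = 0 → L (Quotient.mk _ lam₁) x = 1) := by
      intro x hx
      have hsq : ch (L (Quotient.mk _ lam₁)) x * ch (L (Quotient.mk _ lam₁)) x = 1 := by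
        simp only [ch, ← Units.val_mul, ← map_mul]
        rw [show x * x = 1 from Subtype.ext (sq_of_mem_invSub hS h2 hx), map_one, Units.val_one]
      rcases mul_self_eq_one_iff.1 hsq with h | h
      · exact ⟨by rw [h]; simp, fun _ => Units.ext h⟩
      · exact ⟨by rw [h]; norm_num, fun h' => by rw [h] at h'; norm_num at h'⟩
    have hmemA : ∀ d : twoStab a t, ((cjQ hS d ⟨s, hsQ⟩ : Q) : G) ∈ A := fun d => hconj d _ hsA
    rw [Finset.sum_congr rfl fun d _ => show (ch (L (Quotient.mk _ lam₁)) - ch (L (Quotient.mk _ lam₀)))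
        (cjQ hS d ⟨s, hsQ⟩) = ch (L (Quotient.mk _ lam₁)) (cjQ hS d ⟨s, hsQ⟩) - 1 by
      rw [Pi.sub_apply, h0 _ (hmemA d)]] at hzero
    have hre := congrArg Complex.re hzero
    rw [Complex.re_sum, Complex.zero_re, Finset.sum_eq_zero_iff_of_nonpos fun d _ => (hpm _ (hmemA d)).1]
      at hre
    refine hlam₁ fun x hx => ?_
    have hLx : ∀ y : Q, (y : G) ∈ A → L (Quotient.mk _ lam₁) y = 1 := by
      intro y hy
      rcases hy with hy | hy
      · rw [show y = 1 from Subtype.ext hy, map_one]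
      obtain ⟨k, hk, hky⟩ := inverted_transitive hS hs hy
      rw [show y = cjQ hS ⟨k, hk.1⟩ ⟨s, hsQ⟩ from Subtype.ext (by rw [coe_cjQ]; exact hky.symm)]
      exact (hpm _ (hmemA _)).2 (hre _ (by simp))
    have hd1 : lam₁.1 = (L (Quotient.mk _ lam₁)).comp (cjQ hS d₁⁻¹) := by
      rw [hd₁, ← hcomp, inv_mul_cancel, hone]
    rw [hd1]
    exact hLx _ (hconj _ x hx)
  -- sizes
  have hcent := card_centralizer_invol hS hc hsa hsi hsQ
  rw [card_centralizer_eq hS h2 hs, ← hv] at hcent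
  have hD : Nat.card (twoStab a t) = v * m := by
    rw [card_decomp hS.mul_self (twoStab a t) hS.odd_card (fun x hx => conj_twoStab hS hx), ← hv, hm,
      card_inverted hS]
  set I := (Cfsg.Agent.Char.classFinset s).card with hIdef
  have hI : I = ((2 ^ n) ^ e + 1) * m := by
    have hcg := card_group hS
    rw [← Subgroup.card_mul_index (Subgroup.centralizer ({s} : Set G)), hcent, hN, hD,
      ← Cfsg.Agent.Char.card_classFinset, ← hIdef] at hcg
    have hpos : 0 < (2 ^ n) ^ e * v := Nat.mul_pos (Nat.pow_pos (Nat.two_pow_pos n)) hvodd.pos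
    refine Nat.eq_of_mul_eq_mul_left hpos (hcg.trans ?_)
    ring
  have hIodd : Odd I := by
    rw [hI]
    exact ((Nat.even_pow.2 ⟨Nat.even_pow.2 ⟨even_two, by omega⟩, by omega⟩).add_one).mul hmodd
  have hbound := card_family_le hS hc hsi hsa hQ2 h2 hIodd hmodd L hLreg hLorb
    (Quotient.mk _ lam₀) (Quotient.mk _ lam₁) hne
  rw [card_group hS, hN, hD, ← hIdef, hI, ← hm] at hbound
  rw [hD] at hk
  set k := Nat.card ι
  set N := (2 ^ n) ^ e with hNdef
  have h5 : (4 * Nat.card Reg) * (N + 1) ≤ (m - 1) ^ 2 * v ^ 2 * N := by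
    have hpos : 0 < (N + 1) * m * m := Nat.mul_pos (Nat.mul_pos (Nat.succ_pos _) hmodd.pos) hmodd.pos
    refine Nat.le_of_mul_le_mul_left ?_ hpos
    calc (N + 1) * m * m * (4 * Nat.card Reg * (N + 1)) = (v * m) * (k * (2 * ((N + 1) * m)) ^ 2) := by
          rw [hk]; ring
      _ ≤ (v * m) * ((m - 1) ^ 2 * (N * (v * m) * (N + 1))) := Nat.mul_le_mul_left _ hbound
      _ = _ := by ring
  have h6 : (m - 1) ^ 2 * v ^ 2 ≤ 4 * Nat.card Reg := by
    rw [show 2 ^ n - 1 - 1 = m - 1 by omega] at hn₃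
    omega
  have hRpos : 0 < Nat.card Reg := by
    haveI : Nonempty Reg := ⟨lam₀⟩
    exact Nat.card_pos
  nlinarith [Nat.mul_le_mul_right N h6]

/-- An abelian 2-group `Q` is elementary abelian. -/
theorem abelian_exponent_two [Finite G] [FaithfulSMul G Ω] (hS : Cfsg.IsRankOneSetup G Ω a t Q)
    (h2 : ∃ x y : G, x ≠ 1 ∧ y ≠ 1 ∧ x ≠ y ∧ x * x = 1 ∧ y * y = 1 ∧ x * y = y * x)
    (hc : ∀ x ∈ Q, ∀ y ∈ Q, x * y = y * x) (hQ2 : IsPGroup 2 Q) : ∀ x ∈ Q, x * x = 1 := by
  classical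
  have hex : ∃ e, ∀ x ∈ Q, x ^ 2 ^ e = 1 := by
    haveI := Fact.mk Nat.prime_two
    obtain ⟨j, hj⟩ := IsPGroup.iff_card.1 hQ2
    exact ⟨j, fun x hx => orderOf_dvd_iff_pow_eq_one.1 (hj ▸ Subgroup.orderOf_dvd_natCard Q hx)⟩
  set e := Nat.find hex with hedef
  have hexp := Nat.find_spec hex
  rw [← hedef] at hexp
  intro x hx
  by_contra hne
  have he : 2 ≤ e := by
    by_contra hlt
    refine hne ?_
    rcases (show e = 0 ∨ e = 1 by omega) with h | h
    · have := hexp x hx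
      rw [h, pow_zero, pow_one] at this
      rw [this, one_mul]
    · have := hexp x hx
      rwa [h, pow_one, pow_two] at this
  have hmax : ∃ x ∈ Q, x ^ 2 ^ (e - 1) ≠ 1 := by
    have h := Nat.find_min hex (show e - 1 < Nat.find hex by omega)
    push Not at h
    exact h
  by_cases h3 : 3 ≤ e
  · exact abelian_core hS h2 hc hQ2 he hexp hmax (Or.inl h3)
  -- exponent four: pass to `⟨Q, K, t⟩`
  have he2 : e = 2 := by omega
  haveI : Fintype G := Fintype.ofFinite G
  have hN : Nat.card Q = Nat.card (invSub hS h2) ^ 2 := by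
    letI : CommGroup ↥Q :=
      { (inferInstance : Group ↥Q) with mul_comm := fun x y => Subtype.ext (hc _ x.2 _ y.2) }
    have hL1 : ∀ x : Q, x ∈ Layers.layer ↥Q 1 ↔ (x : G) ∈ invSub hS h2 := fun x => by
      rw [Layers.mem_layer, pow_one, pow_two]
      exact ⟨fun h => mem_invSub_of_sq_abelian hS h2 x.2 (congrArg Subtype.val h),
        fun h => Subtype.ext (sq_of_mem_invSub hS h2 h)⟩
    rw [show Nat.card (invSub hS h2) = Nat.card (Layers.layer ↥Q 1) from Nat.card_congr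
      { toFun := fun x => ⟨⟨(x : G), invSub_le_Q hS h2 x.2⟩, (hL1 _).2 x.2⟩
        invFun := fun x => ⟨((x : Q) : G), (hL1 x).1 x.2⟩
        left_inv := fun x => rfl
        right_inv := fun x => rfl }, ← he2]
    refine Layers.card_eq (by omega) (fun y => Subtype.ext (by simpa using hexp y y.2)) ?_
      fun y z hy hy1 hz hz1 => ?_
    · obtain ⟨y, hy, hy'⟩ := hmax
      exact ⟨⟨y, hy⟩, fun h => hy' (by simpa using congrArg Subtype.val h)⟩
    · obtain ⟨k, hk, hkxy⟩ := inverted_transitive hS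
        (((hL1 y).1 hy).resolve_left fun h => hy1 (Subtype.ext h))
        (((hL1 z).1 hz).resolve_left fun h => hz1 (Subtype.ext h))
      refine ⟨MonoidHom.toMulEquiv (cjQ hS ⟨k, hk.1⟩) (cjQ hS ⟨k⁻¹, inv_mem hk.1⟩)
        (MonoidHom.ext fun w => Subtype.ext (by simp [mul_assoc]))
        (MonoidHom.ext fun w => Subtype.ext (by simp [mul_assoc])), Subtype.ext ?_⟩
      simpa using hkxy
  have hall := hall_small hS h2 (Or.inr hN)
  set L := thin a t Q with hLdef
  have htwo : ∀ d : L, d ∈ twoStab (G := L) a (⟨t, t_mem_thin⟩ : L) ↔ (d : G) ∈ twoStab a t :=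
    fun d => Iff.rfl
  have hSL : Cfsg.IsRankOneSetup L Ω a (⟨t, t_mem_thin⟩ : L) (Q.subgroupOf L) := by
    refine ⟨?_, Subtype.ext hS.mul_self, fun h => hS.ne_one (congrArg Subtype.val h), hS.not_mem,
      fun y hy => hS.le hy, fun g hg y hy => hS.conj_mem (g : G) hg (y : G) hy, ?_, ?_, ?_, ?_⟩
    · rw [MulAction.is_two_pretransitive_iff]
      intro b c b' c' hbc hbc'
      obtain ⟨g, hg, g1, g2⟩ := thin_move hS hbc
      obtain ⟨g', hg', g1', g2'⟩ := thin_move hS hbc'
      refine ⟨⟨g' * g⁻¹, mul_mem hg' (inv_mem hg)⟩, ?_, ?_⟩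
      · show (g' * g⁻¹) • b = b'
        rw [← g1, mul_smul, inv_smul_smul, g1']
      · show (g' * g⁻¹) • c = c'
        rw [← g2, mul_smul, inv_smul_smul, g2']
    · rw [eq_bot_iff]
      intro y hy
      obtain ⟨h1, h4⟩ := Subgroup.mem_inf.1 hy
      have h5 : (y : G) ∈ Q ⊓ stabilizer G (t • a) := Subgroup.mem_inf.2 ⟨h1, h4⟩
      rw [hS.inf_eq_bot, Subgroup.mem_bot] at h5
      exact Subgroup.mem_bot.2 (Subtype.ext h5)
    · refine le_antisymm (sup_le (fun y hy => hS.le hy) inf_le_left) fun g hg => ?_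
      obtain ⟨q, hq, d, hd, hgqd⟩ := exists_qd hS (g := (g : G)) hg
      have hqL : q ∈ L := Q_le_thin hq
      have hdL : d ∈ L := by
        have : d = q⁻¹ * (g : G) := by rw [hgqd, inv_mul_cancel_left]
        rw [this]
        exact mul_mem (inv_mem hqL) g.2
      rw [show g = (⟨q, hqL⟩ : L) * ⟨d, hdL⟩ from Subtype.ext hgqd]
      exact Subgroup.mul_mem_sup (Subgroup.mem_subgroupOf.2 hq) hd
    · rw [Nat.card_congr (Subgroup.subgroupOfEquivOfLe (Q_le_thin (a := a) (t := t) (Q := Q))).toEquiv]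
      exact hS.even_card
    · refine Odd.of_dvd_nat hS.odd_card ?_
      rw [← Subgroup.card_map_of_injective L.subtype_injective]
      refine Subgroup.card_dvd_of_le ?_
      rintro _ ⟨d, hd, rfl⟩
      exact hd
  have h2L : ∃ y z : L, y ≠ 1 ∧ z ≠ 1 ∧ y ≠ z ∧ y * y = 1 ∧ z * z = 1 ∧ y * z = z * y := by
    obtain ⟨y, z, hy, hz, hne', hcm⟩ := two_invol_fixing hS h2
    exact ⟨⟨y, Q_le_thin (invol_central hS h2 hy).1⟩, ⟨z, Q_le_thin (invol_central hS h2 hz).1⟩,
      fun h => hy.2.1 (congrArg Subtype.val h), fun h => hz.2.1 (congrArg Subtype.val h),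
      fun h => hne' (congrArg Subtype.val h), Subtype.ext hy.2.2, Subtype.ext hz.2.2, Subtype.ext hcm⟩
  refine abelian_core hSL h2L
    (fun y hy z hz => Subtype.ext (hc (y : G) hy (z : G) hz))
    (hQ2.of_equiv (Subgroup.subgroupOfEquivOfLe (Q_le_thin (a := a) (t := t) (Q := Q))).symm)
    he (fun y hy => Subtype.ext (by simpa using hexp (y : G) hy)) ?_ (Or.inr ?_)
  · obtain ⟨y, hy, hy'⟩ := hmax
    exact ⟨⟨y, Q_le_thin hy⟩, hy, fun h => hy' (by simpa using congrArg Subtype.val h)⟩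
  · rw [Subgroup.card_eq_one, Subgroup.eq_bot_iff_forall]
    intro d hd
    obtain ⟨hdD, hdt⟩ := Subgroup.mem_inf.1 hd
    have hdD' := (htwo d).1 hdD
    have hdK := (mem_invK hS h2).1 (thin_two hS h2 hall d.2 hdD')
    have hdt' : (d : G) * t = t * (d : G) :=
      congrArg Subtype.val (Subgroup.mem_centralizer_singleton_iff.1 hdt)
    have h5 : (d : G) = (d : G)⁻¹ := by
      rw [← hdK.2, ← hdt', mul_inv_cancel_right]
    refine Subtype.ext (sq_inj (odd_orderOf hS.odd_card hdD') (by simp) ?_)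
    rw [OneMemClass.coe_one, one_mul]
    nth_rw 1 [h5]
    exact inv_mul_cancel _

end Cfsg.Agent.RankOne
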