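import Cfsg.Agent.Lib.RankOne.SmallQ
import Mathlib.FieldTheory.Finite.GaloisField

/-!
# Identification of the cases `|Q| = q` and `|Q| = q²`
-/

set_option autoImplicit false
set_option linter.unusedSectionVars false
set_option linter.style.haveILetI false

namespace Cfsg.Agent.RankOne

open MulAction

universe u v

variable {G : Type u} {Ω : Type v} [Group G] [MulAction G Ω] [Finite G] {a : Ω} {t : G} {Q : Subgroup G}
  (hS : Cfsg.IsRankOneSetup G Ω a t Q)

include hS in
/-- A non-trivial element of odd order fixing a point and inverted by an involution `u` moves no point of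
the pair `{p, u p}` and is conjugate into the inverted elements. -/
theorem exists_conj_inverted
    (h2 : ∃ x y : G, x ≠ 1 ∧ y ≠ 1 ∧ x ≠ y ∧ x * x = 1 ∧ y * y = 1 ∧ x * y = y * x)
    {y u : G} (hy1 : y ≠ 1) (hyo : Odd (orderOf y)) (hu : IsInvol u) (hi : u * y * u⁻¹ = y⁻¹) {p : Ω}
    (hp : y • p = p) :
    u • p ≠ p ∧ y • (u • p) = u • p ∧
      ∃ g : G, g • p = a ∧ g • (u • p) = t • a ∧ g * y * g⁻¹ ∈ Cfsg.invertedBy (twoStab a t) t := by
  have hyu : y • (u • p) = u • p := by
    have h : y * u = u * y⁻¹ := by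
      calc y * u = (u * y⁻¹ * u⁻¹) * u := by rw [← conj_inv, hi, inv_inv]
        _ = u * y⁻¹ := by group
    rw [← mul_smul, h, mul_smul, inv_smul_eq_iff.2 hp.symm]
  have hne : u • p ≠ p := by
    intro hup
    apply hy1
    have := pretransitive hS
    obtain ⟨g, hg⟩ := MulAction.exists_smul_eq G p a
    have hga : g⁻¹ • a = p := by rw [← hg, inv_smul_smul]
    have hv : IsInvol (u * y) := ⟨fun e => by
        have : y = u := by rw [← inv_eq_of_mul_eq_one_right e, hu.inv_eq]
        rw [this, hu.orderOf] at hyo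
        exact absurd hyo (by decide),
      by rw [show u * y * (u * y) = (u * y * u⁻¹) * y * (y⁻¹ * (u * u) * y) by group, hu.2, hi]; group⟩
    have key : ∀ w : G, IsInvol w → w • p = p →
        g * w * g⁻¹ ∈ Cfsg.involutionsIn (stabilizer G a : Set G) := fun w hw hw' =>
      (mem_involutionsIn hS).2 ⟨hw.conj g, by rw [mul_smul, mul_smul, hga, hw', hg]⟩
    have hc := (invol_central hS h2 (key u hu hup)).2 _
      (invol_central hS h2 (key (u * y) hv (by rw [mul_smul, hp, hup]))).1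
    have hc2 : u * (u * y) = (u * y) * u := by
      calc u * (u * y) = g⁻¹ * ((g * u * g⁻¹) * (g * (u * y) * g⁻¹)) * g := by group
        _ = (u * y) * u := by rw [hc]; group
    rw [← mul_assoc, hu.2, one_mul, mul_assoc, ← hu.inv_eq] at hc2
    have h : y = y⁻¹ := by
      conv_lhs => rw [hc2]
      rw [← hi, hu.inv_eq]
      group
    refine orderOf_eq_one_iff.1 (Nat.eq_one_of_dvd_coprimes (k := orderOf y)
      (Nat.coprime_two_right.2 hyo) dvd_rfl (orderOf_dvd_iff_pow_eq_one.2 ?_))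
    rw [pow_two]
    nth_rewrite 1 [h]
    exact inv_mul_cancel y
  refine ⟨hne, hyu, ?_⟩
  obtain ⟨g, g1, g2⟩ := exists_smul_pair hS hne.symm (ta_ne hS).symm
  have hu' : IsInvol (g * u * g⁻¹) := hu.conj g
  have hua : (g * u * g⁻¹) • a = t • a := by
    rw [mul_smul, mul_smul, ← g1, inv_smul_smul, g2, g1]
  obtain ⟨l, hl, hlu⟩ := swap_conj hS hu' hua
  have hla := mem_twoStab hS hl.1
  refine ⟨l * g, by rw [mul_smul, g1, hla.1], by rw [mul_smul, g2, hla.2], ?_, ?_⟩
  · have h1 : (g * y * g⁻¹) ∈ twoStab a t := Subgroup.mem_inf.2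
      ⟨by rw [mem_stabilizer_iff, mul_smul, mul_smul, ← g1, inv_smul_smul, hp],
        by rw [mem_stabilizer_iff, mul_smul, mul_smul, ← g2, inv_smul_smul, hyu]⟩
    rw [show l * g * y * (l * g)⁻¹ = l * (g * y * g⁻¹) * l⁻¹ by group]
    exact mul_mem (mul_mem hl.1 h1) (inv_mem hl.1)
  · rw [← hlu]
    calc l * (g * u * g⁻¹) * l⁻¹ * (l * g * y * (l * g)⁻¹) * (l * (g * u * g⁻¹) * l⁻¹)⁻¹
        = (l * g) * (u * y * u⁻¹) * (l * g)⁻¹ := by group
      _ = (l * g * y * (l * g)⁻¹)⁻¹ := by rw [hi]; group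

include hS in
/-- A non-trivial inverted element of `D` fixes only the two base points. -/
theorem inverted_fixed {k : G} (hk : k ∈ Cfsg.invertedBy (twoStab a t) t) (hk1 : k ≠ 1) {e : Ω}
    (he : k • e = e) : e = a ∨ e = t • a := by
  by_contra hne
  push Not at hne
  obtain ⟨q, hq, hqe⟩ := exists_q_smul hS hne.1
  obtain ⟨hka, hkb⟩ := mem_twoStab hS hk.1
  have hqq := (existsUnique_smul hS (ta_ne hS) hne.1).unique
    (y₁ := ⟨k * q * k⁻¹, hS.conj_mem k (show k • a = a from hka) q hq⟩) (y₂ := ⟨q, hq⟩) (by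
      show (k * q * k⁻¹) • (t • a) = e
      rw [mul_smul, mul_smul, inv_smul_eq_iff.2 hkb.symm, hqe, he]) hqe
  have hq1 : q ∈ Q ⊓ Subgroup.centralizer {k} := Subgroup.mem_inf.2 ⟨hq,
    Subgroup.mem_centralizer_singleton_iff.2
      (mul_inv_eq_iff_eq_mul.1 (congrArg Subtype.val hqq)).symm⟩
  rw [inverted_fpf hS hk hk1, Subgroup.mem_bot] at hq1
  exact hne.2 (by rw [← hqe, hq1, one_smul])

variable (h2 : ∃ x y : G, x ≠ 1 ∧ y ≠ 1 ∧ x ≠ y ∧ x * x = 1 ∧ y * y = 1 ∧ x * y = y * x)
include hS h2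

theorem card_invSub : Nat.card (invSub hS h2) =
    Nat.card (Cfsg.involutionsIn (stabilizer G a : Set G)) + 1 := by
  have hins : (invSub hS h2 : Set G) = insert 1 (Cfsg.involutionsIn (stabilizer G a : Set G)) :=
    Set.ext fun x => by simp only [SetLike.mem_coe, mem_invSub, Set.mem_insert_iff]
  show Nat.card ↥(invSub hS h2 : Set G) = _
  rw [Nat.card_coe_set_eq, Nat.card_coe_set_eq, hins,
    Set.ncard_insert_of_notMem (fun h => h.2.1 rfl) (Set.toFinite _)]

theorem card_invK : Nat.card (invK a t) + 1 = Nat.card (invSub hS h2) := by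
  rw [card_invSub hS h2, ← card_inverted hS]
  exact congrArg (· + 1) (Nat.card_congr (Equiv.subtypeEquivRight fun x => mem_invK hS h2))

theorem four_le : 4 ≤ Nat.card (invSub hS h2) := by
  obtain ⟨s, s', hs, hs', hne, -⟩ := two_invol_fixing hS h2
  rw [card_invSub hS h2, Nat.card_coe_set_eq]
  have hss : s * s' ∈ Cfsg.involutionsIn (stabilizer G a : Set G) :=
    (invol_mul hS h2 hs hs').resolve_left fun h =>
      hne ((eq_inv_of_mul_eq_one_left h).trans (inv_eq_of_mul_eq_one_right hs'.2.2))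
  have h1 : s ≠ s * s' := fun h => hs'.2.1 (mul_eq_left.1 h.symm)
  have h2' : s' ≠ s * s' := fun h => hs.2.1 (mul_eq_right.1 h.symm)
  have h3 : ({s, s', s * s'} : Set G).ncard = 3 := Set.ncard_eq_three.2 ⟨s, s', s * s', hne, h1, h2', rfl⟩
  have h4 := Set.ncard_le_ncard (s := ({s, s', s * s'} : Set G))
    (t := Cfsg.involutionsIn (stabilizer G a : Set G))
    (Set.insert_subset hs (Set.insert_subset hs' (Set.singleton_subset_iff.2 hss))) (Set.toFinite _)
  omega

/-- If `|Q| = q²` then `r` is not an involution. -/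
theorem r_not_mem {s r : G} (hs : s ∈ Cfsg.involutionsIn (stabilizer G a : Set G)) (hr : r ∈ Q)
    (heq : t * s * t = r⁻¹ * t * r) (hcard : Nat.card Q = Nat.card (invSub hS h2) ^ 2) :
    r ∉ invSub hS h2 := by
  classical
  intro hrA
  have hti := inv_t hS
  have hsQ := (invol_central hS h2 hs).1
  set b := t • a with hb
  have hr2 : r * r = 1 := by
    rcases hrA with rfl | h
    · exact one_mul 1
    · exact h.2.2
  have hrs : r = s := by
    have e1 : t * r * t = r * 1 * t * s := by rw [mul_one]; exact trt hS h2 hs hr heq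
    have e2 : t * r * t = s * 1 * t * r := by
      calc t * r * t = t⁻¹ * r⁻¹ * t⁻¹ := by rw [hti, inv_eq_of_mul_eq_one_right hr2]
        _ = (t * r * t)⁻¹ := by group
        _ = s⁻¹ * t⁻¹ * r⁻¹ := by rw [e1]; group
        _ = _ := by rw [hti, inv_eq_of_mul_eq_one_right hr2, inv_eq_of_mul_eq_one_right hs.2.2, mul_one]
    exact (ghtf_unique hS hr (one_mem _) hsQ hsQ (one_mem _) hr (e1.symm.trans e2)).1
  subst hrs
  rw [inv_eq_of_mul_eq_one_right hs.2.2] at heq
  have hra : r • a = a := hs.1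
  have htb : t • b = a := by rw [hb, ← mul_smul, hS.mul_self, one_smul]
  -- the orbit
  set Ω₀ : Set Ω := {p | p = a ∨ ∃ z ∈ invSub hS h2, z • b = p} with hΩ₀
  have hAa : ∀ z ∈ invSub hS h2, z • a = a := fun z hz => smul_a hS (invSub_le_Q hS h2 hz)
  have hTinv : ∀ p ∈ Ω₀, t • p ∈ Ω₀ := by
    rintro p (rfl | ⟨z, hz, rfl⟩)
    · exact Or.inr ⟨1, one_mem _, by rw [one_smul]⟩
    rcases hz with rfl | hz
    · exact Or.inl (by rw [one_smul, htb])
    obtain ⟨c, hc, rfl⟩ := inverted_transitive hS hs hz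
    obtain ⟨hca, hcb⟩ := mem_twoStab hS hc.1
    refine Or.inr ⟨c * r * c⁻¹, conj_mem_invSub hS h2 hc.1 (Or.inr hs), ?_⟩
    have htc : t * c * t = c⁻¹ := tkt_eq hS h2 (Subgroup.subset_closure hc)
    have htc' : t * c⁻¹ * t = c := by
      calc t * c⁻¹ * t = t * (t * c * t) * t := by rw [htc]
        _ = (t * t) * c * (t * t) := by group
        _ = c := by rw [hS.mul_self, one_mul, mul_one]
    have e : t * (c⁻¹ * r * c) * t = c * (r * t * r) * c⁻¹ := by
      calc t * (c⁻¹ * r * c) * t = (t * c⁻¹ * t⁻¹) * (t * r * t⁻¹) * (t * c * t) := by group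
        _ = c * (r * t * r) * c⁻¹ := by rw [hti, htc', heq, htc]
    calc (c * r * c⁻¹) • b = (c * (r * t * r) * c⁻¹) • a := by
          simp only [mul_smul]
          rw [inv_smul_eq_iff.2 hca.symm, hra, inv_smul_eq_iff.2 hcb.symm]
      _ = t • (c⁻¹ * r * c) • b := by
          rw [hb, ← mul_smul, ← mul_smul, e]
  -- the centre of `t`
  have htrb : t • (r • b) = r • b := by
    calc t • (r • b) = (t * r * t) • a := by rw [mul_smul, mul_smul, hb]
      _ = r • b := by rw [heq, mul_smul, mul_smul, hra, hb]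
  -- an involution `z` with `z t` free on `Ω₀`
  set I := Cfsg.involutionsIn (stabilizer G a : Set G) with hI
  have hz : ∃ z ∈ I, ∀ p ∈ Ω₀, (z * t) • p ≠ p := by
    by_contra hno
    push Not at hno
    have key : ∀ z : I, ∃ w : G, w ∈ I \ {r} ∧ (z.1 * t) • (w • b) = w • b := by
      intro z
      obtain ⟨p, hp, hfix⟩ := hno z.1 z.2
      have hza : z.1 • a = a := z.2.1
      rw [mul_smul] at hfix
      rcases hp with rfl | ⟨w, hw, rfl⟩
      · exact absurd (MulAction.injective _ (hfix.trans hza.symm)) (ta_ne hS)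
      rcases hw with rfl | hw
      · rw [one_smul, htb, hza] at hfix
        exact absurd hfix (ta_ne hS).symm
      refine ⟨w, ⟨hw, fun h => ?_⟩, by rw [mul_smul]; exact hfix⟩
      rw [Set.mem_singleton_iff.1 h, htrb] at hfix
      have := fixed_unique hS (⟨z.2.2.1, z.2.2.2⟩ : IsInvol z.1) hfix hza
      exact ta_ne hS (MulAction.injective r (this.trans hra.symm))
    choose w hw hfix using key
    have hinj : Function.Injective (fun z : I => (⟨w z, hw z⟩ : ↥(I \ {r}))) := by
      intro z z' h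
      have hwz : w z = w z' := congrArg Subtype.val h
      have h1 := hfix z
      have h1' := hfix z'
      rw [← hwz] at h1'
      rw [mul_smul] at h1 h1'
      have hne : t • (w z • b) ≠ a := fun h => by
        rw [← htb] at h
        have h' := MulAction.injective t h
        exact (hw z).1.2.1 (congrArg Subtype.val
          ((existsUnique_smul hS (ta_ne hS) (c := b) (ta_ne hS)).unique
            (y₁ := ⟨w z, (invol_central hS h2 (hw z).1).1⟩) (y₂ := 1) h'
            (by rw [OneMemClass.coe_one, one_smul])))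
      have hne2 : w z • b ≠ a := fun h => ta_ne hS (MulAction.injective (w z)
        (h.trans (hw z).1.1.symm))
      exact Subtype.ext (congrArg (fun q : Q => (q : G)) ((existsUnique_smul hS hne hne2).unique
        (y₁ := ⟨z.1, (invol_central hS h2 z.2).1⟩) (y₂ := ⟨z'.1, (invol_central hS h2 z'.2).1⟩) h1 h1'))
    have hle := Nat.card_le_card_of_injective _ hinj
    rw [Nat.card_coe_set_eq, Nat.card_coe_set_eq, Set.ncard_sdiff_singleton_of_mem hs] at hle
    have : 0 < I.ncard := (Set.ncard_pos (Set.toFinite _)).2 ⟨r, hs⟩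
    omega
  obtain ⟨z, hz, hfree⟩ := hz
  have hzA : z ∈ invSub hS h2 := Or.inr hz
  have hzi : IsInvol z := ⟨hz.2.1, hz.2.2⟩
  have hcne : a ≠ r • b := fun h => ta_ne hS (MulAction.injective r (h.symm.trans hra.symm))
  have hxo : Odd (orderOf (z * t)) := odd_mul hS hzi (t_invol hS) (hz.1) htrb hcne
  set x := z * t with hx
  have hxne : x ≠ 1 := fun e => hfree a (Or.inl rfl) (by rw [e, one_smul])
  obtain ⟨r₀, hr₀, hdvd⟩ := Nat.exists_prime_and_dvd (orderOf_eq_one_iff.not.2 hxne)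
  set y := x ^ (orderOf x / r₀) with hy
  have hyo : orderOf y = r₀ := orderOf_pow_orderOf_div (orderOf_pos x).ne' hdvd
  have hy1 : y ≠ 1 := fun e => hr₀.ne_one (by rw [← hyo, e, orderOf_one])
  have hr₀o : Odd r₀ := hxo.of_dvd_nat hdvd
  have hyodd : Odd (orderOf y) := hyo ▸ hr₀o
  have hinvt : ∀ u : G, IsInvol u → u * x * u⁻¹ = x⁻¹ → u * y * u⁻¹ = y⁻¹ := fun u _ h => by
    rw [hy, ← conj_pow, h, inv_pow]
  have hit := hinvt t (t_invol hS) (by
    rw [hx, mul_inv_rev, hzi.inv_eq, hti]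
    calc t * (z * t) * t = t * z * (t * t) := by group
      _ = t * z := by rw [hS.mul_self, mul_one])
  have hiz := hinvt z hzi (by
    rw [hx, mul_inv_rev, hzi.inv_eq, hti, ← mul_assoc z z t, hzi.2, one_mul])
  have hyfree : ∀ p ∈ Ω₀, y • p ≠ p := by
    intro p hp hfix
    obtain ⟨hne, -, g, g1, g2, hgK⟩ := exists_conj_inverted hS h2 hy1 hyodd (t_invol hS) hit hfix
    obtain ⟨hne', hzfix, -⟩ := exists_conj_inverted hS h2 hy1 hyodd hzi hiz hfix
    have hk1 : g * y * g⁻¹ ≠ 1 := fun e => hy1 (conj_eq_one_iff.1 e)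
    have := inverted_fixed hS hgK hk1 (e := g • (z • p))
      (by rw [mul_smul, mul_smul, inv_smul_smul, hzfix])
    rcases this with h | h
    · exact hne' (MulAction.injective g (h.trans g1.symm))
    · have : z • p = t • p := MulAction.injective g (h.trans g2.symm)
      refine hfree p hp ?_
      rw [mul_smul, ← this, ← mul_smul, hzi.2, one_smul]
  -- `r₀` divides `q + 1`
  have hxΩ : ∀ p ∈ Ω₀, x • p ∈ Ω₀ := by
    intro p hp
    rw [hx, mul_smul]
    rcases hTinv p hp with h | ⟨w, hw, h⟩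
    · rw [h]; exact Or.inl (hAa z hzA)
    · rw [← h, ← mul_smul]; exact Or.inr ⟨z * w, mul_mem hzA hw, rfl⟩
  have hyΩ : ∀ p ∈ Ω₀, y • p ∈ Ω₀ := by
    rw [hy]
    generalize orderOf x / r₀ = m
    induction m with
    | zero => intro p hp; rwa [pow_zero, one_smul]
    | succ m ih => intro p hp; rw [pow_succ, mul_smul]; exact ih _ (hxΩ p hp)
  have hΩcard : Nat.card Ω₀ = Nat.card (invSub hS h2) + 1 := by
    have := finite_points hS
    have e : Ω₀ = insert a ((fun w : invSub hS h2 => (w : G) • b) '' Set.univ) := by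
      ext p
      simp [hΩ₀, eq_comm]
    rw [Nat.card_coe_set_eq, e, Set.ncard_insert_of_notMem ?_ (Set.toFinite _), Set.ncard_image_of_injective _ ?_,
      Set.ncard_univ]
    · intro w w' h
      exact Subtype.ext (congrArg (fun q : Q => (q : G)) ((existsUnique_smul hS (ta_ne hS)
        (c := (w : G) • b) (fun h' => ta_ne hS (MulAction.injective _ (h'.trans (hAa w w.2).symm)))).unique
        (y₁ := ⟨(w : G), invSub_le_Q hS h2 w.2⟩) (y₂ := ⟨(w' : G), invSub_le_Q hS h2 w'.2⟩) rfl h.symm))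
    · rintro ⟨w, -, h⟩
      exact ta_ne hS (MulAction.injective (w : G) (h.trans (hAa w w.2).symm))
  have hdiv : r₀ ∣ Nat.card (invSub hS h2) + 1 := by
    by_contra hnd
    haveI := Fact.mk hr₀
    have := finite_points hS
    haveI : Fintype Ω₀ := Fintype.ofFinite _
    let σ : Equiv.Perm Ω₀ := (MulAction.toPerm y : Equiv.Perm Ω).subtypePerm fun p => ⟨fun h => by
      have h' : ∀ m : ℕ, (y ^ m) • (y • p) ∈ Ω₀ := by
        intro m
        induction m with
        | zero => rw [pow_zero, one_smul]; exact h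
        | succ m ih => rw [pow_succ', mul_smul]; exact hyΩ _ ih
      have := h' (r₀ - 1)
      rwa [← mul_smul, ← pow_succ, Nat.sub_add_cancel hr₀.one_le, ← hyo, pow_orderOf_eq_one, one_smul] at this,
      fun h => hyΩ p h⟩
    have hσ : ∀ (m : ℕ) (p : Ω₀), ((σ ^ m) p : Ω) = (y ^ m) • (p : Ω) := by
      intro m p
      induction m with
      | zero => simp
      | succ m ih =>
        rw [pow_succ', pow_succ', Equiv.Perm.mul_apply, mul_smul, ← ih]
        rfl
    obtain ⟨p, hp⟩ := Equiv.Perm.exists_fixed_point_of_prime (p := r₀) (n := 1) (σ := σ)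
      (by rw [← Nat.card_eq_fintype_card, hΩcard]; exact hnd) (by
        refine Equiv.ext fun p => Subtype.ext ?_
        rw [pow_one, hσ, ← hyo, pow_orderOf_eq_one, one_smul, Equiv.Perm.one_apply])
    exact hyfree p p.2 (congrArg Subtype.val hp)
  -- a fixed point outside `Ω₀`
  have hfix : ∃ p : Ω, y • p = p := by
    by_contra hno
    push Not at hno
    haveI := Fact.mk hr₀
    have := finite_points hS
    haveI : Fintype Ω := Fintype.ofFinite Ω
    have hnd : ¬ r₀ ∣ Fintype.card Ω := by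
      rw [← Nat.card_eq_fintype_card, card_points hS, hcard]
      intro h
      have h3 : r₀ ∣ 2 := by
        obtain ⟨i, hi⟩ := hdiv
        obtain ⟨j, hj⟩ := h
        have : (r₀ : ℤ) ∣ 2 := ⟨(j : ℤ) - (i : ℤ) * ((Nat.card (invSub hS h2) : ℤ) - 1), by
          have hi' : ((Nat.card (invSub hS h2) : ℤ) + 1) = r₀ * i := by exact_mod_cast hi
          have hj' : ((Nat.card (invSub hS h2) : ℤ) ^ 2 + 1) = r₀ * j := by exact_mod_cast hj
          linear_combination hj' - ((Nat.card (invSub hS h2) : ℤ) - 1) * hi'⟩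
        exact_mod_cast this
      have := (Nat.prime_dvd_prime_iff_eq hr₀ Nat.prime_two).1 h3
      rw [this] at hr₀o
      exact absurd hr₀o (by decide)
    obtain ⟨p, hp⟩ := Equiv.Perm.exists_fixed_point_of_prime (p := r₀) (n := 1)
      (σ := (MulAction.toPerm y : Equiv.Perm Ω)) hnd (by
        refine Equiv.ext fun p => ?_
        rw [pow_one, ← MulAction.toPermHom_apply, ← map_pow, ← hyo, pow_orderOf_eq_one, map_one])
    exact hno p hp
  obtain ⟨p, hp⟩ := hfix
  obtain ⟨-, -, g, -, -, hgK⟩ := exists_conj_inverted hS h2 hy1 hyodd (t_invol hS) hit hp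
  have hmem : g * y * g⁻¹ ∈ invK a t := Subgroup.subset_closure hgK
  have h := Subgroup.orderOf_dvd_natCard _ hmem
  rw [← MulAut.conj_apply, MulEquiv.orderOf_eq, hyo] at h
  have hK := card_invK hS h2
  have h2d : r₀ ∣ 2 := by
    rw [← hK] at hdiv
    rw [show Nat.card (invK a t) + 1 + 1 = Nat.card (invK a t) + 2 by ring] at hdiv
    exact (Nat.dvd_add_right h).1 hdiv
  have := (Nat.prime_dvd_prime_iff_eq hr₀ Nat.prime_two).1 h2d
  rw [this] at hr₀o
  exact absurd hr₀o (by decide)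

/-- For `|Q| ∈ {q, q²}` every `h`-part is inverted. -/
theorem hall_small (hcard : Nat.card Q = Nat.card (invSub hS h2) ∨
    Nat.card Q = Nat.card (invSub hS h2) ^ 2) : ∀ x ∈ Q, x ≠ 1 → HK a t Q x := by
  obtain ⟨⟨s, r⟩, ⟨hs, hr, heq⟩, -⟩ := structure_equation hS
  intro x hx hx1
  by_cases hxA : x ∈ invSub hS h2
  · exact hk_invol hS h2 hs hr heq (hxA.resolve_left hx1)
  have hAQ : invSub hS h2 ≤ Q := fun y hy => invSub_le_Q hS h2 hy
  rcases hcard with hc | hc
  · exact absurd ((Subgroup.eq_of_le_of_card_ge hAQ hc.le).symm ▸ hx) hxA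
  have hrA := r_not_mem hS h2 hs hr heq hc
  classical
  let S : Set G := {y | y ∈ Q ∧ y ∉ invSub hS h2}
  let f : invK a t × invSub hS h2 → S := fun p => ⟨(p.1 : G)⁻¹ * (r * p.2) * p.1,
    (by
      have h := hS.conj_mem _ (inv_mem (Subgroup.mem_inf.1 (invK_le hS p.1.2)).1) _
        (mul_mem hr (invSub_le_Q hS h2 p.2.2))
      simpa using h),
    fun h => hrA (by
      have h' := conj_mem_invSub hS h2 (invK_le hS p.1.2) h
      rw [show (p.1 : G) * ((p.1 : G)⁻¹ * (r * p.2) * p.1) * (p.1 : G)⁻¹ = r * p.2 by group] at h'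
      simpa using mul_mem h' (inv_mem p.2.2))⟩
  have hinj : Function.Injective f := by
    rintro ⟨⟨c, hc'⟩, ⟨z, hz⟩⟩ ⟨⟨c₁, hc₁⟩, ⟨z₁, hz₁⟩⟩ h
    have e : c⁻¹ * (r * z) * c = c₁⁻¹ * (r * z₁) * c₁ := congrArg Subtype.val h
    set d := c * c₁⁻¹ with hd
    have hdK : d ∈ invK a t := mul_mem hc' (inv_mem hc₁)
    have e' : d⁻¹ * (r * z) * d = r * z₁ := by
      calc d⁻¹ * (r * z) * d = c₁ * (c⁻¹ * (r * z) * c) * c₁⁻¹ := by rw [hd]; group
        _ = r * z₁ := by rw [e]; group
    by_cases hd1 : d = 1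
    · have hcc : c = c₁ := mul_inv_eq_one.1 hd1
      subst hcc
      have hzz : r * z = r * z₁ := by simpa [hd1] using e'
      simp [mul_left_cancel hzz]
    exfalso
    set A := invSub hS h2 with hA
    have hdD := invK_le hS hdK
    have hdA : ∀ w ∈ A, d⁻¹ * w * d ∈ A := fun w hw => by
      simpa using conj_mem_invSub hS h2 (inv_mem hdD) hw
    have hfp : ∀ w ∈ Q, d * w = w * d → w = 1 := fun w hw hdw => by
      have : w ∈ Q ⊓ Subgroup.centralizer {d} :=
        Subgroup.mem_inf.2 ⟨hw, Subgroup.mem_centralizer_singleton_iff.2 hdw.symm⟩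
      rwa [inverted_fpf hS ((mem_invK hS h2).1 hdK) hd1, Subgroup.mem_bot] at this
    let φ : A → A := fun w => ⟨(w : G)⁻¹ * (d⁻¹ * w * d), mul_mem (inv_mem w.2) (hdA w w.2)⟩
    have hφ : Function.Injective φ := by
      intro w w' h
      have e1 : (w : G)⁻¹ * (d⁻¹ * w * d) = (w' : G)⁻¹ * (d⁻¹ * w' * d) := congrArg Subtype.val h
      have hfix : d⁻¹ * ((w : G) * (w' : G)⁻¹) * d = (w : G) * (w' : G)⁻¹ := by
        calc d⁻¹ * ((w : G) * (w' : G)⁻¹) * d
            = (w : G) * ((w : G)⁻¹ * (d⁻¹ * w * d)) * ((w' : G)⁻¹ * (d⁻¹ * w' * d))⁻¹ * (w' : G)⁻¹ := by group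
          _ = _ := by rw [e1]; group
      refine Subtype.ext (mul_inv_eq_one.1 (hfp _ (invSub_le_Q hS h2 (mul_mem w.2 (inv_mem w'.2))) ?_))
      calc d * ((w : G) * (w' : G)⁻¹) = d * (d⁻¹ * ((w : G) * (w' : G)⁻¹) * d) := by rw [hfix]
        _ = _ := by group
    obtain ⟨⟨w, hw⟩, hwe⟩ := (Finite.injective_iff_surjective.1 hφ)
      ⟨z₁ * (d⁻¹ * z * d)⁻¹, mul_mem hz₁ (inv_mem (hdA z hz))⟩
    have hwe' : w⁻¹ * (d⁻¹ * w * d) = z₁ * (d⁻¹ * z * d)⁻¹ := congrArg Subtype.val hwe
    have hrd : d⁻¹ * r * d = r * (w⁻¹ * (d⁻¹ * w * d)) := by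
      calc d⁻¹ * r * d = (d⁻¹ * (r * z) * d) * (d⁻¹ * z * d)⁻¹ := by group
        _ = _ := by rw [e', hwe']; group
    have hfix : d⁻¹ * (r * w⁻¹) * d = r * w⁻¹ := by
      calc d⁻¹ * (r * w⁻¹) * d = (d⁻¹ * r * d) * (d⁻¹ * w * d)⁻¹ := by group
        _ = _ := by rw [hrd]; group
    have hr1 := hfp _ (mul_mem hr (inv_mem (invSub_le_Q hS h2 hw))) (by
      calc d * (r * w⁻¹) = d * (d⁻¹ * (r * w⁻¹) * d) := by rw [hfix]
        _ = _ := by group)
    exact hrA (by rw [mul_inv_eq_one.1 hr1]; exact hw)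
  have hS' : Nat.card S = Nat.card Q - Nat.card (invSub hS h2) := by
    show Nat.card ↥((Q : Set G) \ (invSub hS h2 : Set G)) = _
    rw [Nat.card_coe_set_eq, Set.ncard_sdiff hAQ (Set.toFinite _), ← Nat.card_coe_set_eq,
      ← Nat.card_coe_set_eq]
    rfl
  have hbij : Function.Bijective f := (Nat.bijective_iff_injective_and_card f).2 ⟨hinj, by
    rw [Nat.card_prod, hS', hc, ← card_invK hS h2]
    refine (Nat.eq_sub_of_add_eq ?_)
    ring⟩
  obtain ⟨⟨⟨c, hc'⟩, ⟨z, hz⟩⟩, he⟩ := hbij.2 ⟨x, hx, hxA⟩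
  have he' : c⁻¹ * (r * z) * c = x := congrArg Subtype.val he
  rw [← he']
  have hne : r * z ≠ 1 := fun h => hrA (by rw [eq_inv_of_mul_eq_one_left h]; exact inv_mem hz)
  refine hk_conj hS h2 (mul_mem hr (invSub_le_Q hS h2 hz)) hne hc' ?_
  rcases hz with rfl | hz
  · rw [mul_one]; exact hk_r hS h2 hs hr heq
  · exact hk_mul hS h2 hs hr heq hz hne

/-- The cases `|Q| = q, q²`. -/
theorem small_q [FaithfulSMul G Ω] (hcard : Nat.card Q = Nat.card (invSub hS h2) ∨
    Nat.card Q = Nat.card (invSub hS h2) ^ 2) :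
    ∃ L : Subgroup G, L.Normal ∧ Odd L.index ∧
      ((∃ (F : Type) (_ : Field F) (_ : Fintype F), (∃ n : ℕ, 2 ≤ n ∧ Fintype.card F = 2 ^ n) ∧
          Nonempty (L ≃* Matrix.ProjectiveSpecialLinearGroup (Fin 2) F)) ∨
        Cfsg.Lie.IsoSuzuki L) := by
  classical
  have hall := hall_small hS h2 hcard
  haveI := finite_points hS
  letI : Fintype Ω := Fintype.ofFinite Ω
  refine ⟨thin a t Q, thin_normal hS h2 hall, thin_odd_index hS h2 hall, ?_⟩
  set L := thin a t Q with hL
  have hZ : Cfsg.IsZassenhausGroup L Ω := thin_zassenhaus hS h2 hall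
  haveI : IsSimpleGroup L := ZassNormal.simple_of_odd hZ (by
    rw [← Nat.card_eq_fintype_card]; exact odd_card_points hS)
  letI : Fintype L := Fintype.ofFinite L
  set H : Subgroup L := Q.subgroupOf L with hH
  have hHQ : Nat.card H = Nat.card Q := Nat.card_congr (Subgroup.subgroupOfEquivOfLe Q_le_thin).toEquiv
  have D : ZassKer.Ker a (t • a) H := by
    refine ⟨hZ, (ta_ne hS).symm, fun x hx => smul_a hS (show (x : G) ∈ Q from hx), ?_, fun u hu hu1 c hc =>
      eq_a_of_fixed hS (show (u : G) ∈ Q from hu) (fun h => hu1 (Subtype.ext h)) hc, fun g hg u hu =>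
      hS.conj_mem (g : G) (show (g : G) • a = a from hg) _ hu⟩
    rw [hHQ, ← Nat.card_eq_fintype_card, card_points hS]
  have htwo : Nat.card (Zass.two (G := L) a (t • a)) = Nat.card (invK a t) := by
    refine Nat.card_congr
      { toFun := fun x => ⟨((x : L) : G), thin_two hS h2 hall (x : L).2 x.2⟩
        invFun := fun x => ⟨⟨x, invK_le_thin x.2⟩, invK_le hS x.2⟩
        left_inv := fun x => rfl
        right_inv := fun x => rfl }
  have hK := card_invK hS h2
  have h4 := four_le hS h2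
  have hhalf : ∀ n q : ℕ, n + 1 = q → 4 ≤ q → n ≠ q ^ 2 - 1 ∧ q ^ 2 - 1 ≠ 2 * n := by
    intro n q h h'
    have : q * 4 ≤ q ^ 2 := by rw [pow_two]; exact Nat.mul_le_mul_left q h'
    omega
  rcases hcard with hc | hc
  · left
    have hne : ∀ u ∈ H, ∀ v ∈ H, u * v = v * u := by
      intro u hu v hv
      have hu' : (u : G) ∈ invSub hS h2 := by
        rw [Subgroup.eq_of_le_of_card_ge (fun y hy => invSub_le_Q hS h2 hy) hc.le]
        exact hu
      exact Subtype.ext (invSub_comm hS h2 hu' (show (v : G) ∈ Q from hv))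
    have A := D.ab hne
    have heq : Nat.card (Zass.two (G := L) a (t • a)) = Nat.card H - 1 := by
      rw [htwo, hHQ, hc]; omega
    obtain ⟨h3, hs3⟩ := A.sharply heq
    obtain ⟨p, f, hp, hf, hpf⟩ := (isPrimePow_nat_iff _).mp D.isPrimePow
    haveI := Fact.mk hp
    have hp2 : p = 2 := by
      have h2' : 2 ∣ Nat.card H := hHQ ▸ hS.even_card.two_dvd
      rw [← hpf] at h2'
      exact ((Nat.prime_dvd_prime_iff_eq Nat.prime_two hp).1 (Nat.prime_two.dvd_of_dvd_pow h2')).symm
    subst hp2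
    have hf2 : 2 ≤ f := by
      by_contra hlt
      have : f = 1 := by omega
      rw [this, hHQ, hc] at hpf
      omega
    obtain ⟨e1⟩ := SharpEven.equiv_pgl hf (by rw [Nat.card_eq_fintype_card, ← D.card, hpf])
      (SharpEven.sharp3_of_pretransitive h3 hs3)
    haveI : Fintype (GaloisField 2 f) := Fintype.ofFinite _
    have hF : Fintype.card (GaloisField 2 f) = 2 ^ f := by
      rw [← Nat.card_eq_fintype_card, GaloisField.card 2 f (by omega)]
    obtain ⟨e2⟩ := SharpEven.psl_equiv_pgl (F := GaloisField 2 f) (f := f) hF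
    exact ⟨GaloisField 2 f, inferInstance, inferInstance, ⟨f, hf2, hF⟩, ⟨e1.trans e2.symm⟩⟩
  · right
    refine SzRecog.isoSuzuki (ZassSuz.Suz.of_ker D ?_)
    by_contra hno
    push Not at hno
    have A := D.ab hno
    obtain ⟨h1, h2'⟩ := hhalf _ _ hK h4
    rcases A.dichotomy with h | ⟨h, -⟩
    · rw [htwo, hHQ, hc] at h; exact h1 h
    · rw [htwo, hHQ, hc] at h; exact h2' h

end Cfsg.Agent.RankOne
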