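import Cfsg.Agent.Lib.RankOne.SmallQCases
import Cfsg.Agent.Lib.RankOne.SylowTwo
import Cfsg.Agent.Lib.RankOne.AbelianExp
import Cfsg.Agent.Lib.RankOneW.Basic
import Cfsg.Agent.S1137
import Cfsg.Agent.S1138

/-!
# The possible 2-groups `Q`: order `q` or `q²`, where the group is known, or a cube
-/

set_option autoImplicit false
set_option linter.unusedSectionVars false

namespace Cfsg.Agent.RankOne

open MulAction

variable {G Ω : Type*} [Group G] [MulAction G Ω] {a : Ω} {t : G} {Q : Subgroup G}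

/-- If `Q` is a 2-group, either `G` has a normal subgroup of odd index isomorphic to `PSL₂(q)` or to a
Suzuki group, or `Q` is non-abelian of order `q ^ 3`. -/
theorem two_group_cases [Finite G] [FaithfulSMul G Ω] (hS : Cfsg.IsRankOneSetup G Ω a t Q)
    (h2 : ∃ x y : G, x ≠ 1 ∧ y ≠ 1 ∧ x ≠ y ∧ x * x = 1 ∧ y * y = 1 ∧ x * y = y * x)
    (hP : IsPGroup 2 Q) :
    (∃ L : Subgroup G, L.Normal ∧ Odd L.index ∧
      ((∃ (F : Type) (_ : Field F) (_ : Fintype F), (∃ n : ℕ, 2 ≤ n ∧ Fintype.card F = 2 ^ n) ∧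
          Nonempty (L ≃* Matrix.ProjectiveSpecialLinearGroup (Fin 2) F)) ∨
        Cfsg.Lie.IsoSuzuki L)) ∨ IsCube a t Q := by
  classical
  by_cases hab : ∀ x ∈ Q, ∀ y ∈ Q, x * y = y * x
  · have hsq := abelian_exponent_two hS h2 hab hP
    refine Or.inl (small_q hS h2 (Or.inl ?_))
    exact Nat.card_congr (Equiv.subtypeEquivRight fun x =>
      ⟨fun hx => mem_invSub_of_sq hS h2 hx (hsq x hx), fun hx => invSub_le_Q hS h2 hx⟩)
  push Not at hab
  obtain ⟨x₀, hx₀, y₀, hy₀, hne⟩ := hab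
  have := Fact.mk Nat.prime_two
  let S : Sylow 2 Q :=
    { toSubgroup := ⊤
      isPGroup' := hP.to_subgroup _
      is_maximal' := fun _ h => top_le_iff.1 h }
  have hsuz : Cfsg.IsSuzukiTwoGroup ↥(⊤ : Subgroup Q) := by
    refine (sylow_two_abelian_or_suzuki hS h2 S).resolve_left fun h => hne ?_
    exact congrArg (fun z : (⊤ : Subgroup Q) => ((z : Q) : G))
      (h.1.comm ⟨⟨x₀, hx₀⟩, trivial⟩ ⟨⟨y₀, hy₀⟩, trivial⟩)
  obtain ⟨h37, h37'⟩ := Cfsg.Agent.S1137.result hsuz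
  have hcentre : ∀ x : (⊤ : Subgroup Q), x ∈ Subgroup.center (⊤ : Subgroup Q) ↔ x * x = 1 := by
    intro x
    refine ⟨h37' x, fun hx => ?_⟩
    by_cases hx1 : x = 1
    · rw [hx1]; exact one_mem _
    · exact ((h37 x).1 ⟨hx1, hx⟩).1
  have hZ : Nat.card (Subgroup.center (⊤ : Subgroup Q)) = Nat.card (invSub hS h2) :=
    Nat.card_congr
      { toFun := fun x => ⟨((x.1 : Q) : G), mem_invSub_of_sq hS h2 (x.1 : Q).2
          (congrArg (fun z : (⊤ : Subgroup Q) => ((z : Q) : G)) ((hcentre _).1 x.2))⟩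
        invFun := fun z => ⟨⟨⟨z, invSub_le_Q hS h2 z.2⟩, trivial⟩,
          (hcentre _).2 (Subtype.ext (Subtype.ext (invSub_sq hS h2 z.2)))⟩
        left_inv := fun x => rfl
        right_inv := fun z => rfl }
  have hcard : Nat.card (⊤ : Subgroup Q) = Nat.card Q := Subgroup.card_top
  rcases (Cfsg.Agent.S1138.result hsuz).2.2.1 with h | h <;> rw [hcard, hZ] at h
  · exact Or.inl (small_q hS h2 (Or.inr h))
  · exact Or.inr ⟨hP, h.trans (by rw [qSize_eq hS h2]), x₀, hx₀, y₀, hy₀, hne⟩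

end Cfsg.Agent.RankOne
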