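import Cfsg.Agent.Lib.RankOne.Coprime
import Mathlib.GroupTheory.GroupAction.MultipleTransitivity
import Mathlib.GroupTheory.GroupAction.Quotient

/-!
# First properties of the split rank-one set-up
-/

set_option autoImplicit false

namespace Cfsg.Agent.RankOne

open MulAction

variable {G Ω : Type*} [Group G] [MulAction G Ω] {a : Ω} {t : G} {Q : Subgroup G}

/-- The two-point stabiliser. -/
abbrev twoStab (a : Ω) (t : G) : Subgroup G := stabilizer G a ⊓ stabilizer G (t • a)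

section
variable (hS : Cfsg.IsRankOneSetup G Ω a t Q)
include hS

theorem inv_t : t⁻¹ = t := inv_eq_of_mul_eq_one_right hS.mul_self

theorem ta_ne : t • a ≠ a := fun h => hS.not_mem h

theorem exists_smul_pair {b c b' c' : Ω} (h : b ≠ c) (h' : b' ≠ c') :
    ∃ g : G, g • b = b' ∧ g • c = c' := by
  have := hS.two_transitive
  exact MulAction.is_two_pretransitive_iff.1 this h h'

theorem pretransitive : IsPretransitive G Ω := by
  refine ⟨fun x y => ?_⟩
  have key : ∀ z : Ω, ∃ g : G, g • a = z := fun z => by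
    by_cases h : a = z
    · exact ⟨1, by rw [one_smul, h]⟩
    · obtain ⟨g, hg, -⟩ := exists_smul_pair hS (ta_ne hS).symm (show z ≠ a from Ne.symm h)
      exact ⟨g, hg⟩
  obtain ⟨g, rfl⟩ := key x
  obtain ⟨g', rfl⟩ := key y
  exact ⟨g' * g⁻¹, by rw [mul_smul, inv_smul_smul]⟩

theorem finite_points [Finite G] : Finite Ω := by
  have := pretransitive hS
  exact Finite.of_surjective (fun g : G => g • a) (MulAction.surjective_smul G a)

theorem mem_twoStab {d : G} (hd : d ∈ twoStab a t) : d • a = a ∧ d • (t • a) = t • a := hd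

theorem conj_twoStab {d : G} (hd : d ∈ twoStab a t) : t * d * t⁻¹ ∈ twoStab a t := by
  obtain ⟨h1, h2⟩ := mem_twoStab hS hd
  refine Subgroup.mem_inf.2 ⟨?_, ?_⟩
  · rw [mem_stabilizer_iff, mul_smul, mul_smul, inv_t hS, h2, ← mul_smul, hS.mul_self, one_smul]
  · rw [mem_stabilizer_iff, mul_smul, mul_smul, inv_smul_smul, h1]

/-- `G_a = Q D`. -/
theorem exists_qd {g : G} (hg : g ∈ stabilizer G a) : ∃ q ∈ Q, ∃ d ∈ twoStab a t, g = q * d := by
  rw [← hS.sup_eq, Subgroup.sup_eq_closure] at hg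
  induction hg using Subgroup.closure_induction with
  | mem x hx =>
    rcases hx with hx | hx
    · exact ⟨x, hx, 1, one_mem _, (mul_one x).symm⟩
    · exact ⟨1, one_mem _, x, hx, (one_mul x).symm⟩
  | one => exact ⟨1, one_mem _, 1, one_mem _, (one_mul _).symm⟩
  | mul x y _ _ hx hy =>
    obtain ⟨q, hq, d, hd, rfl⟩ := hx
    obtain ⟨q', hq', d', hd', rfl⟩ := hy
    exact ⟨q * (d * q' * d⁻¹), mul_mem hq (hS.conj_mem d (Subgroup.mem_inf.1 hd).1 q' hq'), d * d', mul_mem hd hd', by group⟩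
  | inv x _ hx =>
    obtain ⟨q, hq, d, hd, rfl⟩ := hx
    exact ⟨d⁻¹ * q⁻¹ * (d⁻¹)⁻¹, hS.conj_mem _ (inv_mem (Subgroup.mem_inf.1 hd).1) _ (inv_mem hq), d⁻¹, inv_mem hd, by group⟩

theorem qd_unique {q q' d d' : G} (hq : q ∈ Q) (hq' : q' ∈ Q) (hd : d ∈ twoStab a t)
    (hd' : d' ∈ twoStab a t) (h : q * d = q' * d') : q = q' ∧ d = d' := by
  have h1 : q'⁻¹ * q = d' * d⁻¹ := by
    calc q'⁻¹ * q = q'⁻¹ * (q * d) * d⁻¹ := by group
      _ = d' * d⁻¹ := by rw [h]; group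
  have h2 : q'⁻¹ * q ∈ Q ⊓ stabilizer G (t • a) :=
    Subgroup.mem_inf.2 ⟨mul_mem (inv_mem hq') hq, h1 ▸ (Subgroup.mem_inf.1 (mul_mem hd' (inv_mem hd))).2⟩
  rw [hS.inf_eq_bot, Subgroup.mem_bot, inv_mul_eq_one] at h2
  exact ⟨h2.symm, mul_left_cancel (h2.symm ▸ h)⟩

theorem smul_a {x : G} (hx : x ∈ Q) : x • a = a := hS.le hx

/-- `Q` is transitive on the points other than `a`. -/
theorem exists_q_smul {c : Ω} (hc : c ≠ a) : ∃ q ∈ Q, q • (t • a) = c := by
  obtain ⟨g, hg1, hg2⟩ := exists_smul_pair hS (ta_ne hS).symm (Ne.symm hc)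
  obtain ⟨q, hq, d, hd, rfl⟩ := exists_qd hS (g := g) hg1
  exact ⟨q, hq, by rwa [mul_smul, (mem_twoStab hS hd).2] at hg2⟩

/-- Only `a` is fixed by a non-identity element of `Q`. -/
theorem eq_a_of_fixed {x : G} (hx : x ∈ Q) (hx1 : x ≠ 1) {c : Ω} (hc : x • c = c) : c = a := by
  by_contra hca
  obtain ⟨q, hq, rfl⟩ := exists_q_smul hS hca
  have h : q⁻¹ * x * q ∈ Q ⊓ stabilizer G (t • a) :=
    Subgroup.mem_inf.2 ⟨mul_mem (mul_mem (inv_mem hq) hx) hq, by
      show (q⁻¹ * x * q) • (t • a) = t • a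
      rw [mul_smul, mul_smul, hc, inv_smul_smul]⟩
  rw [hS.inf_eq_bot, Subgroup.mem_bot] at h
  exact hx1 (by
    calc x = q * (q⁻¹ * x * q) * q⁻¹ := by group
      _ = 1 := by rw [h]; group)

theorem existsUnique_smul {b c : Ω} (hb : b ≠ a) (hc : c ≠ a) : ∃! x : Q, (x : G) • b = c := by
  obtain ⟨p, hp, rfl⟩ := exists_q_smul hS hb
  obtain ⟨q, hq, rfl⟩ := exists_q_smul hS hc
  refine ⟨⟨q * p⁻¹, mul_mem hq (inv_mem hp)⟩, by simp [mul_smul], fun y hy => Subtype.ext ?_⟩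
  by_contra hne
  refine hb (eq_a_of_fixed hS (x := (q * p⁻¹)⁻¹ * y) (mul_mem (inv_mem (mul_mem hq (inv_mem hp))) y.2)
    (fun h => hne (inv_mul_eq_one.1 h).symm) ?_)
  rw [mul_smul, hy, mul_inv_rev, inv_inv, mul_smul, inv_smul_smul]

theorem card_points [Finite G] : Nat.card Ω = Nat.card Q + 1 := by
  classical
  have := finite_points hS
  have : Fintype Ω := Fintype.ofFinite Ω
  have he : Nat.card Q = Nat.card {c : Ω // c ≠ a} := by
    refine Nat.card_eq_of_bijective (fun x : Q => (⟨(x : G) • (t • a), fun h => ta_ne hS (by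
      have h2 : (x : G) • (t • a) = (x : G) • a := h.trans (smul_a hS x.2).symm
      exact MulAction.injective _ h2)⟩ : {c : Ω // c ≠ a})) ⟨fun x y h => ?_, fun c => ?_⟩
    · exact (existsUnique_smul hS (ta_ne hS) (b := t • a) (c := (y : G) • (t • a)) (fun h' => ta_ne hS
        (MulAction.injective _ (h'.trans (smul_a hS y.2).symm)))).unique (congrArg Subtype.val h) rfl
    · obtain ⟨q, hq, hqc⟩ := exists_q_smul hS c.2
      exact ⟨⟨q, hq⟩, Subtype.ext hqc⟩
  rw [he, Nat.card_eq_fintype_card, Nat.card_eq_fintype_card, Fintype.card_subtype_compl,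
    Fintype.card_subtype_eq]
  have : 0 < Fintype.card Ω := Fintype.card_pos_iff.2 ⟨a⟩
  omega

theorem card_stabilizer [Finite G] :
    Nat.card (stabilizer G a) = Nat.card Q * Nat.card (twoStab a t) := by
  rw [← Nat.card_prod]
  refine (Nat.card_eq_of_bijective (fun p : Q × twoStab a t =>
    (⟨p.1.1 * p.2.1, mul_mem (hS.le p.1.2) (Subgroup.mem_inf.1 p.2.2).1⟩ : stabilizer G a)) ⟨fun p q h => ?_, fun g => ?_⟩).symm
  · obtain ⟨h1, h2⟩ := qd_unique hS p.1.2 q.1.2 p.2.2 q.2.2 (congrArg Subtype.val h)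
    exact Prod.ext (Subtype.ext h1) (Subtype.ext h2)
  · obtain ⟨q, hq, d, hd, e⟩ := exists_qd hS g.2
    exact ⟨(⟨q, hq⟩, ⟨d, hd⟩), Subtype.ext e.symm⟩

theorem card_group [Finite G] :
    Nat.card G = Nat.card Q * Nat.card (twoStab a t) * (Nat.card Q + 1) := by
  have := pretransitive hS
  rw [← Subgroup.card_mul_index (stabilizer G a), MulAction.index_stabilizer_of_transitive,
    card_stabilizer hS, card_points hS]

theorem sylow_le [Finite G] : ∃ P : Sylow 2 G, (P : Subgroup G) ≤ Q := by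
  have := Fact.mk Nat.prime_two
  obtain ⟨P⟩ : Nonempty (Sylow 2 Q) := inferInstance
  have hP : IsPGroup 2 ((P : Subgroup Q).map Q.subtype) := P.2.map _
  obtain ⟨R, hR⟩ := hP.exists_le_sylow
  refine ⟨R, ?_⟩
  have hcard : Nat.card R ≤ Nat.card ((P : Subgroup Q).map Q.subtype) := by
    rw [Subgroup.card_map_of_injective Q.subtype_injective, R.card_eq_multiplicity, P.card_eq_multiplicity]
    refine Nat.pow_le_pow_right (by norm_num) (le_of_eq ?_)
    rw [card_group hS, Nat.factorization_mul (Nat.mul_ne_zero Nat.card_pos.ne' Nat.card_pos.ne')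
      (Nat.succ_ne_zero _), Nat.factorization_mul Nat.card_pos.ne' Nat.card_pos.ne']
    have h1 : ¬ 2 ∣ Nat.card (twoStab a t) := fun h =>
      (Nat.not_even_iff_odd.2 hS.odd_card) (even_iff_two_dvd.2 h)
    have h2 : ¬ 2 ∣ Nat.card Q + 1 := fun h => by
      have := even_iff_two_dvd.1 hS.even_card
      omega
    simp only [Finsupp.add_apply, Nat.factorization_eq_zero_of_not_dvd h1,
      Nat.factorization_eq_zero_of_not_dvd h2, add_zero]
  exact (Subgroup.eq_of_le_of_card_ge hR hcard) ▸ Subgroup.map_subtype_le _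

theorem qd_of_canonical {g : G} (hg : g ∉ stabilizer G a) :
    ∃! p : G × G, p.1 ∈ stabilizer G a ∧ p.2 ∈ Q ∧ g = p.1 * t * p.2 := by
  have hc : g⁻¹ • a ≠ a := fun h => hg (by
    rw [mem_stabilizer_iff]; conv_lhs => rw [← h]
    exact smul_inv_smul g a)
  obtain ⟨q, hq, hqc⟩ := exists_q_smul hS hc
  refine ⟨(g * q * t, q⁻¹), ⟨?_, inv_mem hq, ?_⟩, ?_⟩
  · show (g * q * t) • a = a
    rw [mul_smul, mul_smul, hqc, smul_inv_smul]
  · show g = g * q * t * t * q⁻¹
    rw [mul_assoc (g * q) t t, hS.mul_self]; group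
  · rintro ⟨x, y⟩ ⟨hx, hy, he⟩
    have h2 : y⁻¹ • (t • a) = g⁻¹ • a := by
      rw [he, mul_inv_rev, mul_inv_rev, mul_smul, mul_smul, inv_t hS,
        show x⁻¹ • a = a from (stabilizer G a).inv_mem hx]
    have h3 := (existsUnique_smul hS (ta_ne hS) (b := t • a) hc).unique (y₁ := ⟨y⁻¹, inv_mem hy⟩)
      (y₂ := ⟨q, hq⟩) h2 hqc
    have hyq : y = q⁻¹ := by rw [← inv_inv y]; exact congrArg (fun z : Q => (z : G)⁻¹) h3
    refine Prod.ext ?_ hyq
    show x = g * q * t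
    rw [he, hyq]
    calc x = x * (t * t) := by rw [hS.mul_self, mul_one]
      _ = _ := by group

/-- Uniqueness of the form `g h t f`. -/
theorem ghtf_unique {g h f g' h' f' : G} (hg : g ∈ Q) (hh : h ∈ twoStab a t) (hf : f ∈ Q)
    (hg' : g' ∈ Q) (hh' : h' ∈ twoStab a t) (hf' : f' ∈ Q) (e : g * h * t * f = g' * h' * t * f') :
    g = g' ∧ h = h' ∧ f = f' := by
  have hm : g * h * t * f ∉ stabilizer G a := fun hm => by
    apply hS.not_mem
    have h1 : t = (g * h)⁻¹ * (g * h * t * f) * f⁻¹ := by group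
    rw [h1]
    exact mul_mem (mul_mem (inv_mem (mul_mem (hS.le hg) (Subgroup.mem_inf.1 hh).1)) hm) (inv_mem (hS.le hf))
  have h2 := (qd_of_canonical hS hm).unique (y₁ := (g * h, f)) (y₂ := (g' * h', f'))
    ⟨mul_mem (hS.le hg) (Subgroup.mem_inf.1 hh).1, hf, rfl⟩ ⟨mul_mem (hS.le hg') (Subgroup.mem_inf.1 hh').1, hf', e⟩
  obtain ⟨h3, h4⟩ := Prod.mk.inj h2
  obtain ⟨h5, h6⟩ := qd_unique hS hg hg' hh hh' h3
  exact ⟨h5, h6, h4⟩

theorem normalizer_le {X : Set G} (hX : X ⊆ Q) (hne : ∃ x ∈ X, x ≠ 1) :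
    Subgroup.normalizer X ≤ stabilizer G a := by
  intro n hn
  obtain ⟨x, hx, hx1⟩ := hne
  have hx' : n * x * n⁻¹ ∈ X :=
    (Subgroup.mem_normalizer_iff_conj_image_eq.1 hn) ▸ Set.mem_image_of_mem (MulAut.conj n) hx
  refine eq_a_of_fixed hS (hX hx') (fun h => hx1 (conj_eq_one_iff.1 h)) ?_
  rw [mul_smul, mul_smul, inv_smul_smul, smul_a hS (hX hx)]

end

end Cfsg.Agent.RankOne
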