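import Mathlib.GroupTheory.Index
import Mathlib.GroupTheory.Coset.Card
import Mathlib.GroupTheory.QuotientGroup.Basic
import Mathlib.GroupTheory.FiniteAbelian.Duality
import Mathlib.Analysis.Complex.Polynomial.Basic
import Mathlib.RingTheory.RootsOfUnity.AlgebraicallyClosed

/-!
# Layers and characters of a finite abelian 2-group
-/

set_option autoImplicit false
set_option linter.style.haveILetI false
set_option linter.unusedSectionVars false

namespace Cfsg.Agent.RankOne.Layers

variable {P : Type*} [CommGroup P]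

/-- The elements killed by the `2 ^ i`-th power. -/
def layer (P : Type*) [CommGroup P] (i : ℕ) : Subgroup P := (powMonoidHom (2 ^ i) : P →* P).ker

theorem mem_layer {x : P} {i : ℕ} : x ∈ layer P i ↔ x ^ 2 ^ i = 1 := Iff.rfl

theorem layer_zero : layer P 0 = ⊥ := by
  ext x; simp [mem_layer]

/-- The squares. -/
def squares (P : Type*) [CommGroup P] : Subgroup P := (powMonoidHom 2 : P →* P).range

variable [Finite P]

theorem card_step (R : Subgroup P) (i : ℕ) :
    Nat.card ↥(R ⊓ layer P (i + 1)) ≤ Nat.card ↥(R ⊓ layer P 1) * Nat.card ↥(R ⊓ layer P i) := by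
  set S := R ⊓ layer P (i + 1)
  let f : S →* P := (powMonoidHom (2 ^ i) : P →* P).comp S.subtype
  rw [← Subgroup.card_mul_index f.ker, Subgroup.index_ker, mul_comm]
  refine Nat.mul_le_mul ?_ ?_
  · refine Nat.card_le_card_of_injective (fun y : f.range => (⟨(y : P), ?_⟩ : ↥(R ⊓ layer P 1))) ?_
    · obtain ⟨_, ⟨x, hx⟩, rfl⟩ := y
      obtain ⟨h1, h2⟩ := Subgroup.mem_inf.1 hx
      refine Subgroup.mem_inf.2 ⟨pow_mem h1 _, ?_⟩
      show ((x : P) ^ 2 ^ i) ^ 2 ^ 1 = 1
      rw [← pow_mul, ← pow_add]; exact h2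
    · intro y y' h; exact Subtype.ext (congrArg (fun z : ↥(R ⊓ layer P 1) => (z : P)) h)
  · refine Nat.card_le_card_of_injective (fun y : f.ker => (⟨((y : S) : P), ?_⟩ : ↥(R ⊓ layer P i))) ?_
    · exact Subgroup.mem_inf.2 ⟨(Subgroup.mem_inf.1 y.1.2).1, y.2⟩
    · intro y y' h
      exact Subtype.ext (Subtype.ext (congrArg (fun z : ↥(R ⊓ layer P i) => (z : P)) h))

theorem card_le_pow (R : Subgroup P) (i : ℕ) :
    Nat.card ↥(R ⊓ layer P i) ≤ Nat.card ↥(R ⊓ layer P 1) ^ i := by
  induction i with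
  | zero => rw [layer_zero, inf_bot_eq, Subgroup.card_bot, pow_zero]
  | succ i ih =>
    rw [pow_succ']
    exact (card_step R i).trans (Nat.mul_le_mul_left _ ih)

variable {e : ℕ}

theorem card_le (hexp : ∀ x : P, x ^ 2 ^ e = 1) (R : Subgroup P) :
    Nat.card R ≤ Nat.card ↥(R ⊓ layer P 1) ^ e := by
  have : R ⊓ layer P e = R := inf_eq_left.2 fun x _ => hexp x
  have h := card_le_pow R e
  rwa [this] at h

theorem card_squares_le (he : 1 ≤ e) (hexp : ∀ x : P, x ^ 2 ^ e = 1) (R : Subgroup P) :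
    Nat.card ↥(R ⊓ squares P) ≤ Nat.card ↥(R ⊓ layer P 1) ^ (e - 1) := by
  refine le_trans (Nat.le_of_dvd Nat.card_pos (Subgroup.card_dvd_of_le ?_)) (card_le_pow R (e - 1))
  intro x hx
  obtain ⟨h1, y, rfl⟩ := Subgroup.mem_inf.1 hx
  refine Subgroup.mem_inf.2 ⟨h1, ?_⟩
  show (y ^ 2) ^ 2 ^ (e - 1) = 1
  rw [← pow_mul, ← pow_succ', Nat.sub_add_cancel he]
  exact hexp y

/-- With transitive automorphisms on the first layer the group is homocyclic. -/
theorem card_eq (he : 1 ≤ e) (hexp : ∀ x : P, x ^ 2 ^ e = 1)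
    (hmax : ∃ x : P, x ^ 2 ^ (e - 1) ≠ 1)
    (htr : ∀ a b : P, a ∈ layer P 1 → a ≠ 1 → b ∈ layer P 1 → b ≠ 1 → ∃ φ : MulAut P, φ a = b) :
    Nat.card P = Nat.card (layer P 1) ^ e := by
  obtain ⟨x₀, hx₀⟩ := hmax
  have hy : x₀ ^ 2 ^ (e - 1) ∈ layer P 1 := by
    show (x₀ ^ 2 ^ (e - 1)) ^ 2 ^ 1 = 1
    rw [← pow_mul, ← pow_add, Nat.sub_add_cancel he]
    exact hexp x₀
  have key : ∀ i ≤ e, Nat.card (layer P i) = Nat.card (layer P 1) ^ i := by
    intro i
    induction i with
    | zero => intro _; rw [layer_zero, Subgroup.card_bot, pow_zero]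
    | succ i ih =>
      intro hi
      set S := layer P (i + 1)
      let f : S →* P := (powMonoidHom (2 ^ i) : P →* P).comp S.subtype
      have hker : Nat.card f.ker = Nat.card (layer P i) := by
        refine Nat.card_congr
          { toFun := fun y => ⟨((y : S) : P), y.2⟩
            invFun := fun y => ⟨⟨(y : P), ?_⟩, y.2⟩
            left_inv := fun y => rfl
            right_inv := fun y => rfl }
        show (y : P) ^ 2 ^ (i + 1) = 1
        rw [pow_succ, pow_mul, show (y : P) ^ 2 ^ i = 1 from y.2, one_pow]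
      have hrange : f.range = layer P 1 := by
        refine le_antisymm ?_ fun b hb => ?_
        · rintro _ ⟨⟨x, hx⟩, rfl⟩
          show (x ^ 2 ^ i) ^ 2 ^ 1 = 1
          rw [← pow_mul, ← pow_add]; exact hx
        · by_cases hb1 : b = 1
          · rw [hb1]; exact one_mem _
          obtain ⟨φ, hφ⟩ := htr _ b hy hx₀ hb hb1
          refine ⟨⟨φ (x₀ ^ 2 ^ (e - 1 - i)), ?_⟩, ?_⟩
          · show φ (x₀ ^ 2 ^ (e - 1 - i)) ^ 2 ^ (i + 1) = 1
            rw [← map_pow, ← pow_mul, ← pow_add, show e - 1 - i + (i + 1) = e by omega, hexp, map_one]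
          · show φ (x₀ ^ 2 ^ (e - 1 - i)) ^ 2 ^ i = b
            rw [← map_pow, ← pow_mul, ← pow_add, show e - 1 - i + i = e - 1 by omega, hφ]
      rw [← Subgroup.card_mul_index f.ker, Subgroup.index_ker, hrange, hker, ih (by omega), ← pow_succ]
  have htop : layer P e = ⊤ := eq_top_iff.2 fun x _ => hexp x
  rw [← key e le_rfl, htop, Subgroup.card_top]

theorem card_squares : Nat.card (squares P) * Nat.card (layer P 1) = Nat.card P := by
  rw [show layer P 1 = (powMonoidHom 2 : P →* P).ker by rfl, mul_comm,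
    ← Subgroup.card_mul_index ((powMonoidHom 2 : P →* P).ker), Subgroup.index_ker]
  rfl

/-! ## Characters -/

theorem card_dual : Nat.card (P →* ℂˣ) = Nat.card P := by
  haveI : NeZero (Monoid.exponent P : ℂ) :=
    ⟨Nat.cast_ne_zero.mpr Monoid.exponent_ne_zero_of_finite⟩
  exact CommGroup.card_monoidHom_of_hasEnoughRootsOfUnity P ℂ

instance finite_dual : Finite (P →* ℂˣ) :=
  Nat.finite_of_card_ne_zero (by rw [card_dual]; exact Nat.card_pos.ne')

theorem card_killing (N : Subgroup P) :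
    Nat.card {χ : P →* ℂˣ // ∀ x ∈ N, χ x = 1} = N.index := by
  rw [Subgroup.index_eq_card, ← card_dual (P := P ⧸ N)]
  refine Nat.card_congr
    { toFun := fun χ => QuotientGroup.lift N χ.1 fun x hx => χ.2 x hx
      invFun := fun χ => ⟨χ.comp (QuotientGroup.mk' N), fun x hx => by
        rw [MonoidHom.comp_apply, QuotientGroup.mk'_apply, (QuotientGroup.eq_one_iff x).2 hx, map_one]⟩
      left_inv := fun χ => Subtype.ext (MonoidHom.ext fun x => rfl)
      right_inv := fun χ => QuotientGroup.monoidHom_ext N rfl }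

/-- Brauer's permutation lemma for an abelian group. -/
theorem card_fixed_dual (σ : P →* P) :
    Nat.card {χ : P →* ℂˣ // χ.comp σ = χ} = Nat.card {x : P // σ x = x} := by
  let δ : P →* P := σ / MonoidHom.id P
  have e1 : Nat.card {χ : P →* ℂˣ // χ.comp σ = χ} =
      Nat.card {χ : P →* ℂˣ // ∀ x ∈ δ.range, χ x = 1} :=
    Nat.card_congr (Equiv.subtypeEquivRight fun χ => by
      simp only [MonoidHom.mem_range, forall_exists_index, forall_apply_eq_imp_iff, MonoidHom.ext_iff,
        MonoidHom.comp_apply]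
      refine forall_congr' fun x => ?_
      show _ ↔ χ (σ x / x) = 1
      rw [map_div, div_eq_one])
  have e2 : Nat.card {x : P // σ x = x} = Nat.card δ.ker :=
    Nat.card_congr (Equiv.subtypeEquivRight fun x => by
      show _ ↔ σ x / x = 1
      rw [div_eq_one])
  rw [e1, card_killing, e2]
  have h1 := Subgroup.card_mul_index δ.range
  have h2 := Subgroup.card_mul_index δ.ker
  rw [Subgroup.index_ker] at h2
  rw [← h2, mul_comm (Nat.card δ.ker)] at h1
  exact Nat.eq_of_mul_eq_mul_left Nat.card_pos h1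

/-- The characters trivial on the first layer. -/
theorem card_killing_layer :
    Nat.card {χ : P →* ℂˣ // ∀ x ∈ layer P 1, χ x = 1} = Nat.card (squares P) := by
  rw [card_killing, show layer P 1 = (powMonoidHom 2 : P →* P).ker by rfl, Subgroup.index_ker]
  rfl

end Cfsg.Agent.RankOne.Layers
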