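import Cfsg.Agent.Lib.RankOne.Structure
import Cfsg.Agent.Lib.RankOne.AbelianLayers
import Cfsg.Agent.Lib.Char.Isometry
import Cfsg.Agent.Lib.Char.Integral
import Cfsg.Agent.Lib.Char.Degree
import Cfsg.Agent.Lib.AbelInv.Cols

/-!
# Exceptional characters for an abelian `Q` in the split rank-one set-up

`Q` is a TI-subgroup with normaliser `Q D`, so differences of linear characters induced from `Q`
behave isometrically; products of two involutions meet `Q` only in involutions, and the class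
identity bounds the common degree of the exceptional characters from below.
-/

set_option autoImplicit false
set_option linter.style.haveILetI false
set_option linter.unusedSectionVars false

namespace Cfsg.Agent.RankOne

open MulAction Cfsg.Agent.Char
open scoped ComplexConjugate

variable {G Ω : Type*} [Group G] [MulAction G Ω] {a : Ω} {t : G} {Q : Subgroup G}

/-- A linear character as a complex function. -/
def ch {P : Type*} [Group P] (χ : P →* ℂˣ) : P → ℂ := fun x => (χ x : ℂ)

theorem ch_one {P : Type*} [Group P] (χ : P →* ℂˣ) : ch χ 1 = 1 := by simp [ch]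

open scoped Classical in
theorem classInner_ch {P : Type*} [Group P] [Fintype P] (χ ψ : P →* ℂˣ) :
    Cfsg.classInner (ch χ) (ch ψ) = if χ = ψ then 1 else 0 := by
  by_cases h : χ = ψ
  · subst h
    rw [if_pos rfl]
    exact classInner_self_irr (isIrrCharacter_linear χ)
  · rw [if_neg h]
    exact classInner_irr_of_ne (isIrrCharacter_linear χ) (isIrrCharacter_linear ψ)
      fun e => h (MonoidHom.ext fun x => Units.ext (congrFun e x))

variable [Fintype G] (hS : Cfsg.IsRankOneSetup G Ω a t Q)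

/-- Conjugation by the two-point stabiliser on `Q`. -/
def cjQ (d : twoStab a t) : Q →* Q where
  toFun x := ⟨(d : G)⁻¹ * x * d, by
    simpa using hS.conj_mem _ (inv_mem (Subgroup.mem_inf.1 d.2).1) _ x.2⟩
  map_one' := Subtype.ext (by simp)
  map_mul' x y := Subtype.ext (by simp [mul_assoc])

@[simp] theorem coe_cjQ (d : twoStab a t) (x : Q) : ((cjQ hS d x : Q) : G) = (d : G)⁻¹ * x * d := rfl

include hS

variable (hc : ∀ x ∈ Q, ∀ y ∈ Q, x * y = y * x)
include hc

open scoped Classical in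
theorem ind_on_Q (g : Q → ℂ) (x : Q) (hx : x ≠ 1) :
    Cfsg.indFun Q g (x : G) = ∑ d : twoStab a t, g (cjQ hS d x) := by
  have hN : (Nat.card Q : ℂ) ≠ 0 := Nat.cast_ne_zero.2 Nat.card_pos.ne'
  rw [indFun_apply, inv_mul_eq_iff_eq_mul₀ hN,
    ← Fintype.sum_of_injective (fun p : Q × twoStab a t => (p.1 : G) * (p.2 : G))
      ?_ (fun p => g (cjQ hS p.2 x)) _ ?_ ?_]
  · rw [Fintype.sum_prod_type]
    simp only [Finset.sum_const, Finset.card_univ, nsmul_eq_mul, Nat.card_eq_fintype_card]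
  · intro p p' h
    obtain ⟨h1, h2⟩ := qd_unique hS p.1.2 p'.1.2 p.2.2 p'.2.2 h
    exact Prod.ext (Subtype.ext h1) (Subtype.ext h2)
  · intro y hy
    refine extendByZero_not_mem Q g fun hyQ => hy ?_
    have hya : y ∈ stabilizer G a := by
      rw [mem_stabilizer_iff]
      refine eq_a_of_fixed hS x.2 (fun h => hx (Subtype.ext h)) ?_
      rw [show (x : G) • y • a = y • ((y⁻¹ * (x : G) * y) • a) by
        rw [mul_smul, mul_smul, smul_inv_smul], smul_a hS hyQ]
    obtain ⟨q, hq, d, hd, rfl⟩ := exists_qd hS hya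
    exact ⟨(⟨q, hq⟩, ⟨d, hd⟩), rfl⟩
  · intro p
    have h : ((p.1 : G) * (p.2 : G))⁻¹ * (x : G) * ((p.1 : G) * (p.2 : G)) =
        (cjQ hS p.2 x : Q) := by
      rw [coe_cjQ]
      calc ((p.1 : G) * (p.2 : G))⁻¹ * (x : G) * ((p.1 : G) * (p.2 : G))
          = (p.2 : G)⁻¹ * ((p.1 : G)⁻¹ * ((x : G) * (p.1 : G))) * (p.2 : G) := by group
        _ = _ := by rw [hc _ x.2 _ p.1.2, inv_mul_cancel_left]
    rw [h, extendByZero_coe]

open scoped Classical in
theorem inner_ind (f g : Q → ℂ) (hf : f 1 = 0) :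
    Cfsg.classInner (Cfsg.indFun Q f) (Cfsg.indFun Q g) =
      ∑ d : twoStab a t, Cfsg.classInner f (fun x => g (cjQ hS d x)) := by
  rw [classInner_indFun_left Q f (isClassFunction_indFun Q g)]
  simp only [Cfsg.classInner]
  rw [← Finset.mul_sum, Finset.sum_comm]
  congr 1
  refine Finset.sum_congr rfl fun x _ => ?_
  by_cases hx : x = 1
  · simp [hx, hf]
  · rw [ind_on_Q hS hc g x hx, map_sum, Finset.mul_sum]

/-- The exceptional characters of a family of regular orbits of linear characters. -/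
theorem exceptional {ι : Type*} [Finite ι] (i₀ : ι) (L : ι → (Q →* ℂˣ))
    (hreg : ∀ i d, (L i).comp (cjQ hS d) = L i → d = 1)
    (horb : ∀ i j d, (L i).comp (cjQ hS d) = L j → i = j) :
    ∃ ε : ℂ, (ε = 1 ∨ ε = -1) ∧ ∃ μ : ι → (G → ℂ), (∀ i, Cfsg.IsIrrCharacter G (μ i)) ∧
      Function.Injective μ ∧ ∀ i, Cfsg.indFun Q (ch (L i) - ch (L i₀)) = ε • (μ i - μ i₀) := by
  classical
  refine isometry_lemma i₀ (fun i => Cfsg.indFun Q (ch (L i) - ch (L i₀))) ?_ (fun i => ?_)
    (fun i => ?_) fun i j hi hj => ?_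
  · rw [sub_self, indFun_zero]
  · rw [indFun_sub]
    exact Cfsg.Agent.Char.IsGeneralizedCharacter.sub
      (IsGeneralizedCharacter.of_isCharacter (isCharacter_indFun Q
      (IsIrrCharacter.isCharacter (isIrrCharacter_linear (L i)))))
      (IsGeneralizedCharacter.of_isCharacter (isCharacter_indFun Q
      (IsIrrCharacter.isCharacter (isIrrCharacter_linear (L i₀)))))
  · rw [indFun_one_apply]; simp [ch]
  · rw [inner_ind hS hc _ _ (by simp [ch])]
    have hd : ∀ d : twoStab a t, Cfsg.classInner (ch (L i) - ch (L i₀))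
        (fun x => (ch (L j) - ch (L i₀)) (cjQ hS d x)) =
        if d = 1 then (if i = j then 2 else 1) else 0 := by
      intro d
      rw [show (fun x => (ch (L j) - ch (L i₀)) (cjQ hS d x)) =
        ch ((L j).comp (cjQ hS d)) - ch ((L i₀).comp (cjQ hS d)) from rfl,
        classInner_sub_left, classInner_sub_right, classInner_sub_right]
      simp only [classInner_ch]
      have h1 : ∀ k l : ι, (L k = (L l).comp (cjQ hS d)) ↔ (k = l ∧ d = 1) := fun k l => by
        constructor
        · intro h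
          obtain rfl : l = k := horb l k d h.symm
          exact ⟨rfl, hreg l d h.symm⟩
        · rintro ⟨rfl, rfl⟩
          refine MonoidHom.ext fun x => ?_
          show L k x = L k (cjQ hS 1 x)
          congr 1
          exact Subtype.ext (by simp)
      simp only [h1]
      by_cases hd : d = 1
      · simp only [hd, and_true, if_true, hi, Ne.symm hj, if_false]
        split_ifs <;> ring
      · simp [hd]
    rw [Finset.sum_congr rfl fun d _ => hd d, Finset.sum_ite_eq' Finset.univ 1, if_pos (Finset.mem_univ _)]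

variable {u : G} (hu : IsInvol u) (hua : u • a = a)
include hu hua

/-- The sum of a function over the products of pairs of involutions. -/
theorem sum_pairs (hQ2 : IsPGroup 2 Q)
    (h2 : ∃ x y : G, x ≠ 1 ∧ y ≠ 1 ∧ x ≠ y ∧ x * x = 1 ∧ y * y = 1 ∧ x * y = y * x)
    {τ : G → ℂ} (hτc : Cfsg.IsClassFunction G τ) (hτ1 : τ 1 = 0)
    (hτ : ∀ g, τ g ≠ 0 → ∃ x : G, x⁻¹ * g * x ∈ Q) :
    ∑ v ∈ classFinset u, ∑ w ∈ classFinset u, τ (v * w) =
      ((classFinset u).card : ℂ) *
        (((Nat.card (Cfsg.involutionsIn (stabilizer G a : Set G)) : ℂ) - 1) * τ u) := by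
  classical
  have hmem : ∀ w, w ∈ classFinset u ↔ IsInvol w := fun w => by
    rw [mem_classFinset, isConj_iff]
    exact ⟨fun ⟨c, hc⟩ => hc ▸ hu.conj c, fun hw => all_conj hS hu hw⟩
  set J := (classFinset u).filter fun w => w • a = a with hJ
  have hJc : J.card = Nat.card (Cfsg.involutionsIn (stabilizer G a : Set G)) := by
    rw [Nat.card_coe_set_eq, ← Set.ncard_coe_finset]
    congr 1
    ext w
    simp [hJ, hmem, mem_involutionsIn hS, -mem_classFinset]
  have huJ : u ∈ J := Finset.mem_filter.2 ⟨(hmem u).2 hu, hua⟩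
  have hbase : ∑ w ∈ classFinset u, τ (u * w) =
      ((Nat.card (Cfsg.involutionsIn (stabilizer G a : Set G)) : ℂ) - 1) * τ u := by
    have h1 : ∀ w ∈ classFinset u, τ (u * w) = if w ∈ J.erase u then τ u else 0 := by
      intro w hw
      have hwi := (hmem w).1 hw
      by_cases hwa : w • a = a
      · by_cases hwu : w = u
        · rw [hwu, hu.2, hτ1, if_neg (Finset.notMem_erase u J)]
        · rw [if_pos (Finset.mem_erase.2 ⟨hwu, Finset.mem_filter.2 ⟨hw, hwa⟩⟩)]
          have hz : u * w ∈ Cfsg.involutionsIn (stabilizer G a : Set G) :=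
            (invol_mul hS h2 ((mem_involutionsIn hS).2 ⟨hu, hua⟩)
              ((mem_involutionsIn hS).2 ⟨hwi, hwa⟩)).resolve_left fun h => hwu
              (by rw [← hwi.inv_eq]; exact (eq_inv_of_mul_eq_one_left h).symm)
          obtain ⟨c, hc'⟩ := all_conj hS hu ((mem_involutionsIn hS).1 hz).1
          rw [← hc', hτc]
      · rw [if_neg (show w ∉ J.erase u from fun h => hwa (Finset.mem_filter.1 (Finset.mem_erase.1 h).2).2)]
        by_contra hne
        obtain ⟨x, hx⟩ := hτ _ hne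
        obtain ⟨p, hp, -⟩ := existsUnique_fixed hS hwi
        have hodd : Odd (orderOf (u * w)) :=
          odd_mul hS hu hwi hua hp fun h => hwa (by rw [h]; exact hp)
        obtain ⟨k, hk⟩ := IsPGroup.iff_orderOf.1 hQ2 ⟨_, hx⟩
        rw [Subgroup.orderOf_mk, show x⁻¹ * (u * w) * x = MulAut.conj x⁻¹ (u * w) by simp,
          MulEquiv.orderOf_eq] at hk
        rcases Nat.eq_zero_or_pos k with rfl | hk0
        · rw [pow_zero, orderOf_eq_one_iff] at hk
          exact hne (by rw [hk, hτ1])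
        · rw [hk] at hodd
          exact absurd hodd (Nat.not_odd_iff_even.2 (Nat.even_pow.2 ⟨even_two, hk0.ne'⟩))
    rw [Finset.sum_congr rfl h1, Finset.sum_ite_mem, Finset.inter_eq_right.2
      (fun w hw => (Finset.mem_filter.1 (Finset.mem_of_mem_erase hw)).1), Finset.sum_const,
      Finset.card_erase_of_mem huJ, hJc, nsmul_eq_mul, Nat.cast_sub, Nat.cast_one]
    rw [← hJc]
    exact Finset.card_pos.2 ⟨u, huJ⟩
  rw [Finset.sum_congr rfl fun v hv => ?_, Finset.sum_const, nsmul_eq_mul]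
  obtain ⟨c, rfl⟩ := all_conj hS hu ((hmem v).1 hv)
  rw [← hbase]
  refine Finset.sum_bij' (fun w _ => c⁻¹ * w * c) (fun w _ => c * w * c⁻¹) (fun w hw => ?_)
    (fun w hw => ?_) (fun w _ => by group) (fun w _ => by group) fun w _ => ?_
  · rw [hmem]
    simpa using ((hmem w).1 hw).conj c⁻¹
  · rw [hmem]
    exact ((hmem w).1 hw).conj c
  · rw [show c * u * c⁻¹ * w = c * (u * (c⁻¹ * w * c)) * c⁻¹ by group, hτc]

omit hS hc hu hua in
/-- The central character squared. -/
theorem sum_pairs_irr {χ : G → ℂ} (hχ : Cfsg.IsIrrCharacter G χ) (g : G) :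
    ∑ v ∈ classFinset g, ∑ w ∈ classFinset g, χ (v * w) =
      ((classFinset g).card : ℂ) ^ 2 * χ g ^ 2 / χ 1 := by
  obtain ⟨n, ρ, hρ, rfl⟩ := hχ
  have hd : (Module.finrank ℂ (Fin n → ℂ) : ℂ) ≠ 0 :=
    Nat.cast_ne_zero.2 (finrank_pos_of_irreducible ρ).ne'
  have h := congrArg (fun f => LinearMap.trace ℂ (Fin n → ℂ) (f * f)) (classSum_scalar ρ g)
  simp only [Finset.sum_mul_sum] at h
  simp only [map_sum, ← map_mul, smul_mul_smul_comm, ← Module.End.one_eq_id, one_mul, map_smul,
    smul_eq_mul] at h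
  rw [Module.End.one_eq_id, LinearMap.trace_id] at h
  rw [Representation.char_one, card_classFinset]
  refine h.trans ?_
  field_simp

omit hu in
theorem card_centralizer_invol (hu : IsInvol u) (huQ : u ∈ Q) :
    Nat.card (Subgroup.centralizer ({u} : Set G)) =
      Nat.card Q * Nat.card ↥(twoStab a t ⊓ Subgroup.centralizer {u}) := by
  rw [← Nat.card_prod]
  refine (Nat.card_eq_of_bijective (fun p : Q × ↥(twoStab a t ⊓ Subgroup.centralizer {u}) =>
    (⟨(p.1 : G) * (p.2 : G), mul_mem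
      (Subgroup.mem_centralizer_singleton_iff.2 (hc _ p.1.2 _ huQ))
      (Subgroup.mem_inf.1 p.2.2).2⟩ : Subgroup.centralizer ({u} : Set G))) ⟨fun p p' h => ?_, ?_⟩).symm
  · obtain ⟨h1, h2⟩ := qd_unique hS p.1.2 p'.1.2 (Subgroup.mem_inf.1 p.2.2).1
      (Subgroup.mem_inf.1 p'.2.2).1 (congrArg Subtype.val h)
    exact Prod.ext (Subtype.ext h1) (Subtype.ext h2)
  · rintro ⟨g, hg⟩
    have hga : g ∈ stabilizer G a := fixed_of_commute hS hu hua
      (Subgroup.mem_centralizer_singleton_iff.1 hg).symm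
    obtain ⟨q, hq, d, hd, rfl⟩ := exists_qd hS hga
    refine ⟨(⟨q, hq⟩, ⟨d, Subgroup.mem_inf.2 ⟨hd, ?_⟩⟩), rfl⟩
    have := mul_mem (inv_mem (Subgroup.mem_centralizer_singleton_iff.2 (hc _ hq _ huQ))) hg
    simpa using this

/-- The degree bound. -/
theorem card_family_le (hQ2 : IsPGroup 2 Q)
    (h2 : ∃ x y : G, x ≠ 1 ∧ y ≠ 1 ∧ x ≠ y ∧ x * x = 1 ∧ y * y = 1 ∧ x * y = y * x)
    (hodd : Odd (classFinset u).card)
    (hm : Odd (Nat.card (Cfsg.involutionsIn (stabilizer G a : Set G))))
    {ι : Type*} [Finite ι] (L : ι → (Q →* ℂˣ))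
    (hreg : ∀ i d, (L i).comp (cjQ hS d) = L i → d = 1)
    (horb : ∀ i j d, (L i).comp (cjQ hS d) = L j → i = j)
    (i₀ j : ι) (hne : Cfsg.indFun Q (ch (L j) - ch (L i₀)) u ≠ 0) :
    Nat.card ι * (2 * (classFinset u).card) ^ 2 ≤
      (Nat.card (Cfsg.involutionsIn (stabilizer G a : Set G)) - 1) ^ 2 * Nat.card G := by
  classical
  obtain ⟨ε, hε, μ, hirr, hinj, heq⟩ := exceptional hS hc i₀ L hreg horb
  set I := (classFinset u).card with hI
  set m := Nat.card (Cfsg.involutionsIn (stabilizer G a : Set G)) with hmdef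
  have hε2 : ε ≠ 0 := by rcases hε with rfl | rfl <;> norm_num
  obtain ⟨d, hd0, hd⟩ := IsIrrCharacter.exists_degree (hirr i₀)
  have hdeg : ∀ i, μ i 1 = (d : ℂ) := fun i => by
    have h := congrFun (heq i) 1
    rw [indFun_one_apply] at h
    simp only [Pi.sub_apply, ch_one, sub_self, mul_zero, Pi.smul_apply, smul_eq_mul] at h
    rw [← hd, ← sub_eq_zero]
    exact (mul_eq_zero.1 h.symm).resolve_left hε2
  -- the identity
  set τ := Cfsg.indFun Q (ch (L j) - ch (L i₀)) with hτdef
  have hsum := sum_pairs hS hc hu hua hQ2 h2 (τ := τ) (isClassFunction_indFun _ _)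
    (by rw [hτdef, indFun_one_apply]; simp [ch]) (fun g hg => by
      by_contra hno
      push Not at hno
      exact hg (indFun_eq_zero_of_forall _ _ hno))
  have hpt : ∀ g, τ g = ε * (μ j g - μ i₀ g) := fun g => by rw [hτdef, heq j]; rfl
  simp only [hpt, ← Finset.mul_sum, Finset.sum_sub_distrib, sum_pairs_irr (hirr _), hdeg] at hsum
  have hne' : μ j u - μ i₀ u ≠ 0 := fun h => hne (by rw [hpt, h, mul_zero])
  have hdC : (d : ℂ) ≠ 0 := hdeg i₀ ▸ IsIrrCharacter.one_ne_zero (hirr i₀)
  have hIpos : 0 < I := hodd.pos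
  have hIC : (I : ℂ) ≠ 0 := Nat.cast_ne_zero.2 hIpos.ne'
  have hid : (I : ℂ) * (μ j u + μ i₀ u) = ((m : ℂ) - 1) * (d : ℂ) := by
    refine mul_left_cancel₀ (mul_ne_zero (mul_ne_zero hε2 hIC) hne') ?_
    rw [← hI] at hsum
    field_simp at hsum
    linear_combination (exp := 1) (ε * (I : ℂ)) * hsum
  obtain ⟨z₁, hz₁⟩ := AbelInv.exists_int_of_sq (IsIrrCharacter.isCharacter (hirr j)) hu.2
  obtain ⟨z₂, hz₂⟩ := AbelInv.exists_int_of_sq (IsIrrCharacter.isCharacter (hirr i₀)) hu.2
  rw [hz₁, hz₂] at hid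
  have hmpos : 0 < m := hm.pos
  have hidZ : (I : ℤ) * (z₁ + z₂) = ((m - 1 : ℕ) : ℤ) * (d : ℤ) := by
    rw [Nat.cast_sub hmpos, Nat.cast_one]
    exact_mod_cast hid
  -- parity gives the bound
  have hnat : I * (z₁ + z₂).natAbs = (m - 1) * d := by
    have := congrArg Int.natAbs hidZ
    simpa [Int.natAbs_mul] using this
  have hbound : m = 1 ∨ 2 * I ≤ (m - 1) * d := by
    rcases Nat.eq_or_lt_of_le hmpos with h | h
    · exact Or.inl h.symm
    refine Or.inr ?_
    have hev : Even ((z₁ + z₂).natAbs) := by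
      have : Even (I * (z₁ + z₂).natAbs) := hnat ▸ (Nat.Odd.sub_odd hm odd_one).mul_right d
      exact ((Nat.even_mul).1 this).resolve_left (Nat.not_even_iff_odd.2 hodd)
    have hpos : 0 < (z₁ + z₂).natAbs := by
      rcases Nat.eq_zero_or_pos (z₁ + z₂).natAbs with h0 | h0
      · rw [h0, mul_zero] at hnat
        have : 0 < (m - 1) * d := Nat.mul_pos (by omega) (Nat.pos_of_ne_zero fun h => hdC (by simp [h]))
        omega
      · exact h0
    obtain ⟨c, hc'⟩ := hev
    rw [← hnat, hc', mul_comm 2 I]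
    exact Nat.mul_le_mul_left _ (by omega)
  rcases hbound with h | hbound
  · exfalso
    -- there are at least two involutions fixing `a`
    obtain ⟨s, s', hs, hs', hne2, -⟩ := two_invol_fixing hS h2
    rw [hmdef, Nat.card_coe_set_eq] at h
    obtain ⟨x, hx⟩ := Set.ncard_eq_one.1 h
    rw [hx] at hs hs'
    exact hne2 (hs.trans hs'.symm)
  -- counting
  have hG : Nat.card ι * d ^ 2 ≤ Nat.card G := by
    have := Fintype.ofFinite ι
    rw [← CharX.sum_deg_sq (G := G)]
    let e : ι ↪ Cfsg.IrrCharacter G :=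
      ⟨fun i => ⟨μ i, hirr i⟩, fun i i' h => hinj (congrArg Subtype.val h)⟩
    refine le_trans (le_of_eq ?_) (Finset.sum_le_univ_sum_of_nonneg (s := Finset.univ.map e)
      fun χ => Nat.zero_le _)
    rw [Finset.sum_map, Finset.sum_congr rfl fun i _ => show Cfsg.charDegree ((e i : Cfsg.IrrCharacter G) : G → ℂ) ^ 2 = d ^ 2 by
      show Cfsg.charDegree (μ i) ^ 2 = d ^ 2
      have := CharX.deg_spec (IsIrrCharacter.isCharacter (hirr i))
      rw [hdeg] at this
      rw [← Nat.cast_injective this]]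
    · rw [Finset.sum_const, Finset.card_univ, smul_eq_mul, Nat.card_eq_fintype_card]
  calc Nat.card ι * (2 * I) ^ 2 ≤ Nat.card ι * ((m - 1) * d) ^ 2 :=
        Nat.mul_le_mul_left _ (Nat.pow_le_pow_left hbound 2)
    _ = (m - 1) ^ 2 * (Nat.card ι * d ^ 2) := by ring
    _ ≤ _ := Nat.mul_le_mul_left _ hG

end Cfsg.Agent.RankOne
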