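import Cfsg.Agent.Lib.RankOne.TwoGroupCases
import Cfsg.Agent.Lib.U3Rec.Conclusion
import Cfsg.Prelude.Def_Classical
import Cfsg.Prelude.Def_Sz

/-!
# The conclusion of the classification of the split rank-one set-up from its two main parts
-/

set_option autoImplicit false
set_option linter.unusedSectionVars false

namespace Cfsg.Agent.RankOne

open MulAction

variable {G Ω : Type*} [Group G] [MulAction G Ω] {a : Ω} {t : G} {Q : Subgroup G}

/-- The three outcomes, given that `Q` is a 2-group and that the cube case is unitary. -/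
theorem outcome_of_parts [Finite G] [FaithfulSMul G Ω] (hS : Cfsg.IsRankOneSetup G Ω a t Q)
    (h2 : ∃ x y : G, x ≠ 1 ∧ y ≠ 1 ∧ x ≠ y ∧ x * x = 1 ∧ y * y = 1 ∧ x * y = y * x)
    (hP : IsPGroup 2 Q)
    (hU : IsCube a t Q → ∃ (F : Type) (_ : Field F) (_ : Fintype F) (n : ℕ), 2 ≤ n ∧
      Fintype.card F = (2 ^ n) ^ 2 ∧
      Nonempty (↥(Q ⊔ Subgroup.zpowers t) ≃* Cfsg.PSU 3 F (2 ^ n))) :
    ∃ L : Subgroup G, L.Normal ∧ Odd L.index ∧
      ((∃ (F : Type) (_ : Field F) (_ : Fintype F), (∃ n : ℕ, 2 ≤ n ∧ Fintype.card F = 2 ^ n) ∧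
          Nonempty (L ≃* Matrix.ProjectiveSpecialLinearGroup (Fin 2) F)) ∨
        Cfsg.Lie.IsoSuzuki L ∨
        (∃ (F : Type) (_ : Field F) (_ : Fintype F) (n : ℕ), 2 ≤ n ∧ Fintype.card F = (2 ^ n) ^ 2 ∧
          Nonempty (L ≃* Cfsg.PSU 3 F (2 ^ n)))) := by
  rcases two_group_cases hS h2 hP with ⟨L, hL, hodd, h | h⟩ | hC
  · exact ⟨L, hL, hodd, Or.inl h⟩
  · exact ⟨L, hL, hodd, Or.inr (Or.inl h)⟩
  · exact ⟨Q ⊔ Subgroup.zpowers t, U3Rec.sup_normal hS, U3Rec.sup_odd_index hS, Or.inr (Or.inr (hU hC))⟩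

end Cfsg.Agent.RankOne
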