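import Cfsg.Agent.Lib.RankOne.Involutions

/-!
# Centralisers of subsets of the two-point stabiliser
-/

set_option autoImplicit false
set_option linter.unusedSectionVars false

namespace Cfsg.Agent.RankOne

open MulAction

variable {G Ω : Type*} [Group G] [MulAction G Ω] {a : Ω} {t : G} {Q : Subgroup G}
variable [Finite G] (hS : Cfsg.IsRankOneSetup G Ω a t Q)
include hS

theorem setup_swap : Cfsg.IsRankOneSetup G Ω (t • a) t (Q.map (MulAut.conj t).toMonoidHom) := by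
  have htt : t • (t • a) = a := by rw [← mul_smul, hS.mul_self, one_smul]
  have hmem : ∀ {x : G} (c : Ω), x ∈ stabilizer G (t • c) ↔ t⁻¹ * x * t ∈ stabilizer G c := fun {x} c => by
    rw [mem_stabilizer_iff, mem_stabilizer_iff, mul_smul, mul_smul, inv_smul_eq_iff]
  have hQmem : ∀ {x : G}, x ∈ Q.map (MulAut.conj t).toMonoidHom ↔ t⁻¹ * x * t ∈ Q := by
    intro x
    constructor
    · rintro ⟨q, hq, rfl⟩
      show t⁻¹ * (t * q * t⁻¹) * t ∈ Q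
      rwa [show t⁻¹ * (t * q * t⁻¹) * t = q by group]
    · exact fun h => ⟨_, h, show t * (t⁻¹ * x * t) * t⁻¹ = x by group⟩
  refine ⟨hS.two_transitive, hS.mul_self, hS.ne_one, fun h => hS.not_mem ?_, fun x hx => ?_,
    fun h hh x hx => ?_, ?_, le_antisymm (sup_le (fun x hx => ?_) inf_le_left) fun g hg => ?_, ?_, ?_⟩
  · rw [mem_stabilizer_iff] at h ⊢
    rw [htt] at h
    exact h.symm
  · exact (hmem a).2 (hS.le (hQmem.1 hx))
  · refine hQmem.2 ?_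
    rw [show t⁻¹ * (h * x * h⁻¹) * t = (t⁻¹ * h * t) * (t⁻¹ * x * t) * (t⁻¹ * h * t)⁻¹ by group]
    exact hS.conj_mem _ ((hmem a).1 hh) _ (hQmem.1 hx)
  · rw [eq_bot_iff]
    intro x hx
    obtain ⟨h1, h2⟩ := Subgroup.mem_inf.1 hx
    have h3 : t⁻¹ * x * t ∈ Q ⊓ stabilizer G (t • a) :=
      Subgroup.mem_inf.2 ⟨hQmem.1 h1, (hmem (t • a)).1 h2⟩
    rw [hS.inf_eq_bot, Subgroup.mem_bot] at h3
    rw [Subgroup.mem_bot]
    calc x = t * (t⁻¹ * x * t) * t⁻¹ := by group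
      _ = 1 := by rw [h3]; group
  · exact (hmem a).2 (hS.le (hQmem.1 hx))
  · obtain ⟨q, hq, d, hd, e⟩ := exists_qd hS ((hmem a).1 hg)
    have hd' : t * d * t⁻¹ ∈ stabilizer G (t • a) ⊓ stabilizer G (t • (t • a)) := by
      rw [htt, inf_comm]
      exact conj_twoStab hS hd
    rw [show g = (t * q * t⁻¹) * (t * d * t⁻¹) by
      rw [conj_mul, ← e]; group]
    exact mul_mem (Subgroup.mem_sup_left ⟨q, hq, rfl⟩) (Subgroup.mem_sup_right hd')
  · rw [Subgroup.card_map_of_injective (MulEquiv.injective _)]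
    exact hS.even_card
  · rw [htt, inf_comm]
    exact hS.odd_card

variable {X : Set G}

theorem exists_centralizing_q (hX : X ⊆ (twoStab a t : Set G)) {c : Ω} (hca : c ≠ a)
    (hc : ∀ x ∈ X, x • c = c) : ∃ q ∈ Subgroup.centralizer X ⊓ Q, q • (t • a) = c := by
  obtain ⟨q, hq, rfl⟩ := exists_q_smul hS hca
  refine ⟨q, Subgroup.mem_inf.2 ⟨Subgroup.mem_centralizer_iff.2 fun x hx => ?_, hq⟩, rfl⟩
  have hd := mem_twoStab hS (hX hx)
  have h1 : (x * q * x⁻¹) • (t • a) = q • (t • a) := by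
    rw [mul_smul, mul_smul, inv_smul_eq_iff.2 hd.2.symm, hc x hx]
  have h2 := (existsUnique_smul hS (ta_ne hS) (b := t • a) hca).unique
    (y₁ := ⟨x * q * x⁻¹, hS.conj_mem x hd.1 q hq⟩) (y₂ := ⟨q, hq⟩) h1 rfl
  exact mul_inv_eq_iff_eq_mul.1 (congrArg Subtype.val h2)

theorem centralizer_two_transitive (hX : X ⊆ (twoStab a t : Set G))
    (h3 : ∃ b c d : Ω, b ≠ c ∧ b ≠ d ∧ c ≠ d ∧ ∀ x ∈ X, x • b = b ∧ x • c = c ∧ x • d = d)
    {b₁ b₂ c₁ c₂ : Ω} (h : ∀ x ∈ X, x • b₁ = b₁ ∧ x • b₂ = b₂ ∧ x • c₁ = c₁ ∧ x • c₂ = c₂)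
    (hb : b₁ ≠ b₂) (hc : c₁ ≠ c₂) : ∃ g ∈ Subgroup.centralizer X, g • b₁ = c₁ ∧ g • b₂ = c₂ := by
  have htt : t • (t • a) = a := by rw [← mul_smul, hS.mul_self, one_smul]
  have hX' : X ⊆ (twoStab (t • a) t : Set G) := fun x hx => by
    show x ∈ twoStab (t • a) t
    rw [twoStab, htt, inf_comm]
    exact hX hx
  obtain ⟨e, hea, heb, he⟩ : ∃ e : Ω, e ≠ a ∧ e ≠ t • a ∧ ∀ x ∈ X, x • e = e := by
    obtain ⟨b, c, d, hbc, hbd, hcd, hf⟩ := h3
    by_cases h1 : b ≠ a ∧ b ≠ t • a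
    · exact ⟨b, h1.1, h1.2, fun x hx => (hf x hx).1⟩
    by_cases h2 : c ≠ a ∧ c ≠ t • a
    · exact ⟨c, h2.1, h2.2, fun x hx => (hf x hx).2.1⟩
    refine ⟨d, ?_, ?_, fun x hx => (hf x hx).2.2⟩ <;>
    · intro h4
      simp only [not_and, not_not] at h1 h2
      by_cases hb' : b = a <;> by_cases hc' : c = a
      all_goals first
        | exact hbc (hb'.trans hc'.symm)
        | exact hbd (hb'.trans h4.symm)
        | exact hcd (hc'.trans h4.symm)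
        | exact hbc ((h1 hb').trans (h2 hc').symm)
        | exact hbd ((h1 hb').trans h4.symm)
        | exact hcd ((h2 hc').trans h4.symm)
  -- move any fixed point to `a`
  have toA : ∀ c : Ω, (∀ x ∈ X, x • c = c) → ∃ g ∈ Subgroup.centralizer X, g • c = a := by
    intro c hc
    by_cases h1 : c = a
    · exact ⟨1, one_mem _, by rw [one_smul, h1]⟩
    · obtain ⟨q, hq, hqc⟩ := exists_centralizing_q hS hX h1 hc
      obtain ⟨q', hq', hqe⟩ := exists_centralizing_q hS hX hea he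
      obtain ⟨p, hp, hpe⟩ := exists_centralizing_q (setup_swap hS) hX' heb he
      rw [htt] at hpe
      refine ⟨p⁻¹ * q' * q⁻¹, mul_mem (mul_mem (inv_mem (Subgroup.mem_inf.1 hp).1)
        (Subgroup.mem_inf.1 hq').1) (inv_mem (Subgroup.mem_inf.1 hq).1), ?_⟩
      rw [mul_smul, mul_smul, inv_smul_eq_iff.2 hqc.symm, hqe, inv_smul_eq_iff.2 hpe.symm]
  -- stabilise `a`
  have key : ∀ c d : Ω, c ≠ d → (∀ x ∈ X, x • c = c ∧ x • d = d) →
      ∃ g ∈ Subgroup.centralizer X, g • c = a ∧ g • d = t • a := by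
    intro c d hcd hf
    obtain ⟨g, hg, hgc⟩ := toA c fun x hx => (hf x hx).1
    have hd' : ∀ x ∈ X, x • (g • d) = g • d := fun x hx => by
      rw [← mul_smul, Subgroup.mem_centralizer_iff.1 hg x hx, mul_smul, (hf x hx).2]
    obtain ⟨q, hq, hqd⟩ := exists_centralizing_q hS hX (c := g • d)
      (fun h1 => hcd (MulAction.injective g (hgc.trans h1.symm))) hd'
    refine ⟨q⁻¹ * g, mul_mem (inv_mem (Subgroup.mem_inf.1 hq).1) hg, ?_, ?_⟩
    · rw [mul_smul, hgc, inv_smul_eq_iff, smul_a hS (Subgroup.mem_inf.1 hq).2]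
    · rw [mul_smul, ← hqd, inv_smul_smul]
  obtain ⟨g, hg, hg1, hg2⟩ := key b₁ b₂ hb fun x hx => ⟨(h x hx).1, (h x hx).2.1⟩
  obtain ⟨g', hg', hg1', hg2'⟩ := key c₁ c₂ hc fun x hx => ⟨(h x hx).2.2.1, (h x hx).2.2.2⟩
  exact ⟨g'⁻¹ * g, mul_mem (inv_mem hg') hg, by rw [mul_smul, hg1, inv_smul_eq_iff.2 hg1'.symm],
    by rw [mul_smul, hg2, inv_smul_eq_iff.2 hg2'.symm]⟩

theorem exists_swap_invol (hX : X ⊆ (twoStab a t : Set G))
    (h3 : ∃ b c d : Ω, b ≠ c ∧ b ≠ d ∧ c ≠ d ∧ ∀ x ∈ X, x • b = b ∧ x • c = c ∧ x • d = d) :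
    ∃ u ∈ Subgroup.centralizer X, IsInvol u ∧ u • a = t • a := by
  obtain ⟨g, hg, hga, hgb⟩ := centralizer_two_transitive hS hX h3 (b₁ := a) (b₂ := t • a) (c₁ := t • a)
    (c₂ := a) (fun x hx => ⟨(mem_twoStab hS (hX hx)).1, (mem_twoStab hS (hX hx)).2,
      (mem_twoStab hS (hX hx)).2, (mem_twoStab hS (hX hx)).1⟩) (ta_ne hS).symm (ta_ne hS)
  have hg2 : g * g ∈ twoStab a t := Subgroup.mem_inf.2
    ⟨by rw [mem_stabilizer_iff, mul_smul, hga, hgb], by rw [mem_stabilizer_iff, mul_smul, hgb, hga]⟩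
  obtain ⟨c, hc⟩ := odd_orderOf hS.odd_card hg2
  have hua : (g ^ orderOf (g * g)) • a = t • a := by
    rw [hc, pow_succ', mul_smul, pow_mul, pow_two,
      show (g * g) ^ c • a = a from (Subgroup.mem_inf.1 (pow_mem hg2 c)).1, hga]
  refine ⟨g ^ orderOf (g * g), pow_mem hg _, ⟨fun h => ta_ne hS ?_, ?_⟩, hua⟩
  · rw [← hua, h, one_smul]
  · rw [← (Commute.refl g).mul_pow, pow_orderOf_eq_one]

theorem exists_invol_in_centralizer (hX : X ⊆ (twoStab a t : Set G))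
    (h3 : ∃ b c d : Ω, b ≠ c ∧ b ≠ d ∧ c ≠ d ∧ ∀ x ∈ X, x • b = b ∧ x • c = c ∧ x • d = d) :
    ∃ s ∈ Subgroup.centralizer X ⊓ Q, IsInvol s := by
  obtain ⟨u, hu, hui, -⟩ := exists_swap_invol hS hX h3
  obtain ⟨p, hp, -⟩ := existsUnique_fixed hS hui
  have hpf : ∀ x ∈ X, x • p = p := fun x hx =>
    fixed_of_commute hS hui hp (Subgroup.mem_centralizer_iff.1 hu x hx).symm
  have hother : ∃ d : Ω, d ≠ p ∧ ∀ x ∈ X, x • d = d := by
    by_cases h : a = p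
    · exact ⟨t • a, h ▸ ta_ne hS, fun x hx => (mem_twoStab hS (hX hx)).2⟩
    · exact ⟨a, h, fun x hx => (mem_twoStab hS (hX hx)).1⟩
  obtain ⟨d, hd, hdf⟩ := hother
  obtain ⟨g, hg, hgp, -⟩ := centralizer_two_transitive hS hX h3 (b₁ := p) (b₂ := d) (c₁ := a) (c₂ := t • a)
    (fun x hx => ⟨hpf x hx, hdf x hx, (mem_twoStab hS (hX hx)).1, (mem_twoStab hS (hX hx)).2⟩)
    hd.symm (ta_ne hS).symm
  refine ⟨g * u * g⁻¹, Subgroup.mem_inf.2 ⟨mul_mem (mul_mem hg hu) (inv_mem hg),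
    invol_mem_Q hS (hui.conj g) ?_⟩, hui.conj g⟩
  rw [mem_stabilizer_iff, mul_smul, mul_smul, inv_smul_eq_iff.2 hgp.symm, hp, hgp]

theorem even_centralizer (hX : X ⊆ (twoStab a t : Set G))
    (h3 : ∃ b c d : Ω, b ≠ c ∧ b ≠ d ∧ c ≠ d ∧ ∀ x ∈ X, x • b = b ∧ x • c = c ∧ x • d = d) :
    Even (Nat.card ↥(Subgroup.centralizer X ⊓ Q)) := by
  obtain ⟨s, hs, hsi⟩ := exists_invol_in_centralizer hS hX h3
  have h := orderOf_dvd_natCard (⟨s, hs⟩ : ↥(Subgroup.centralizer X ⊓ Q))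
  rw [Subgroup.orderOf_mk, hsi.orderOf] at h
  exact even_iff_two_dvd.2 h

theorem centralizer_factor (hX : X ⊆ (twoStab a t : Set G)) :
    (Subgroup.centralizer X ⊓ Q) ⊔ (Subgroup.centralizer X ⊓ twoStab a t) =
      Subgroup.centralizer X ⊓ stabilizer G a := by
  refine le_antisymm (sup_le (inf_le_inf_left _ hS.le) (inf_le_inf_left _ inf_le_left)) fun g hg => ?_
  obtain ⟨hgc, hga⟩ := Subgroup.mem_inf.1 hg
  obtain ⟨q, hq, d, hd, rfl⟩ := exists_qd hS hga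
  have key : ∀ x ∈ X, x * q * x⁻¹ = q ∧ x * d * x⁻¹ = d := fun x hx => by
    refine qd_unique hS (hS.conj_mem x (mem_twoStab hS (hX hx)).1 q hq) hq
      (mul_mem (mul_mem (hX hx) hd) (inv_mem (hX hx))) hd ?_
    rw [conj_mul, mul_inv_eq_iff_eq_mul, Subgroup.mem_centralizer_iff.1 hgc x hx]
  exact mul_mem
    (Subgroup.mem_sup_left (Subgroup.mem_inf.2 ⟨Subgroup.mem_centralizer_iff.2 fun x hx =>
      mul_inv_eq_iff_eq_mul.1 (key x hx).1, hq⟩))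
    (Subgroup.mem_sup_right (Subgroup.mem_inf.2 ⟨Subgroup.mem_centralizer_iff.2 fun x hx =>
      mul_inv_eq_iff_eq_mul.1 (key x hx).2, hd⟩))

theorem conj_into_centralizer (hX : X ⊆ (twoStab a t : Set G))
    (h3 : ∃ b c d : Ω, b ≠ c ∧ b ≠ d ∧ c ≠ d ∧ ∀ x ∈ X, x • b = b ∧ x • c = c ∧ x • d = d) :
    ∃ k ∈ twoStab a t, ∀ x ∈ X, (k * x * k⁻¹) * t = t * (k * x * k⁻¹) := by
  obtain ⟨u, hu, hui, hua⟩ := exists_swap_invol hS hX h3
  obtain ⟨l, hl, hlt⟩ := swap_conj hS hui hua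
  refine ⟨l, hl.1, fun x hx => ?_⟩
  rw [← hlt, conj_mul, conj_mul, Subgroup.mem_centralizer_iff.1 hu x hx]

theorem fix_three_of_centralized {x q : G} (hx : x ∈ twoStab a t) (hq : q ∈ Q) (hq1 : q ≠ 1)
    (hxq : x * q = q * x) :
    ∃ b c d : Ω, b ≠ c ∧ b ≠ d ∧ c ≠ d ∧ ∀ y ∈ ({x} : Set G), y • b = b ∧ y • c = c ∧ y • d = d := by
  obtain ⟨h1, h2⟩ := mem_twoStab hS hx
  refine ⟨a, t • a, q • (t • a), (ta_ne hS).symm, fun h => ta_ne hS ?_,
    fun h => ta_ne hS (eq_a_of_fixed hS hq hq1 h.symm), fun y hy => ?_⟩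
  · exact MulAction.injective q (h.symm.trans (smul_a hS hq).symm)
  · rw [Set.mem_singleton_iff.1 hy]
    exact ⟨h1, h2, by rw [← mul_smul, hxq, mul_smul, h2]⟩

/-- A non-trivial inverted element of `D` centralises no non-trivial element of `Q`. -/
theorem inverted_fpf {x : G} (hx : x ∈ Cfsg.invertedBy (twoStab a t) t) (hx1 : x ≠ 1) :
    Q ⊓ Subgroup.centralizer {x} = ⊥ := by
  rw [eq_bot_iff]
  intro q hq
  rw [Subgroup.mem_bot]
  by_contra hq1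
  obtain ⟨hq2, hq3⟩ := Subgroup.mem_inf.1 hq
  have hxX : ({x} : Set G) ⊆ (twoStab a t : Set G) := Set.singleton_subset_iff.2 hx.1
  obtain ⟨s, hs, hsi⟩ := exists_invol_in_centralizer hS hxX
    (fix_three_of_centralized hS hx.1 hq2 hq1 (Subgroup.mem_centralizer_iff.1 hq3 x rfl))
  exact hx1 (eq_one_of_inverted_commute hS hx hsi (smul_a hS (Subgroup.mem_inf.1 hs).2)
    (Subgroup.mem_centralizer_iff.1 (Subgroup.mem_inf.1 hs).1 x rfl))

theorem conj_in_centralizer {X : Set G}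
    (hX : X ⊆ ((twoStab a t ⊓ Subgroup.centralizer {t} : Subgroup G) : Set G)) (g : G)
    (hY : (fun x => g * x * g⁻¹) '' X ⊆ ((twoStab a t ⊓ Subgroup.centralizer {t} : Subgroup G) : Set G)) :
    ∃ v ∈ twoStab a t ⊓ Subgroup.centralizer {t},
      (fun x => v * x * v⁻¹) '' X = (fun x => g * x * g⁻¹) '' X := by
  obtain ⟨e, he, -⟩ := existsUnique_fixed hS (t_invol hS)
  have hea : e ≠ a := fun h => ta_ne hS (h ▸ he)
  have heb : e ≠ t • a := fun h => ta_ne hS (by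
    have h1 := he; rw [h, ← mul_smul, hS.mul_self, one_smul] at h1; exact h1.symm)
  have hfix : ∀ x ∈ X, x ∈ twoStab a t ∧ t * x * t⁻¹ = x ∧ x • e = e := fun x hx => by
    obtain ⟨h1, h2⟩ := Subgroup.mem_inf.1 (hX hx)
    refine ⟨h1, mem_centralizer_iff_conj.1 h2, fixed_of_commute hS (t_invol hS) he ?_⟩
    exact (Subgroup.mem_centralizer_singleton_iff.1 h2).symm
  have hXD : X ⊆ (twoStab a t : Set G) := fun x hx => (hfix x hx).1
  have h3 : ∃ b c d : Ω, b ≠ c ∧ b ≠ d ∧ c ≠ d ∧ ∀ x ∈ X, x • b = b ∧ x • c = c ∧ x • d = d :=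
    ⟨e, a, t • a, hea, heb, (ta_ne hS).symm, fun x hx =>
      ⟨(hfix x hx).2.2, (mem_twoStab hS (hfix x hx).1).1, (mem_twoStab hS (hfix x hx).1).2⟩⟩
  have hYf : ∀ x ∈ X, x • (g⁻¹ • a) = g⁻¹ • a ∧ x • (g⁻¹ • (t • a)) = g⁻¹ • (t • a) := fun x hx => by
    obtain ⟨h1, h2⟩ := mem_twoStab hS (Subgroup.mem_inf.1 (hY (Set.mem_image_of_mem _ hx))).1
    rw [mul_smul, mul_smul] at h1 h2
    exact ⟨eq_inv_smul_iff.2 h1, eq_inv_smul_iff.2 h2⟩
  obtain ⟨c, hc, hca, hcb⟩ := centralizer_two_transitive hS hXD h3 (b₁ := a) (b₂ := t • a)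
    (c₁ := g⁻¹ • a) (c₂ := g⁻¹ • (t • a))
    (fun x hx => ⟨(mem_twoStab hS (hXD hx)).1, (mem_twoStab hS (hXD hx)).2, (hYf x hx).1, (hYf x hx).2⟩)
    (ta_ne hS).symm (fun h => ta_ne hS (MulAction.injective _ h).symm)
  have hd : g * c ∈ twoStab a t := Subgroup.mem_inf.2
    ⟨by rw [mem_stabilizer_iff, mul_smul, hca, smul_inv_smul],
     by rw [mem_stabilizer_iff, mul_smul, hcb, smul_inv_smul]⟩
  have hdx : ∀ x ∈ X, g * c * x * (g * c)⁻¹ = g * x * g⁻¹ := fun x hx => by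
    calc g * c * x * (g * c)⁻¹ = g * (c * x) * c⁻¹ * g⁻¹ := by group
      _ = g * x * g⁻¹ := by rw [← Subgroup.mem_centralizer_iff.1 hc x hx]; group
  obtain ⟨y, z, hy, hyf, hz, hyz⟩ :=
    exists_decomp hS.mul_self hS.odd_card (fun x hx => conj_twoStab hS hx) hd
  refine ⟨y, Subgroup.mem_inf.2 ⟨hy, mem_centralizer_iff_conj.2 hyf⟩, Set.image_congr fun x hx => ?_⟩
  have hyx : y * (z * x * z⁻¹) * y⁻¹ = g * x * g⁻¹ := by rw [← hdx x hx, hyz]; group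
  have h2 : t * (g * x * g⁻¹) * t⁻¹ = g * x * g⁻¹ :=
    mem_centralizer_iff_conj.1 (Subgroup.mem_inf.1 (hY (Set.mem_image_of_mem _ hx))).2
  have h4 : y * (z⁻¹ * x * z⁻¹⁻¹) * y⁻¹ = g * x * g⁻¹ := by
    conv_rhs => rw [← h2, ← hyx]
    rw [show t * (y * (z * x * z⁻¹) * y⁻¹) * t⁻¹ = (t * y * t⁻¹) *
      ((t * z * t⁻¹) * (t * x * t⁻¹) * (t * z * t⁻¹)⁻¹) * (t * y * t⁻¹)⁻¹ by group, hyf, hz.2, (hfix x hx).2.1]
  have h5 : z * x * z⁻¹ = z⁻¹ * x * z⁻¹⁻¹ := mul_left_cancel (mul_right_cancel (hyx.trans h4.symm))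
  obtain ⟨m, hm⟩ := exists_sqrt (odd_orderOf hS.odd_card hz.1)
  have hzz : Commute (z * z) x := by
    show z * z * x = x * (z * z)
    calc z * z * x = z * (z * x * z⁻¹) * z := by group
      _ = x * (z * z) := by rw [h5]; group
  have hzx : Commute z x := by
    have : z = (z * z) ^ m := by rw [(Commute.refl z).mul_pow, hm]
    rw [this]; exact hzz.pow_left m
  rw [← hyx, hzx.eq, mul_inv_cancel_right]

end Cfsg.Agent.RankOne
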