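import Cfsg.Agent.Lib.RankOne.InvertedCyclic

/-!
# The `h`-part of the canonical form modulo the inverted elements

For `x = r ^ ±1` times an involution of `G_a` (and their conjugates under the inverted elements) the
element `h` of `t x t = g h t f` is an inverted element.  When this holds for every `x`, the group
`⟨Q, t⟩` is a normal subgroup with two-point stabiliser the group of inverted elements.
-/

set_option autoImplicit false
set_option linter.unusedSectionVars false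

namespace Cfsg.Agent.RankOne

open MulAction

variable {G Ω : Type*} [Group G] [MulAction G Ω] {a : Ω} {t : G} {Q : Subgroup G}

/-- The subgroup generated by the inverted elements of the two-point stabiliser. -/
def invK (a : Ω) (t : G) : Subgroup G := Subgroup.closure (Cfsg.invertedBy (twoStab a t) t)

/-- All `h`-parts of `x` lie in the group of inverted elements. -/
def HK (a : Ω) (t : G) (Q : Subgroup G) (x : G) : Prop :=
  ∀ g h f : G, g ∈ Q → h ∈ twoStab a t → f ∈ Q → t * x * t = g * h * t * f → h ∈ invK a t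

variable [Finite G] (hS : Cfsg.IsRankOneSetup G Ω a t Q)
include hS

theorem exists_ghtf {x : G} (hx : x ∈ Q) (hx1 : x ≠ 1) :
    ∃ g h f : G, g ∈ Q ∧ h ∈ twoStab a t ∧ f ∈ Q ∧ t * x * t = g * h * t * f := by
  have hm : t * x * t ∉ stabilizer G a := by
    intro hm
    rw [mem_stabilizer_iff, mul_smul, mul_smul, ← eq_inv_smul_iff, inv_t hS] at hm
    exact ta_ne hS (eq_a_of_fixed hS hx hx1 hm)
  obtain ⟨⟨p, f⟩, ⟨hp, hf, e⟩, -⟩ := qd_of_canonical hS hm
  obtain ⟨g, hg, h, hh, rfl⟩ := exists_qd hS hp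
  exact ⟨g, h, f, hg, hh, hf, e⟩

theorem hk_of_eq {x g h f : G} (hg : g ∈ Q) (hh : h ∈ twoStab a t) (hf : f ∈ Q)
    (e : t * x * t = g * h * t * f) (hK : h ∈ invK a t) : HK a t Q x := by
  intro g' h' f' hg' hh' hf' e'
  obtain ⟨-, h2, -⟩ := ghtf_unique hS hg' hh' hf' hg hh hf (e'.symm.trans e)
  exact h2 ▸ hK

theorem tdt_mem {d : G} (hd : d ∈ twoStab a t) : t * d * t ∈ twoStab a t := by
  have := conj_twoStab hS hd
  rwa [inv_t hS] at this

theorem invK_le : invK a t ≤ twoStab a t := by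
  rw [invK, Subgroup.closure_le]
  exact fun x hx => hx.1

theorem conj_t_mod {d : G} (hd : d ∈ twoStab a t) : d⁻¹ * (t * d * t) ∈ invK a t := by
  obtain ⟨y, z, -, hy, hz, rfl⟩ :=
    exists_decomp hS.mul_self hS.odd_card (fun x hx => conj_twoStab hS hx) hd
  have hti := inv_t hS
  rw [hti] at hy
  have hz' := hz.2
  rw [hti] at hz'
  have e : (y * z)⁻¹ * (t * (y * z) * t) = z⁻¹ * z⁻¹ := by
    calc (y * z)⁻¹ * (t * (y * z) * t) = z⁻¹ * y⁻¹ * ((t * y * t) * (t⁻¹ * z * t)) := by group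
      _ = z⁻¹ * z⁻¹ := by rw [hy, hti, hz']; group
  rw [e]
  exact mul_mem (inv_mem (Subgroup.subset_closure hz)) (inv_mem (Subgroup.subset_closure hz))

variable (h2 : ∃ x y : G, x ≠ 1 ∧ y ≠ 1 ∧ x ≠ y ∧ x * x = 1 ∧ y * y = 1 ∧ x * y = y * x)
include h2

theorem mem_invK {k : G} : k ∈ invK a t ↔ k ∈ Cfsg.invertedBy (twoStab a t) t := by
  obtain ⟨k₀, -, hk, -, -⟩ := exists_generator hS h2
  refine ⟨fun h => ?_, fun h => Subgroup.subset_closure h⟩
  rw [hk]
  exact (Subgroup.closure_le _).2 (fun x hx => (hk x).1 hx) h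

theorem conj_mem_invK {d k : G} (hd : d ∈ twoStab a t) (hk : k ∈ invK a t) :
    d * k * d⁻¹ ∈ invK a t := by
  obtain ⟨k₀, -, hgen, hn, -⟩ := exists_generator hS h2
  rw [mem_invK hS h2, hgen] at hk ⊢
  exact hn d hd k hk

theorem tkt_eq {k : G} (hk : k ∈ invK a t) : t * k * t = k⁻¹ := by
  have := ((mem_invK hS h2).1 hk).2
  rwa [inv_t hS] at this

theorem hk_conj {x c : G} (hx : x ∈ Q) (hx1 : x ≠ 1) (hc : c ∈ invK a t) (hK : HK a t Q x) :
    HK a t Q (c⁻¹ * x * c) := by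
  obtain ⟨g, h, f, hg, hh, hf, e⟩ := exists_ghtf hS hx hx1
  intro g₃ h₃ f₃ hg₃ hh₃ hf₃ e₃
  rw [((h_identities hS hx hg hh hf e).2.2 c (invK_le hS hc) g₃ h₃ f₃ hg₃ hh₃ hf₃ e₃).2, tkt_eq hS h2 hc,
    inv_inv]
  exact mul_mem (mul_mem hc (hK g h f hg hh hf e)) hc

theorem hk_inv {x : G} (hx : x ∈ Q) (hx1 : x ≠ 1) (hK : HK a t Q x) : HK a t Q x⁻¹ := by
  obtain ⟨g, h, f, hg, hh, hf, e⟩ := exists_ghtf hS hx hx1
  intro g₁ h₁ f₁ hg₁ hh₁ hf₁ e₁
  rw [((h_identities hS hx hg hh hf e).1 g₁ h₁ f₁ hg₁ hh₁ hf₁ e₁).2,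
    tkt_eq hS h2 (inv_mem (hK g h f hg hh hf e)), inv_inv]
  exact hK g h f hg hh hf e

variable {s r : G} (hs : s ∈ Cfsg.involutionsIn (stabilizer G a : Set G)) (hr : r ∈ Q)
  (heq : t * s * t = r⁻¹ * t * r)
include hs hr heq

theorem trt : t * r * t = r * t * s := by
  have hti := inv_t hS
  calc t * r * t = r * (r⁻¹ * t * r) * t := by group
    _ = r * (t * s * t) * t := by rw [heq]
    _ = r * t * s * (t * t) := by group
    _ = r * t * s := by rw [hS.mul_self, mul_one]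

theorem hk_r : HK a t Q r :=
  hk_of_eq hS hr (one_mem _) (invol_central hS h2 hs).1
    (by rw [mul_one]; exact trt hS h2 hs hr heq) (one_mem _)

theorem hk_invol {z : G} (hz : z ∈ Cfsg.involutionsIn (stabilizer G a : Set G)) : HK a t Q z := by
  obtain ⟨c, hc, rfl⟩ := inverted_transitive hS hs hz
  have hsQ := (invol_central hS h2 hs).1
  exact hk_conj hS h2 hsQ hs.2.1 (Subgroup.subset_closure hc)
    (hk_of_eq hS (inv_mem hr) (one_mem _) hr (by rw [mul_one]; exact heq) (one_mem _))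

/-- The key step: `h` is inverted on the coset of `r` modulo the involutions of `G_a`. -/
theorem hk_mul {z : G} (hz : z ∈ Cfsg.involutionsIn (stabilizer G a : Set G)) (hne : r * z ≠ 1) :
    HK a t Q (r * z) := by
  obtain ⟨c, hc0, rfl⟩ := inverted_transitive hS hs hz
  have hc : c ∈ invK a t := Subgroup.subset_closure hc0
  have hcD := invK_le hS hc
  have hsQ := (invol_central hS h2 hs).1
  have hti := inv_t hS
  have hca : c ∈ stabilizer G a := (Subgroup.mem_inf.1 hcD).1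
  have htct := tkt_eq hS h2 hc
  have ez : t * (c⁻¹ * s * c) * t = (c * r⁻¹ * c⁻¹) * (c * c) * t * (c * r * c⁻¹) := by
    have e1 : t * c⁻¹ * t = c := by
      rw [tkt_eq hS h2 (inv_mem hc), inv_inv]
    calc t * (c⁻¹ * s * c) * t = (t * c⁻¹ * t⁻¹) * (t * s * t⁻¹) * (t * c * t) := by group
      _ = c * (r⁻¹ * t * r) * c⁻¹ := by rw [hti, e1, heq, htct]
      _ = c * r⁻¹ * (c * t * c) * r * c⁻¹ := by
          rw [show c * t * c = t by
            calc c * t * c = (t * t) * c * t * c := by rw [hS.mul_self, one_mul]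
              _ = t * (t * c * t) * c := by group
              _ = t := by rw [htct]; group]
          group
      _ = _ := by group
  obtain ⟨g, h, f, hg, hh, hf, e⟩ := exists_ghtf hS (mul_mem hr (invol_central hS h2 hz).1) hne
  -- the decomposition of `z' = s * (c r⁻¹ c⁻¹) = (c (r z) c⁻¹)⁻¹`
  have hxQ : r * (c⁻¹ * s * c) ∈ Q := mul_mem hr (invol_central hS h2 hz).1
  set x₀ := r * (c⁻¹ * s * c) with hx₀
  have hx₁Q : c⁻¹⁻¹ * x₀ * c⁻¹ ∈ Q := by
    rw [inv_inv]; exact hS.conj_mem c hca _ hxQ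
  have hx₁1 : c⁻¹⁻¹ * x₀ * c⁻¹ ≠ 1 := by
    rw [inv_inv]; exact fun h' => hne (conj_eq_one_iff.1 h')
  obtain ⟨g₁, h₁, f₁, hg₁, hh₁, hf₁, e₁⟩ := exists_ghtf hS hx₁Q hx₁1
  have hh1eq := ((h_identities hS hxQ hg hh hf e).2.2 c⁻¹ (inv_mem hcD) g₁ h₁ f₁ hg₁ hh₁ hf₁ e₁).2
  rw [tkt_eq hS h2 (inv_mem hc), inv_inv] at hh1eq
  have ez' : s * (c * r⁻¹ * c⁻¹) = (c⁻¹⁻¹ * x₀ * c⁻¹)⁻¹ := by
    rw [hx₀, inv_inv]
    calc s * (c * r⁻¹ * c⁻¹) = s⁻¹ * (c * r⁻¹ * c⁻¹) := by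
          rw [inv_eq_of_mul_eq_one_right hs.2.2]
      _ = _ := by group
  obtain ⟨g₂, h₂, f₂, hg₂, hh₂, hf₂, e₂⟩ := exists_ghtf hS (inv_mem hx₁Q)
    (fun h' => hx₁1 (inv_eq_one.1 h'))
  have hh2eq := ((h_identities hS hx₁Q hg₁ hh₁ hf₁ e₁).1 g₂ h₂ f₂ hg₂ hh₂ hf₂ e₂).2
  have hprod := ((h_product hS hr (invol_central hS h2 hz).1 hne hr (one_mem _) hsQ
    (by rw [mul_one]; exact trt hS h2 hs hr heq) (hS.conj_mem c hca _ (inv_mem hr)) (mul_mem hcD hcD)
    (hS.conj_mem c hca _ hr) ez).2 g₂ h₂ f₂ g h f hg₂ hh₂ hf₂ (by rw [ez']; exact e₂) hg hh hf e).2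
  rw [one_mul, hh2eq, hh1eq] at hprod
  -- `h = t (c⁻¹ h c⁻¹)⁻¹ t c c`
  refine hk_of_eq hS hg hh hf e ?_
  have hti' : t * h⁻¹ * t ∈ twoStab a t := tdt_mem hS (inv_mem hh)
  have e3 : h = c⁻¹ * (t * h⁻¹ * t) * c := by
    conv_lhs => rw [hprod]
    calc t * (c⁻¹ * h * c⁻¹)⁻¹ * t * (c * c)
        = (t * c * t⁻¹) * (t * h⁻¹ * t) * (t⁻¹ * c * t) * c * c := by group
      _ = c⁻¹ * (t * h⁻¹ * t) * c := by rw [hti, htct]; group
  have e4 : h * (c * h * c⁻¹) ∈ invK a t := by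
    have h5 := conj_t_mod hS (inv_mem hh)
    rw [inv_inv] at h5
    have e3' : c * h * c⁻¹ = t * h⁻¹ * t := by
      calc c * h * c⁻¹ = c * (c⁻¹ * (t * h⁻¹ * t) * c) * c⁻¹ := by rw [← e3]
        _ = t * h⁻¹ * t := by group
    rwa [e3']
  have e5 : h * h ∈ invK a t := by
    have h6 : h * c * h ∈ invK a t := by
      have := mul_mem e4 hc
      rwa [show h * (c * h * c⁻¹) * c = h * c * h by group] at this
    have h7 : h⁻¹ * c * h ∈ invK a t := by
      simpa using conj_mem_invK hS h2 (inv_mem hh) hc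
    have := mul_mem h6 (inv_mem h7)
    rwa [show h * c * h * (h⁻¹ * c * h)⁻¹ = h * h by group] at this
  obtain ⟨m, hm⟩ := odd_orderOf hS.odd_card hh
  have h8 : h = (h * h) ^ (m + 1) := by
    rw [← pow_two, ← pow_mul, show 2 * (m + 1) = orderOf h + 1 by omega, pow_succ, pow_orderOf_eq_one,
      one_mul]
  rw [h8]
  exact pow_mem e5 _

end Cfsg.Agent.RankOne
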