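import Cfsg.Agent.Lib.RankOne.Structure
import Cfsg.Agent.Lib.TransLinear.Main
import Cfsg.Agent.Lib.TransLinear.Stabilizer

/-!
# The inverted elements form a normal cyclic subgroup
-/

set_option autoImplicit false
set_option linter.unusedSectionVars false

namespace Cfsg.Agent.RankOne

open MulAction

variable {G Ω : Type*} [Group G] [MulAction G Ω] {a : Ω} {t : G} {Q : Subgroup G}
variable [Finite G] (hS : Cfsg.IsRankOneSetup G Ω a t Q)
  (h2 : ∃ x y : G, x ≠ 1 ∧ y ≠ 1 ∧ x ≠ y ∧ x * x = 1 ∧ y * y = 1 ∧ x * y = y * x)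

/-- The involutions of the point stabiliser, with `1`. -/
def invSub : Subgroup G where
  carrier := {x | x = 1 ∨ x ∈ Cfsg.involutionsIn (stabilizer G a : Set G)}
  one_mem' := Or.inl rfl
  mul_mem' := by
    intro x y hx hy
    rcases hx with rfl | hx
    · rw [one_mul]; exact hy
    rcases hy with rfl | hy
    · rw [mul_one]; exact Or.inr hx
    exact invol_mul hS h2 hx hy
  inv_mem' := by
    intro x hx
    rcases hx with rfl | hx
    · exact Or.inl inv_one
    · rw [show x⁻¹ = x from inv_eq_of_mul_eq_one_right hx.2.2]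
      exact Or.inr hx

theorem mem_invSub {x : G} :
    x ∈ invSub hS h2 ↔ x = 1 ∨ x ∈ Cfsg.involutionsIn (stabilizer G a : Set G) := Iff.rfl

theorem invSub_le_Q {x : G} (hx : x ∈ invSub hS h2) : x ∈ Q := by
  rcases hx with rfl | hx
  · exact one_mem _
  · exact (invol_central hS h2 hx).1

theorem invSub_comm {x y : G} (hx : x ∈ invSub hS h2) (hy : y ∈ Q) : x * y = y * x := by
  rcases hx with rfl | hx
  · rw [one_mul, mul_one]
  · exact (invol_central hS h2 hx).2 y hy

theorem conj_mem_invSub {d x : G} (hd : d ∈ twoStab a t) (hx : x ∈ invSub hS h2) :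
    d * x * d⁻¹ ∈ invSub hS h2 := by
  rcases hx with rfl | hx
  · rw [mul_one, mul_inv_cancel]; exact one_mem _
  · have h := conj_mem_involutionsIn hS hx (d := d⁻¹)
      (MulAction.mem_stabilizer_iff.1 (inv_mem (Subgroup.mem_inf.1 hd).1))
    rw [inv_inv] at h
    exact Or.inr h

theorem twoStab_le_normalizer (hS : Cfsg.IsRankOneSetup G Ω a t Q)
    (h2 : ∃ x y : G, x ≠ 1 ∧ y ≠ 1 ∧ x ≠ y ∧ x * x = 1 ∧ y * y = 1 ∧ x * y = y * x) :
    twoStab a t ≤ Subgroup.normalizer (invSub hS h2 : Set G) := by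
  intro d hd
  rw [Subgroup.mem_normalizer_iff]
  intro x
  refine ⟨fun hx => conj_mem_invSub hS h2 hd hx, fun hx => ?_⟩
  have h := conj_mem_invSub hS h2 (inv_mem hd) hx
  simpa [mul_assoc] using h

/-- The action of the two-point stabiliser on the involutions. -/
noncomputable def invAct : twoStab a t →* MulAut (invSub hS h2) :=
  (invSub hS h2).normalizerMonoidHom.comp (Subgroup.inclusion (twoStab_le_normalizer hS h2))

theorem invAct_apply (d : twoStab a t) (x : invSub hS h2) :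
    ((invAct hS h2 d x : invSub hS h2) : G) = (d : G) * x * (d : G)⁻¹ := rfl

include hS in
theorem mem_ker_invAct {d : twoStab a t} :
    d ∈ (invAct hS h2).ker ↔
      ∀ s ∈ Cfsg.involutionsIn (stabilizer G a : Set G), s * (d : G) = (d : G) * s := by
  constructor
  · intro h s hs
    have h1 : ((invAct hS h2 d ⟨s, Or.inr hs⟩ : invSub hS h2) : G) = s :=
      congrArg Subtype.val (DFunLike.congr_fun (MonoidHom.mem_ker.1 h) ⟨s, Or.inr hs⟩)
    rw [invAct_apply] at h1
    exact (mul_inv_eq_iff_eq_mul.1 h1).symm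
  · intro h
    refine MonoidHom.mem_ker.2 (MulEquiv.ext fun x => Subtype.ext ?_)
    rw [invAct_apply]
    rcases x.2 with hx | hx
    · change _ = (x : G)
      rw [hx, mul_one, mul_inv_cancel]
    · change _ = (x : G)
      rw [← h _ hx, mul_inv_cancel_right]

include hS in
/-- An element acting trivially on the involutions commutes with `t`. -/
theorem ker_invAct_comm {d : twoStab a t} (hd : d ∈ (invAct hS h2).ker) :
    t * (d : G) * t⁻¹ = d ∧ ∀ k ∈ Cfsg.invertedBy (twoStab a t) t, k * (d : G) = (d : G) * k := by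
  have h : (d : G) ∈ twoStab a t ⊓ Subgroup.centralizer {t} ⊓
      Subgroup.centralizer (Cfsg.invertedBy (twoStab a t) t) := by
    rw [centralizer_inverted_eq hS]
    exact Subgroup.mem_inf.2 ⟨d.2, Subgroup.mem_centralizer_iff.2 ((mem_ker_invAct hS h2).1 hd)⟩
  exact ⟨mem_centralizer_iff_conj.1 (Subgroup.mem_inf.1 (Subgroup.mem_inf.1 h).1).2,
    Subgroup.mem_centralizer_iff.1 (Subgroup.mem_inf.1 h).2⟩

include hS h2 in
/-- The main structural statement: a generator of the inverted elements, normalised by the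
two-point stabiliser. -/
theorem exists_generator : ∃ k₀ ∈ Cfsg.invertedBy (twoStab a t) t,
    (∀ k, k ∈ Cfsg.invertedBy (twoStab a t) t ↔ k ∈ Subgroup.zpowers k₀) ∧
    (∀ d ∈ twoStab a t, ∀ k ∈ Subgroup.zpowers k₀, d * k * d⁻¹ ∈ Subgroup.zpowers k₀) ∧
    ∃ v ∈ twoStab a t ⊓ Subgroup.centralizer {t},
      (twoStab a t ⊓ Subgroup.centralizer {t} ⊓
          Subgroup.centralizer (Cfsg.invertedBy (twoStab a t) t)) ⊔ Subgroup.closure {v} =
        twoStab a t ⊓ Subgroup.centralizer {t} := by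
  classical
  set Dt := twoStab a t with hDt
  set φ := invAct hS h2 with hφ
  set Db := φ.range with hDb
  set π := φ.rangeRestrict with hπ
  have hπs : Function.Surjective π := φ.rangeRestrict_surjective
  have hπker : π.ker = φ.ker := φ.ker_rangeRestrict
  -- the module
  let E := Additive (invSub hS h2)
  letI : CommGroup (invSub hS h2) :=
    { (inferInstance : Group (invSub hS h2)) with
      mul_comm := fun x y => Subtype.ext (invSub_comm hS h2 x.2 (invSub_le_Q hS h2 y.2)) }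
  letI : DistribMulAction Db E :=
    { smul := fun g x => Additive.ofMul ((g : MulAut (invSub hS h2)) (Additive.toMul x))
      one_smul := fun x => rfl
      mul_smul := fun g g' x => rfl
      smul_zero := fun g => map_one (g : MulAut (invSub hS h2))
      smul_add := fun g x y => map_mul (g : MulAut (invSub hS h2)) _ _ }
  have hsmul : ∀ (d : Dt) (x : invSub hS h2),
      π d • (Additive.ofMul x : E) = Additive.ofMul (φ d x) := fun d x => rfl
  haveI : FaithfulSMul Db E := ⟨fun {g g'} h => Subtype.ext (MulEquiv.ext fun x =>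
    Additive.ofMul.injective (h (Additive.ofMul x)))⟩
  obtain ⟨⟨s, r⟩, ⟨hs, hr, heq⟩, -⟩ := structure_equation hS
  have hVs := centralizer_t_eq hS hs hr heq
  obtain ⟨hsi, hsa⟩ := (mem_involutionsIn hS).1 hs
  let s₀ : E := Additive.ofMul (⟨s, Or.inr hs⟩ : invSub hS h2)
  have hs₀ : s₀ ≠ 0 := fun h => hsi.1 (congrArg (fun x : E => ((Additive.toMul x : invSub hS h2) : G)) h)
  haveI : Finite E := inferInstanceAs (Finite (invSub hS h2))
  haveI : Nontrivial E := ⟨⟨s₀, 0, hs₀⟩⟩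
  have hE : ∀ e : E, 2 • e = 0 := fun e => by
    refine Additive.toMul.injective (Subtype.ext ?_)
    rw [toMul_nsmul, toMul_zero, OneMemClass.coe_one, SubmonoidClass.coe_pow, pow_two]
    rcases (Additive.toMul e).2 with h | h
    · rw [h, one_mul]
    · exact h.2.2
  have hmemJ : ∀ e : E, e ≠ 0 →
      ((Additive.toMul e : invSub hS h2) : G) ∈ Cfsg.involutionsIn (stabilizer G a : Set G) := by
    intro e he
    exact (Additive.toMul e).2.resolve_left fun h => he (Additive.toMul.injective (Subtype.ext h))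
  -- transitivity
  have htrans : ∀ x y : E, x ≠ 0 → y ≠ 0 → ∃ d : Db, d • x = y := by
    intro x y hx hy
    obtain ⟨k, hk, hkxy⟩ := inverted_transitive hS (hmemJ x hx) (hmemJ y hy)
    refine ⟨π ⟨k⁻¹, inv_mem hk.1⟩, ?_⟩
    refine Additive.toMul.injective (Subtype.ext ?_)
    show ((φ ⟨k⁻¹, inv_mem hk.1⟩ (Additive.toMul x) : invSub hS h2) : G) = _
    rw [invAct_apply, ← hkxy, inv_inv]
  have hoddD : Odd (Nat.card Dt) := hS.odd_card
  have hodd : Odd (Nat.card Db) := hoddD.of_dvd_nat (Subgroup.card_range_dvd φ)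
  obtain ⟨hFc, hFfpf, hFder⟩ :=
    TransLinear.structure_of_transitive hodd Nat.prime_two hE htrans
  set Fb := Cfsg.fittingSubgroup Db with hFb
  have hFcent := TransLinear.centralizer_fitting_le_of_derived hFder
  haveI hFn : Fb.Normal := FittingCores.fitting_normal
  -- the action of `t`
  let τ : Dt →* Dt :=
    { toFun := fun d => ⟨t * d * t⁻¹, conj_twoStab hS d.2⟩
      map_one' := Subtype.ext (by simp)
      map_mul' := fun d d' => Subtype.ext (by simp [mul_assoc]) }
  have hle : π.ker ≤ (π.comp τ).ker := by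
    intro d hd
    rw [hπker] at hd
    rw [MonoidHom.mem_ker, MonoidHom.comp_apply,
      show τ d = d from Subtype.ext (ker_invAct_comm hS h2 hd).1, ← MonoidHom.mem_ker, hπker]
    exact hd
  let τb : Db →* Db := π.liftOfRightInverse (Function.surjInv hπs)
    (Function.rightInverse_surjInv hπs) ⟨π.comp τ, hle⟩
  have hτb : ∀ d, τb (π d) = π (τ d) := fun d =>
    π.liftOfRightInverse_comp_apply _ _ ⟨π.comp τ, hle⟩ d
  have hτs : Function.Surjective τb := by
    intro g
    obtain ⟨d, rfl⟩ := hπs g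
    refine ⟨π (τ d), ?_⟩
    rw [hτb]
    refine congrArg π (Subtype.ext ?_)
    show t * (t * (d : G) * t⁻¹) * t⁻¹ = d
    calc t * (t * (d : G) * t⁻¹) * t⁻¹ = (t * t) * (d : G) * (t * t)⁻¹ := by group
      _ = d := by rw [hS.mul_self]; group
  have hτF : ∀ g ∈ Fb, τb g ∈ Fb := fun g hg =>
    FittingCores.fitting_map_le hτs (Subgroup.mem_map_of_mem τb hg)
  -- elements centralising `t` fix `s₀`
  have hVfix : ∀ d : Dt, t * (d : G) * t⁻¹ = d → π d • s₀ = s₀ := by
    intro d hd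
    have h1 : (d : G) ∈ twoStab a t ⊓ Subgroup.centralizer {s} :=
      hVs ▸ Subgroup.mem_inf.2 ⟨d.2, mem_centralizer_iff_conj.2 hd⟩
    refine Additive.toMul.injective (Subtype.ext ?_)
    show ((φ d ⟨s, Or.inr hs⟩ : invSub hS h2) : G) = s
    rw [invAct_apply]
    exact mul_inv_eq_iff_eq_mul.2
      (Subgroup.mem_centralizer_singleton_iff.1 (Subgroup.mem_inf.1 h1).2)
  have hhalf : ∀ g : Db, g * g ∈ Fb → g ∈ Fb := by
    intro g hg
    obtain ⟨m, hm⟩ : Odd (orderOf g) := hodd.of_dvd_nat (orderOf_dvd_natCard g)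
    have h : g = ((g * g) ^ (m + 1)) := by
      rw [← pow_two, ← pow_mul, show 2 * (m + 1) = orderOf g + 1 by omega, pow_succ,
        pow_orderOf_eq_one, one_mul]
    rw [h]
    exact pow_mem hg _
  -- the Fitting subgroup consists of images of inverted elements
  have hFinv : ∀ f ∈ Fb, ∃ z : Dt, (z : G) ∈ Cfsg.invertedBy Dt t ∧ f = π z := by
    intro f hf
    obtain ⟨x, rfl⟩ := hπs f
    obtain ⟨y, z, hy, hyf, hz, hxyz⟩ := exists_decomp hS.mul_self hoddD
      (fun w hw => conj_twoStab hS hw) x.2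
    have hx : x = ⟨y, hy⟩ * ⟨z, hz.1⟩ := Subtype.ext hxyz
    have hτx : τ x = ⟨y, hy⟩ * ⟨z, hz.1⟩⁻¹ := by
      refine Subtype.ext ?_
      show t * (x : G) * t⁻¹ = y * z⁻¹
      rw [hxyz, ← hz.2]
      conv_rhs => rw [← hyf]
      group
    have hzF : π ⟨z, hz.1⟩ ∈ Fb := by
      refine hhalf _ ?_
      have h := mul_mem (inv_mem (hτF _ hf)) hf
      rw [hτb, hτx, hx, map_mul, map_mul, map_inv] at h
      simpa [mul_assoc] using h
    have hy1 : π ⟨y, hy⟩ = 1 := by
      by_contra hne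
      have hyF : π ⟨y, hy⟩ ∈ Fb := by
        have h := mul_mem hf (inv_mem hzF)
        rwa [hx, map_mul, mul_inv_cancel_right] at h
      exact hs₀ (hFfpf _ hyF hne s₀ (hVfix _ hyf))
    exact ⟨⟨z, hz.1⟩, hz, by rw [hx, map_mul, hy1, one_mul]⟩
  have hFτ : ∀ f ∈ Fb, τb f = f⁻¹ := by
    intro f hf
    obtain ⟨z, hz, rfl⟩ := hFinv f hf
    rw [hτb, ← map_inv]
    exact congrArg π (Subtype.ext hz.2)
  -- inverted elements map into the Fitting subgroup
  have hKF : ∀ k : Dt, (k : G) ∈ Cfsg.invertedBy Dt t → π k ∈ Fb := by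
    intro k hk
    have hτk : τb (π k) = (π k)⁻¹ := by
      rw [hτb, ← map_inv]
      exact congrArg π (Subtype.ext hk.2)
    refine hhalf _ (hFcent (Subgroup.mem_centralizer_iff.2 fun f hf => ?_))
    have h := hFτ _ (hFn.conj_mem f hf (π k))
    rw [map_mul, map_mul, map_inv, hτk, hFτ f hf, inv_inv, mul_inv_rev, mul_inv_rev, inv_inv] at h
    have h3 : (π k)⁻¹ * f⁻¹ * π k = π k * (f⁻¹ * (π k)⁻¹) := by simpa [mul_assoc] using h
    have h4 : f⁻¹ * (π k * π k) = π k * π k * f⁻¹ := by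
      calc f⁻¹ * (π k * π k) = π k * ((π k)⁻¹ * f⁻¹ * π k) * π k := by group
        _ = π k * (π k * (f⁻¹ * (π k)⁻¹)) * π k := by rw [h3]
        _ = π k * π k * f⁻¹ := by group
    calc f * (π k * π k) = f * (π k * π k * f⁻¹) * f := by group
      _ = f * (f⁻¹ * (π k * π k)) * f := by rw [h4]
      _ = π k * π k * f := by group
  -- injectivity on inverted elements
  have hinj : ∀ k k' : Dt, (k : G) ∈ Cfsg.invertedBy Dt t → (k' : G) ∈ Cfsg.invertedBy Dt t →
      π k = π k' → k = k' := by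
    intro k k' hk hk' h
    refine Subtype.ext (inv_injective (inverted_conj_inj hS hsi hsa (inv_mem_inverted hS hk)
      (inv_mem_inverted hS hk') ?_))
    have h1 : ((φ k ⟨s, Or.inr hs⟩ : invSub hS h2) : G) = φ k' ⟨s, Or.inr hs⟩ :=
      congrArg (fun g : Db => (((g : MulAut (invSub hS h2)) ⟨s, Or.inr hs⟩ : invSub hS h2) : G)) h
    rw [invAct_apply, invAct_apply] at h1
    rwa [inv_inv, inv_inv]
  obtain ⟨f₀, hf₀⟩ := IsCyclic.exists_generator (α := Fb)
  obtain ⟨k₀, hk₀, hk₀f⟩ := hFinv f₀ f₀.2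
  have hiff : ∀ k, k ∈ Cfsg.invertedBy Dt t ↔ k ∈ Subgroup.zpowers (k₀ : G) := by
    intro k
    constructor
    · intro hk
      obtain ⟨i, hi⟩ := mem_powers_iff_mem_zpowers.2 (hf₀ ⟨_, hKF ⟨k, hk.1⟩ hk⟩)
      have h1 : (f₀ : Db) ^ i = π ⟨k, hk.1⟩ := congrArg Subtype.val hi
      rw [hk₀f, ← map_pow] at h1
      have h2' := hinj (k₀ ^ i) ⟨k, hk.1⟩ (by
        rw [SubmonoidClass.coe_pow]; exact pow_mem_inverted hS hk₀ i) hk h1
      exact mem_powers_iff_mem_zpowers.1 ⟨i, congrArg Subtype.val h2'⟩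
    · intro hk
      obtain ⟨i, rfl⟩ := mem_powers_iff_mem_zpowers.2 hk
      exact pow_mem_inverted hS hk₀ i
  have hnorm : ∀ d ∈ Dt, ∀ k ∈ Subgroup.zpowers (k₀ : G),
      d * k * d⁻¹ ∈ Subgroup.zpowers (k₀ : G) := by
    intro d hd k hk
    obtain ⟨y, z, hy, hyf, hz, rfl⟩ := exists_decomp hS.mul_self hoddD
      (fun w hw => conj_twoStab hS hw) hd
    have hz' := (hiff z).1 hz
    have h1 : y * z * k * (y * z)⁻¹ = y * (z * k * z⁻¹) * y⁻¹ := by group
    have h3 : z * k * z⁻¹ = k := by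
      obtain ⟨i, rfl⟩ := hk
      obtain ⟨j, rfl⟩ := hz'
      group
    rw [h1, h3, ← hiff]
    have hk' := (hiff k).2 hk
    refine ⟨mul_mem (mul_mem hy hk'.1) (inv_mem hy), ?_⟩
    calc t * (y * k * y⁻¹) * t⁻¹ = (t * y * t⁻¹) * (t * k * t⁻¹) * (t * y * t⁻¹)⁻¹ := by group
      _ = (y * k * y⁻¹)⁻¹ := by rw [hyf, hk'.2]; group
  -- the centraliser of `t`
  have hFt : ∀ x y : E, x ≠ 0 → y ≠ 0 → ∃ d ∈ Fb, d • x = y := by
    intro x y hx hy
    obtain ⟨k, hk, hkxy⟩ := inverted_transitive hS (hmemJ x hx) (hmemJ y hy)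
    refine ⟨π ⟨k⁻¹, inv_mem hk.1⟩, hKF _ (inv_mem_inverted hS hk), ?_⟩
    refine Additive.toMul.injective (Subtype.ext ?_)
    show ((φ ⟨k⁻¹, inv_mem hk.1⟩ (Additive.toMul x) : invSub hS h2) : G) = _
    rw [invAct_apply, ← hkxy, inv_inv]
  haveI : IsCyclic Fb := hFc
  set V : Subgroup Dt := (Dt ⊓ Subgroup.centralizer {t}).subgroupOf Dt with hV
  haveI hVc : IsCyclic (V.map π) := TransLinear.isCyclic_stabilizer hE Fb hFt hs₀
    (V := V.map π) fun v hv => by
      obtain ⟨d, hd, rfl⟩ := hv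
      exact hVfix d (mem_centralizer_iff_conj.1 (Subgroup.mem_inf.1 hd).2)
  obtain ⟨⟨_, v, hv, rfl⟩, hgen⟩ := IsCyclic.exists_generator (α := V.map π)
  refine ⟨k₀, hk₀, hiff, hnorm, v, hv, le_antisymm (sup_le inf_le_left
    ((Subgroup.closure_le _).2 (Set.singleton_subset_iff.2 hv))) fun d hd => ?_⟩
  obtain ⟨i, hi⟩ := mem_powers_iff_mem_zpowers.2
    (hgen ⟨π ⟨d, (Subgroup.mem_inf.1 hd).1⟩, Subgroup.mem_map_of_mem π hd⟩)
  have h1 : π v ^ i = π ⟨d, (Subgroup.mem_inf.1 hd).1⟩ := congrArg Subtype.val hi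
  have h2' : ⟨d, (Subgroup.mem_inf.1 hd).1⟩ * (v ^ i)⁻¹ ∈ φ.ker := by
    rw [← hπker, MonoidHom.mem_ker, map_mul, map_inv, map_pow, h1, mul_inv_cancel]
  rw [centralizer_inverted_eq hS,
    show d = (d * ((v : G) ^ i)⁻¹) * (v : G) ^ i by group]
  refine Subgroup.mul_mem_sup (Subgroup.mem_inf.2 ⟨mul_mem (Subgroup.mem_inf.1 hd).1
    (inv_mem (pow_mem v.2 i)), Subgroup.mem_centralizer_iff.2 ?_⟩)
    (pow_mem (Subgroup.subset_closure (Set.mem_singleton _)) i)
  have h3 := (mem_ker_invAct hS h2).1 h2'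
  intro w hw
  simpa using h3 w hw

end Cfsg.Agent.RankOne
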