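import Cfsg.Agent.Lib.RankOne.Assembly
import Cfsg.Agent.Lib.RankOneW.Defs

/-!
# Reduction to a group generated by `Q` and `t`
-/

set_option autoImplicit false
set_option linter.unusedSectionVars false

namespace Cfsg.Agent.RankOne

open MulAction

universe u v

variable {G : Type u} {Ω : Type v} [Group G] [MulAction G Ω] {a : Ω} {t : G} {Q : Subgroup G}

/-- The group generated by `Q` and `t`. -/
abbrev qtGroup (t : G) (Q : Subgroup G) : Subgroup G := Q ⊔ Subgroup.zpowers t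

/-- `t` as an element of `⟨Q, t⟩`. -/
def tSub (t : G) (Q : Subgroup G) : qtGroup t Q := ⟨t, Subgroup.mem_sup_right (Subgroup.mem_zpowers t)⟩

/-- `Q` as a subgroup of `⟨Q, t⟩`. -/
abbrev qSub (t : G) (Q : Subgroup G) : Subgroup (qtGroup t Q) := Q.subgroupOf (qtGroup t Q)

variable [Finite G] (hS : Cfsg.IsRankOneSetup G Ω a t Q)
include hS

theorem setup_qt : Cfsg.IsRankOneSetup (qtGroup t Q) Ω a (tSub t Q) (qSub t Q) := by
  set H := qtGroup t Q with hH
  have hQH : ∀ {x}, x ∈ Q → x ∈ H := fun hx => Subgroup.mem_sup_left hx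
  have hqd : ∀ h : H, (h : G) • a = a →
      ∃ x ∈ qSub t Q, ∃ d : H, ((d : G) • a = a ∧ (d : G) • (t • a) = t • a) ∧ h = x * d := by
    intro h hh
    obtain ⟨x, hx, d, hd, e⟩ := exists_qd hS hh
    refine ⟨⟨x, hQH hx⟩, hx, ⟨d, ?_⟩, mem_twoStab hS hd, Subtype.ext e⟩
    rw [show d = x⁻¹ * h by rw [e]; group]
    exact mul_mem (inv_mem (hQH hx)) h.2
  refine
    { two_transitive := MulAction.is_two_pretransitive_iff.2 ?_
      mul_self := Subtype.ext hS.mul_self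
      ne_one := fun e => hS.ne_one (congrArg Subtype.val e)
      not_mem := hS.not_mem
      le := fun x hx => hS.le hx
      conj_mem := fun h hh x hx => hS.conj_mem (h : G) hh x hx
      inf_eq_bot := (Subgroup.eq_bot_iff_forall _).2 fun x hx => Subtype.ext (by
        have : (x : G) ∈ Q ⊓ stabilizer G (t • a) := ⟨hx.1, hx.2⟩
        rwa [hS.inf_eq_bot, Subgroup.mem_bot] at this)
      sup_eq := le_antisymm (sup_le (fun x hx => hS.le hx) inf_le_left) fun h hh => by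
        obtain ⟨x, hx, d, hd, e⟩ := hqd h hh
        rw [e]
        exact mul_mem (Subgroup.mem_sup_left hx) (Subgroup.mem_sup_right ⟨hd.1, hd.2⟩)
      even_card := by
        rw [Nat.card_congr (Subgroup.subgroupOfEquivOfLe le_sup_left).toEquiv]
        exact hS.even_card
      odd_card := ?_ }
  · intro b c b' c' hbc hbc'
    have key : ∀ {b c : Ω}, b ≠ c → ∃ g : H, (g : G) • a = b ∧ (g : G) • (t • a) = c := by
      intro b c hbc
      obtain ⟨l, hl, hla⟩ := U3Rec.exists_sup_smul hS b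
      obtain ⟨x, hx, e⟩ := exists_q_smul hS (c := l⁻¹ • c) fun h => hbc (by
        rw [← hla, ← h, smul_inv_smul])
      exact ⟨⟨l * x, mul_mem hl (hQH hx)⟩, by rw [mul_smul, smul_a hS hx, hla],
        by rw [mul_smul, e, smul_inv_smul]⟩
    obtain ⟨g, g1, g2⟩ := key hbc
    obtain ⟨g', g1', g2'⟩ := key hbc'
    refine ⟨g' * g⁻¹, ?_, ?_⟩
    · show ((g' : G) * (g : G)⁻¹) • b = b'
      rw [← g1, mul_smul, inv_smul_smul, g1']
    · show ((g' : G) * (g : G)⁻¹) • c = c'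
      rw [← g2, mul_smul, inv_smul_smul, g2']
  · refine hS.odd_card.of_dvd_nat (Subgroup.card_dvd_of_injective
      (MonoidHom.codRestrict ((qtGroup t Q).subtype.comp (stabilizer H a ⊓ stabilizer H (tSub t Q • a)).subtype)
        (stabilizer G a ⊓ stabilizer G (t • a)) fun d => ⟨d.2.1, d.2.2⟩) fun d e h => ?_)
    exact Subtype.ext (Subtype.ext (congrArg
      (fun z : ↥(stabilizer G a ⊓ stabilizer G (t • a)) => (z : G)) h))

theorem exists_commuting_qt
    (h2 : ∃ x y : G, x ≠ 1 ∧ y ≠ 1 ∧ x ≠ y ∧ x * x = 1 ∧ y * y = 1 ∧ x * y = y * x) :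
    ∃ x y : qtGroup t Q, x ≠ 1 ∧ y ≠ 1 ∧ x ≠ y ∧ x * x = 1 ∧ y * y = 1 ∧ x * y = y * x := by
  obtain ⟨x, y, hx, hy, hxy, hxx, hyy, hc⟩ := h2
  exact ⟨⟨x, U3Rec.invol_mem_sup hS ⟨hx, hxx⟩⟩, ⟨y, U3Rec.invol_mem_sup hS ⟨hy, hyy⟩⟩,
    fun e => hx (congrArg Subtype.val e), fun e => hy (congrArg Subtype.val e),
    fun e => hxy (congrArg Subtype.val e), Subtype.ext hxx, Subtype.ext hyy, Subtype.ext hc⟩

theorem qSize_qt : qSize a (tSub t Q) = qSize a t := by
  show Nat.card _ + 1 = Nat.card _ + 1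
  congr 1
  refine Nat.card_congr
    { toFun := fun k => ⟨((k.1 : qtGroup t Q) : G), ⟨k.2.1.1, k.2.1.2⟩, congrArg Subtype.val k.2.2⟩
      invFun := fun k => ⟨⟨k.1, ?_⟩, ⟨k.2.1.1, k.2.1.2⟩, Subtype.ext k.2.2⟩
      left_inv := fun k => rfl
      right_inv := fun k => rfl }
  have h := mul_mem (Subgroup.mem_sup_right (Subgroup.mem_zpowers t) : t ∈ qtGroup t Q)
    (U3Rec.invol_mem_sup hS (swap_of_inverted hS k.2).1)
  rwa [← mul_assoc, hS.mul_self, one_mul] at h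

theorem cube_qt (hC : IsCube a t Q) : IsCube a (tSub t Q) (qSub t Q) := by
  have e : ↥(qSub t Q) ≃* ↥Q := Subgroup.subgroupOfEquivOfLe le_sup_left
  refine ⟨hC.isPGroup.of_equiv e.symm, ?_, ?_⟩
  · rw [qSize_qt hS, Nat.card_congr e.toEquiv, hC.card_eq]
  · obtain ⟨x, hx, y, hy, hne⟩ := hC.nonabelian
    exact ⟨⟨x, Subgroup.mem_sup_left hx⟩, hx, ⟨y, Subgroup.mem_sup_left hy⟩, hy,
      fun h => hne (congrArg Subtype.val h)⟩

omit hS in
theorem qt_top : qSub t Q ⊔ Subgroup.zpowers (tSub t Q) = ⊤ := by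
  have h1 : Subgroup.zpowers (tSub t Q) = (Subgroup.zpowers t).subgroupOf (qtGroup t Q) := by
    ext x
    rw [Subgroup.mem_subgroupOf, Subgroup.mem_zpowers_iff, Subgroup.mem_zpowers_iff]
    exact exists_congr fun i => ⟨fun h => (congrArg Subtype.val h : _), fun h => Subtype.ext h⟩
  rw [h1, ← Subgroup.subgroupOf_sup le_sup_left le_sup_right, Subgroup.subgroupOf_self]

omit hS in
/-- The unitary target. -/
def IsPSUThree (L : Type u) [Group L] : Prop :=
  ∃ (F : Type) (_ : Field F) (_ : Fintype F) (n : ℕ), 2 ≤ n ∧ Fintype.card F = (2 ^ n) ^ 2 ∧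
    Nonempty (L ≃* Cfsg.PSU 3 F (2 ^ n))

/-- The cube case need only be treated when `G = ⟨Q, t⟩`. -/
theorem cube_psu_of_top [FaithfulSMul G Ω]
    (h2 : ∃ x y : G, x ≠ 1 ∧ y ≠ 1 ∧ x ≠ y ∧ x * x = 1 ∧ y * y = 1 ∧ x * y = y * x)
    (hC : IsCube a t Q)
    (htop : ∀ (H : Type u) [Group H] [Finite H] [MulAction H Ω] [FaithfulSMul H Ω] {s : H} {P : Subgroup H},
      Cfsg.IsRankOneSetup H Ω a s P →
      (∃ x y : H, x ≠ 1 ∧ y ≠ 1 ∧ x ≠ y ∧ x * x = 1 ∧ y * y = 1 ∧ x * y = y * x) →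
      IsCube a s P → P ⊔ Subgroup.zpowers s = ⊤ → IsPSUThree H) :
    IsPSUThree (qtGroup t Q) := by
  have : FaithfulSMul (qtGroup t Q) Ω :=
    ⟨fun {g g'} h => Subtype.ext (eq_of_smul_eq_smul fun p : Ω => h p)⟩
  exact htop (qtGroup t Q) (setup_qt hS) (exists_commuting_qt hS h2) (cube_qt hS hC) qt_top

end Cfsg.Agent.RankOne
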