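import Cfsg.Agent.Lib.RankOne.HPart
import Cfsg.Agent.Lib.Zassenhaus.Normal
import Cfsg.Agent.Lib.SzRecog.Main
import Cfsg.Agent.Lib.Small.SharpEven

/-!
# The cases `|Q| = q` and `|Q| = q²` of the split rank-one set-up

`q` is the number of elements of square one in `G_a`.  In both cases `⟨Q, t⟩` is a simple Zassenhaus
group of odd index, so it is `PSL₂(q)` or a Suzuki group.
-/

set_option autoImplicit false
set_option linter.unusedSectionVars false
set_option linter.style.haveILetI false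

namespace Cfsg.Agent.RankOne

open MulAction

universe u v

variable {G : Type u} {Ω : Type v} [Group G] [MulAction G Ω] {a : Ω} {t : G} {Q : Subgroup G}

/-- The group generated by `Q`, the inverted elements and `t`. -/
def thin (a : Ω) (t : G) (Q : Subgroup G) : Subgroup G :=
  Subgroup.closure ((Q : Set G) ∪ (invK a t : Set G) ∪ {t})

theorem Q_le_thin : Q ≤ thin a t Q := fun _ hx =>
  Subgroup.subset_closure (Or.inl (Or.inl hx))

theorem invK_le_thin : invK a t ≤ thin a t Q := fun _ hx =>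
  Subgroup.subset_closure (Or.inl (Or.inr hx))

theorem t_mem_thin : t ∈ thin a t Q := Subgroup.subset_closure (Or.inr rfl)

variable [Finite G] (hS : Cfsg.IsRankOneSetup G Ω a t Q)
  (h2 : ∃ x y : G, x ≠ 1 ∧ y ≠ 1 ∧ x ≠ y ∧ x * x = 1 ∧ y * y = 1 ∧ x * y = y * x)

include hS in
theorem thin_move {b c : Ω} (hbc : b ≠ c) : ∃ g ∈ thin a t Q, g • a = b ∧ g • (t • a) = c := by
  have key : ∃ g ∈ thin a t Q, g • a = b := by
    by_cases hb : b = a
    · exact ⟨1, one_mem _, by rw [one_smul, hb]⟩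
    · obtain ⟨q, hq, e⟩ := exists_q_smul hS hb
      exact ⟨q * t, mul_mem (Q_le_thin hq) t_mem_thin, by rw [mul_smul, e]⟩
  obtain ⟨g, hg, hga⟩ := key
  obtain ⟨q, hq, e⟩ := exists_q_smul hS (c := g⁻¹ • c) fun h => hbc (by
    rw [← hga, ← h, smul_inv_smul])
  exact ⟨g * q, mul_mem hg (Q_le_thin hq), by rw [mul_smul, smul_a hS hq, hga],
    by rw [mul_smul, e, smul_inv_smul]⟩

include hS h2

section
variable (hall : ∀ x ∈ Q, x ≠ 1 → HK a t Q x)
include hall

/-- The elements of `thin`. -/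
theorem thin_cases {g : G} (hg : g ∈ thin a t Q) :
    (∃ q ∈ Q, ∃ k ∈ invK a t, g = q * k) ∨
      ∃ q ∈ Q, ∃ k ∈ invK a t, ∃ q' ∈ Q, g = q * k * t * q' := by
  have hti := inv_t hS
  have hKc : ∀ k ∈ invK a t, ∀ x ∈ Q, k * x * k⁻¹ ∈ Q := fun k hk x hx =>
    hS.conj_mem k (Subgroup.mem_inf.1 (invK_le hS hk)).1 x hx
  have step : ∀ x ∈ (Q : Set G) ∪ (invK a t : Set G) ∪ {t}, ∀ y : G,
      ((∃ q ∈ Q, ∃ k ∈ invK a t, y = q * k) ∨
        ∃ q ∈ Q, ∃ k ∈ invK a t, ∃ q' ∈ Q, y = q * k * t * q') →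
      ((∃ q ∈ Q, ∃ k ∈ invK a t, x * y = q * k) ∨
        ∃ q ∈ Q, ∃ k ∈ invK a t, ∃ q' ∈ Q, x * y = q * k * t * q') := by
    rintro x ((hx | hx) | rfl) y hy
    · rcases hy with ⟨q, hq, k, hk, rfl⟩ | ⟨q, hq, k, hk, q', hq', rfl⟩
      · exact Or.inl ⟨x * q, mul_mem hx hq, k, hk, by group⟩
      · exact Or.inr ⟨x * q, mul_mem hx hq, k, hk, q', hq', by group⟩
    · rcases hy with ⟨q, hq, k, hk, rfl⟩ | ⟨q, hq, k, hk, q', hq', rfl⟩
      · exact Or.inl ⟨x * q * x⁻¹, hKc x hx q hq, x * k, mul_mem hx hk, by group⟩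
      · exact Or.inr ⟨x * q * x⁻¹, hKc x hx q hq, x * k, mul_mem hx hk, q', hq', by group⟩
    · rcases hy with ⟨q, hq, k, hk, rfl⟩ | ⟨q, hq, k, hk, q', hq', rfl⟩
      · refine Or.inr ⟨1, one_mem _, k⁻¹, inv_mem hk, k⁻¹ * q * k, by
          simpa using hKc k⁻¹ (inv_mem hk) q hq, ?_⟩
        calc x * (q * k) = (x * k * x) * x * (k⁻¹ * q * k) := by
              rw [mul_assoc (x * k) x x, hS.mul_self]; group
          _ = _ := by rw [tkt_eq hS h2 hk, one_mul]
      · rcases eq_or_ne q 1 with rfl | hq1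
        · refine Or.inl ⟨k⁻¹ * q' * k, by simpa using hKc k⁻¹ (inv_mem hk) q' hq', k⁻¹, inv_mem hk, ?_⟩
          calc x * (1 * k * x * q') = (x * k * x) * q' := by group
            _ = _ := by rw [tkt_eq hS h2 hk]; group
        · obtain ⟨g, h, f, hg, hh, hf, e⟩ := exists_ghtf hS hq hq1
          refine Or.inr ⟨g, hg, h * k, mul_mem (hall q hq hq1 g h f hg hh hf e) hk,
            k * f * k⁻¹ * q', mul_mem (hKc k hk f hf) hq', ?_⟩
          calc x * (q * k * x * q') = (x * q * x) * (x * k * x) * q' := by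
                rw [show x * q * x * (x * k * x) = x * q * (x * x) * k * x by group, hS.mul_self]; group
            _ = g * h * (k * x * k) * f * k⁻¹ * q' := by
                rw [e, tkt_eq hS h2 hk, show k * x * k = x by
                  calc k * x * k = (x * x) * k * x * k := by rw [hS.mul_self, one_mul]
                    _ = x * (x * k * x) * k := by group
                    _ = x := by rw [tkt_eq hS h2 hk]; group]
            _ = _ := by group
  induction hg using Subgroup.closure_induction_left with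
  | one => exact Or.inl ⟨1, one_mem _, 1, one_mem _, (mul_one 1).symm⟩
  | mul_left x hx y hy ih => exact step x hx y ih
  | inv_mul_cancel x hx y hy ih =>
    refine step x⁻¹ ?_ y ih
    rcases hx with (hx | hx) | hx
    · exact Or.inl (Or.inl (inv_mem (show x ∈ Q from hx)))
    · exact Or.inl (Or.inr (inv_mem (show x ∈ invK a t from hx)))
    · rw [Set.mem_singleton_iff.1 hx, hti]
      exact Or.inr rfl

theorem thin_two {g : G} (hg : g ∈ thin a t Q) (hD : g ∈ twoStab a t) : g ∈ invK a t := by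
  rcases thin_cases hS h2 hall hg with ⟨q, hq, k, hk, rfl⟩ | ⟨q, hq, k, hk, q', hq', rfl⟩
  · obtain ⟨rfl, -⟩ := qd_unique hS hq (one_mem _) (invK_le hS hk) hD (by rw [one_mul])
    rwa [one_mul]
  · exfalso
    have ha := (Subgroup.mem_inf.1 hD).1
    have hk' := (Subgroup.mem_inf.1 (invK_le hS hk)).1
    exact hS.not_mem (by
      rw [show t = (q * k)⁻¹ * (q * k * t * q') * q'⁻¹ by group]
      exact mul_mem (mul_mem (inv_mem (mul_mem (hS.le hq) hk')) ha) (inv_mem (hS.le hq')))

theorem thin_normal : (thin a t Q).Normal := by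
  have hgen : ∀ g : G, g ∈ Subgroup.normalizer (thin a t Q : Set G) := by
    have hL : ∀ g ∈ thin a t Q, g ∈ Subgroup.normalizer (thin a t Q : Set G) := fun g hg =>
      Subgroup.le_normalizer hg
    have hD : ∀ d ∈ twoStab a t, d ∈ Subgroup.normalizer (thin a t Q : Set G) := by
      intro d hd
      refine Subgroup.mem_normalizer_fintype fun x hx => ?_
      induction hx using Subgroup.closure_induction with
      | mem y hy =>
        rcases hy with (hy | hy) | hy
        · exact Q_le_thin (hS.conj_mem d (Subgroup.mem_inf.1 hd).1 y hy)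
        · exact invK_le_thin (conj_mem_invK hS h2 hd hy)
        · rw [Set.mem_singleton_iff.1 hy]
          have h := conj_t_mod hS (inv_mem hd)
          rw [inv_inv] at h
          rw [show d * t * d⁻¹ = d * (t * d⁻¹ * t) * t by
            calc d * t * d⁻¹ = d * t * d⁻¹ * (t * t) := by rw [hS.mul_self, mul_one]
              _ = _ := by group]
          exact mul_mem (invK_le_thin h) t_mem_thin
      | one => simp
      | mul x y _ _ hx hy =>
        rw [show d * (x * y) * d⁻¹ = (d * x * d⁻¹) * (d * y * d⁻¹) by group]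
        exact mul_mem hx hy
      | inv x _ hx =>
        rw [show d * x⁻¹ * d⁻¹ = (d * x * d⁻¹)⁻¹ by group]
        exact inv_mem hx
    intro g
    by_cases hga : g ∈ stabilizer G a
    · obtain ⟨q, hq, d, hd, rfl⟩ := exists_qd hS hga
      exact mul_mem (hL q (Q_le_thin hq)) (hD d hd)
    · obtain ⟨⟨p, f⟩, ⟨hp, hf, rfl⟩, -⟩ := qd_of_canonical hS hga
      obtain ⟨q, hq, d, hd, rfl⟩ := exists_qd hS hp
      exact mul_mem (mul_mem (mul_mem (hL q (Q_le_thin hq)) (hD d hd)) (hL t t_mem_thin))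
        (hL f (Q_le_thin hf))
  exact Subgroup.normalizer_eq_top_iff.1 (eq_top_iff.2 fun g _ => hgen g)

theorem thin_odd_index : Odd (thin a t Q).index := by
  haveI := Fact.mk Nat.prime_two
  obtain ⟨P, hP⟩ := sylow_le hS
  rw [← Nat.not_even_iff_odd, even_iff_two_dvd]
  exact fun h => P.not_dvd_index (h.trans (Subgroup.index_dvd_of_le (hP.trans Q_le_thin)))

theorem thin_zassenhaus [FaithfulSMul G Ω] [Fintype Ω] : Cfsg.IsZassenhausGroup (thin a t Q) Ω := by
  classical
  set L := thin a t Q with hL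
  refine ⟨⟨fun {m₁ m₂} h => Subtype.ext (eq_of_smul_eq_smul h)⟩, ?_, ?_, ?_, ?_⟩
  · rw [MulAction.is_two_pretransitive_iff]
    intro b c b' c' hbc hbc'
    obtain ⟨g, hg, g1, g2⟩ := thin_move hS hbc
    obtain ⟨g', hg', g1', g2'⟩ := thin_move hS hbc'
    refine ⟨⟨g' * g⁻¹, mul_mem hg' (inv_mem hg)⟩, ?_, ?_⟩
    · show (g' * g⁻¹) • b = b'
      rw [← g1, mul_smul, inv_smul_smul, g1']
    · show (g' * g⁻¹) • c = c'
      rw [← g2, mul_smul, inv_smul_smul, g2']
  · rintro ⟨x, hx⟩ b c e hbc hce hbe hxb hxc hxe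
    obtain ⟨g, hg, g1, g2⟩ := thin_move hS hbc
    change x • b = b at hxb
    change x • c = c at hxc
    change x • e = e at hxe
    set k := g⁻¹ * x * g with hk
    have hk1 : k • a = a := by rw [hk, mul_smul, mul_smul, g1, hxb, ← g1, inv_smul_smul]
    have hk2 : k • (t • a) = t • a := by rw [hk, mul_smul, mul_smul, g2, hxc, ← g2, inv_smul_smul]
    have hkK := thin_two hS h2 hall (mul_mem (mul_mem (inv_mem hg) hx) hg) (Subgroup.mem_inf.2 ⟨hk1, hk2⟩)
    suffices hk' : k = 1 by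
      refine Subtype.ext (?_ : x = 1)
      rw [show x = g * k * g⁻¹ by rw [hk]; group, hk']; group
    by_contra hne
    have hea : g⁻¹ • e ≠ a := fun h => hbe (by rw [← g1, ← h, smul_inv_smul])
    obtain ⟨q, hq, hqe⟩ := exists_q_smul hS hea
    have hke : k • (g⁻¹ • e) = g⁻¹ • e := by rw [hk, mul_smul, mul_smul, smul_inv_smul, hxe]
    have hka : k ∈ stabilizer G a := hk1
    have hqq := (existsUnique_smul hS (ta_ne hS) hea).unique
      (y₁ := ⟨k * q * k⁻¹, hS.conj_mem k hka q hq⟩) (y₂ := ⟨q, hq⟩) (by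
        show (k * q * k⁻¹) • (t • a) = g⁻¹ • e
        rw [mul_smul, mul_smul, inv_smul_eq_iff.2 hk2.symm, hqe, hke]) hqe
    have hq1 : q ∈ Q ⊓ Subgroup.centralizer {k} := Subgroup.mem_inf.2 ⟨hq,
      Subgroup.mem_centralizer_singleton_iff.2
        (mul_inv_eq_iff_eq_mul.1 (congrArg Subtype.val hqq)).symm⟩
    rw [inverted_fpf hS ((mem_invK hS h2).1 hkK) hne, Subgroup.mem_bot] at hq1
    apply hce
    rw [← g2, ← inv_smul_eq_iff.1 (show g⁻¹ • e = t • a by rw [← hqe, hq1, one_smul])]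
  · obtain ⟨k, hk, hk1⟩ := exists_inverted_ne_one hS h2
    refine ⟨⟨k, invK_le_thin (Subgroup.subset_closure hk)⟩, fun h => hk1 (congrArg Subtype.val h),
      a, t • a, (ta_ne hS).symm, ?_, ?_⟩
    · exact (mem_twoStab hS hk.1).1
    · exact (mem_twoStab hS hk.1).2
  · intro N hN hNt
    refine ⟨a, fun hbot => ?_⟩
    obtain ⟨s, s', hs, hs', hne, hcomm⟩ := two_invol_fixing hS h2
    set M : Subgroup G := N.map L.subtype with hM
    have hMa : ∀ n ∈ M, n • a = a → n = 1 := by
      rintro _ ⟨n, hn, rfl⟩ hna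
      have : (⟨n, hn⟩ : N) ∈ stabilizer N a := hna
      rw [hbot, Subgroup.mem_bot] at this
      exact congrArg (fun z : N => ((z : L) : G)) this
    have hsL : ∀ w ∈ Cfsg.involutionsIn (stabilizer G a : Set G), w ∈ L := fun w hw =>
      Q_le_thin (invol_central hS h2 hw).1
    have hconj : ∀ w ∈ Cfsg.involutionsIn (stabilizer G a : Set G), ∀ n ∈ M, w * n * w⁻¹ ∈ M := by
      rintro w hw _ ⟨n, hn, rfl⟩
      exact ⟨⟨w, hsL w hw⟩ * n * ⟨w, hsL w hw⟩⁻¹, hN.conj_mem n hn _, rfl⟩
    have hModd : Odd (Nat.card M) := by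
      rw [hM, Subgroup.card_map_of_injective L.subtype_injective]
      have e : Nat.card N = Nat.card Ω := by
        refine Nat.card_eq_of_bijective (fun n : N => n • a) ⟨fun n n' h => ?_,
          fun y => exists_smul_eq N a y⟩
        have : n'⁻¹ * n ∈ stabilizer N a := by
          rw [mem_stabilizer_iff, mul_smul, show n • a = n' • a from h, inv_smul_smul]
        rw [hbot, Subgroup.mem_bot, inv_mul_eq_one] at this
        exact this.symm
      rw [e]
      exact odd_card_points hS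
    have hinv : ∀ w ∈ Cfsg.involutionsIn (stabilizer G a : Set G), ∀ n ∈ M, w * n * w⁻¹ = n⁻¹ := by
      intro w hw n hn
      obtain ⟨hwi, hwa⟩ := (mem_involutionsIn hS).1 hw
      obtain ⟨y, z, hy, hyw, hz, rfl⟩ := exists_decomp hwi.2 hModd (hconj w hw) hn
      have hy1 : y = 1 := hMa y hy (fixed_of_commute hS hwi hwa (mul_inv_eq_iff_eq_mul.1 hyw))
      rw [hy1, one_mul]
      exact hz.2
    obtain ⟨n, hn, hne1⟩ : ∃ n ∈ M, n ≠ 1 := by
      obtain ⟨n, hn⟩ := exists_smul_eq N a (t • a)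
      refine ⟨((n : L) : G), ⟨n, n.2, rfl⟩, fun h => ta_ne hS ?_⟩
      rw [← hn]
      show ((n : L) : G) • a = a
      rw [h, one_smul]
    have hss : s * s' ∈ Cfsg.involutionsIn (stabilizer G a : Set G) :=
      (invol_mul hS h2 hs hs').resolve_left fun h =>
        hne ((eq_inv_of_mul_eq_one_left h).trans (inv_eq_of_mul_eq_one_right hs'.2.2))
    have h1 : n⁻¹ = n := by
      rw [← hinv _ hss n hn]
      calc s * s' * n * (s * s')⁻¹ = s * (s' * n * s'⁻¹) * s⁻¹ := by group
        _ = (s * n * s⁻¹)⁻¹ := by rw [hinv s' hs' n hn, conj_inv]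
        _ = n := by rw [hinv s hs n hn, inv_inv]
    refine hne1 (orderOf_eq_one_iff.1 (Nat.eq_one_of_dvd_coprimes (k := orderOf n)
      (Nat.coprime_two_right.2 (odd_orderOf hModd hn)) dvd_rfl ?_))
    rw [orderOf_dvd_iff_pow_eq_one, pow_two]
    nth_rewrite 1 [← h1]
    exact inv_mul_cancel n

end

end Cfsg.Agent.RankOne
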