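import Cfsg.Agent.Lib.RankOne.Centralisers
import Cfsg.Agent.Lib.Solvable.Frobenius
import Cfsg.Agent.Lib.Transfer.Basic

/-!
# Consequences for the structure of `Q`
-/

set_option autoImplicit false
set_option linter.unusedSectionVars false

namespace Cfsg.Agent.RankOne

open MulAction

variable {G Ω : Type*} [Group G] [MulAction G Ω] {a : Ω} {t : G} {Q : Subgroup G}
variable [Finite G] (hS : Cfsg.IsRankOneSetup G Ω a t Q)
include hS

theorem two_invol_fixing (h2 : ∃ x y : G, x ≠ 1 ∧ y ≠ 1 ∧ x ≠ y ∧ x * x = 1 ∧ y * y = 1 ∧ x * y = y * x) :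
    ∃ s s' : G, s ∈ Cfsg.involutionsIn (stabilizer G a : Set G) ∧
      s' ∈ Cfsg.involutionsIn (stabilizer G a : Set G) ∧ s ≠ s' ∧ s * s' = s' * s := by
  obtain ⟨x, y, hx, hy, hxy, hxx, hyy, hc⟩ := h2
  obtain ⟨p, hp, -⟩ := existsUnique_fixed hS (u := x) ⟨hx, hxx⟩
  have hpy : y • p = p := fixed_of_commute hS (z := x) ⟨hx, hxx⟩ hp hc
  have := pretransitive hS
  obtain ⟨g, rfl⟩ := MulAction.exists_smul_eq G a p
  refine ⟨g⁻¹ * x * g, g⁻¹ * y * g, (mem_involutionsIn hS).2 ⟨?_, ?_⟩, (mem_involutionsIn hS).2 ⟨?_, ?_⟩,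
    fun h => hxy (mul_left_cancel (mul_right_cancel h)), ?_⟩
  · simpa using IsInvol.conj (u := x) ⟨hx, hxx⟩ g⁻¹
  · rw [mul_smul, mul_smul, hp, inv_smul_smul]
  · simpa using IsInvol.conj (u := y) ⟨hy, hyy⟩ g⁻¹
  · rw [mul_smul, mul_smul, hpy, inv_smul_smul]
  · calc g⁻¹ * x * g * (g⁻¹ * y * g) = g⁻¹ * (x * y) * g := by group
      _ = g⁻¹ * y * g * (g⁻¹ * x * g) := by rw [hc]; group

theorem exists_inverted_ne_one
    (h2 : ∃ x y : G, x ≠ 1 ∧ y ≠ 1 ∧ x ≠ y ∧ x * x = 1 ∧ y * y = 1 ∧ x * y = y * x) :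
    ∃ k ∈ Cfsg.invertedBy (twoStab a t) t, k ≠ 1 := by
  obtain ⟨s, s', hs, hs', hne, -⟩ := two_invol_fixing hS h2
  obtain ⟨k, hk, e⟩ := inverted_transitive hS hs hs'
  refine ⟨k, hk, fun h => hne ?_⟩
  rw [← e, h, inv_one, one_mul, mul_one]

theorem nilpotent_Q (h2 : ∃ x y : G, x ≠ 1 ∧ y ≠ 1 ∧ x ≠ y ∧ x * x = 1 ∧ y * y = 1 ∧ x * y = y * x) :
    Group.IsNilpotent Q := by
  obtain ⟨k, hk, hk1⟩ := exists_inverted_ne_one hS h2
  set A := stabilizer G a
  have hkA : k ∈ A := (Subgroup.mem_inf.1 hk.1).1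
  have hn : (Q.subgroupOf A).Normal := ⟨fun x hx g => by
    rw [Subgroup.mem_subgroupOf] at hx ⊢
    simpa using hS.conj_mem g g.2 _ hx⟩
  have hne : Subgroup.zpowers (⟨k, hkA⟩ : A) ≠ ⊥ := by
    rw [Subgroup.zpowers_ne_bot]
    exact fun h => hk1 (congrArg Subtype.val h)
  have hnil : Group.IsNilpotent ↥(Q.subgroupOf A) :=
    FrobeniusStruct.nilpotent_of_fpf hne (fun h hh h1 => by
      rw [eq_bot_iff]
      intro q hq
      obtain ⟨hq1, hq2⟩ := Subgroup.mem_inf.1 hq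
      obtain ⟨m, rfl⟩ := mem_powers_iff_mem_zpowers.2 hh
      have hkm := pow_mem_inverted hS hk m
      have hfpf := inverted_fpf hS hkm (fun e => h1 (Subtype.ext e))
      have hq3 : (q : G) ∈ Q ⊓ Subgroup.centralizer {k ^ m} := Subgroup.mem_inf.2
        ⟨hq1, Subgroup.mem_centralizer_singleton_iff.2
          (congrArg Subtype.val (Subgroup.mem_centralizer_singleton_iff.1 hq2))⟩
      rw [hfpf, Subgroup.mem_bot] at hq3
      exact Subgroup.mem_bot.2 (Subtype.ext hq3))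
  exact Group.nilpotent_of_mulEquiv (Subgroup.subgroupOfEquivOfLe hS.le)

theorem invol_central (h2 : ∃ x y : G, x ≠ 1 ∧ y ≠ 1 ∧ x ≠ y ∧ x * x = 1 ∧ y * y = 1 ∧ x * y = y * x)
    {s : G} (hs : s ∈ Cfsg.involutionsIn (stabilizer G a : Set G)) : s ∈ Q ∧ ∀ x ∈ Q, s * x = x * s := by
  obtain ⟨hsi, hsa⟩ := (mem_involutionsIn hS).1 hs
  refine ⟨invol_mem_Q hS hsi hsa, ?_⟩
  -- one central involution
  have := nilpotent_Q hS h2
  have := Fact.mk Nat.prime_two
  obtain ⟨P, hP⟩ := sylow_le hS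
  let P' : Sylow 2 Q := P.subtype hP
  have hnorm : (P' : Subgroup Q).Normal :=
    Sylow.normal_of_normalizerCondition normalizerCondition_of_isNilpotent P'
  obtain ⟨z, hz, hzc⟩ : ∃ z : Q, IsInvol z ∧ z ∈ Subgroup.center Q := by
    have hdvd : 2 ∣ Nat.card (Subgroup.center (P' : Subgroup Q)) := by
      have hne : Nontrivial (P' : Subgroup Q) := by
        rw [← Finite.one_lt_card_iff_nontrivial, P'.card_eq_multiplicity]
        refine Nat.one_lt_pow ?_ (by norm_num)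
        rw [← Nat.pos_iff_ne_zero]
        exact Nat.Prime.factorization_pos_of_dvd Nat.prime_two Nat.card_pos.ne'
          (even_iff_two_dvd.1 hS.even_card)
      have := P'.2.center_nontrivial
      obtain ⟨m, hm, hc⟩ := (P'.2.to_subgroup (Subgroup.center _)).nontrivial_iff_card.1 this
      rw [hc]; exact dvd_pow_self 2 hm.ne'
    obtain ⟨z, hz⟩ := exists_prime_orderOf_dvd_card' 2 hdvd
    refine ⟨((z : (P' : Subgroup Q)) : Q), ⟨fun e => ?_, ?_⟩, ?_⟩
    · have : z = 1 := Subtype.ext (Subtype.ext e)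
      rw [this, orderOf_one] at hz; norm_num at hz
    · have h4 := pow_orderOf_eq_one z
      rw [hz, pow_two] at h4
      simpa using congrArg (fun w : Subgroup.center (P' : Subgroup Q) => ((w : (P' : Subgroup Q)) : Q)) h4
    · -- its centraliser contains every Sylow subgroup
      set C := Subgroup.centralizer ({((z : (P' : Subgroup Q)) : Q)} : Set Q) with hC
      have hsyl : ∀ (p : ℕ) [Fact p.Prime] (R : Sylow p Q), (R : Subgroup Q) ≤ C := by
        intro p _ R x hx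
        rw [hC, Subgroup.mem_centralizer_singleton_iff]
        have hRn : (R : Subgroup Q).Normal :=
          Sylow.normal_of_normalizerCondition normalizerCondition_of_isNilpotent R
        by_cases hp : p = 2
        · subst hp
          have := Sylow.unique_of_normal P' hnorm
          have hx' : x ∈ (P' : Subgroup Q) := by
            rwa [Subsingleton.elim P' R]
          exact congrArg Subtype.val (Subgroup.mem_center_iff.1 z.2 ⟨x, hx'⟩)
        · exact Subgroup.commute_of_normal_of_disjoint _ _ hRn hnorm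
            (IsPGroup.disjoint_of_ne p 2 hp _ _ R.2 P'.2) x _ hx z.1.2
      have hCtop : C = ⊤ := by
        rw [← Subgroup.index_eq_one]
        by_contra hi
        obtain ⟨p, hp, hpd⟩ := Nat.exists_prime_and_dvd hi
        have := Fact.mk hp
        obtain ⟨R⟩ : Nonempty (Sylow p Q) := inferInstance
        exact R.not_dvd_index (hpd.trans (Subgroup.index_dvd_of_le (hsyl p R)))
      rw [Subgroup.mem_center_iff]
      intro x
      exact Subgroup.mem_centralizer_singleton_iff.1 (show x ∈ C by rw [hCtop]; trivial)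
  have hzQ : ((z : G)) ∈ Q := z.2
  have hzi : IsInvol (z : G) :=
    ⟨fun e => hz.1 (Subtype.ext e), congrArg Subtype.val hz.2⟩
  obtain ⟨k, hk, hks⟩ := inverted_transitive hS
    ((mem_involutionsIn hS).2 ⟨hzi, smul_a hS hzQ⟩) hs
  intro x hx
  have hkA : k ∈ stabilizer G a := (Subgroup.mem_inf.1 hk.1).1
  have hy : k * x * k⁻¹ ∈ Q := hS.conj_mem k hkA x hx
  have hcomm : k * x * k⁻¹ * (z : G) = (z : G) * (k * x * k⁻¹) :=
    congrArg Subtype.val (Subgroup.mem_center_iff.1 hzc ⟨_, hy⟩)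
  rw [← hks]
  calc k⁻¹ * (z : G) * k * x = k⁻¹ * ((z : G) * (k * x * k⁻¹)) * k := by group
    _ = x * (k⁻¹ * (z : G) * k) := by rw [← hcomm]; group

theorem invol_mul (h2 : ∃ x y : G, x ≠ 1 ∧ y ≠ 1 ∧ x ≠ y ∧ x * x = 1 ∧ y * y = 1 ∧ x * y = y * x)
    {s s' : G} (hs : s ∈ Cfsg.involutionsIn (stabilizer G a : Set G))
    (hs' : s' ∈ Cfsg.involutionsIn (stabilizer G a : Set G)) :
    s * s' = 1 ∨ s * s' ∈ Cfsg.involutionsIn (stabilizer G a : Set G) := by
  by_cases h : s * s' = 1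
  · exact Or.inl h
  refine Or.inr ⟨mul_mem hs.1 hs'.1, h, ?_⟩
  have hc := (invol_central hS h2 hs).2 s' (invol_central hS h2 hs').1
  calc s * s' * (s * s') = s * (s' * s) * s' := by group
    _ = (s * s) * (s' * s') := by rw [← hc]; group
    _ = 1 := by rw [hs.2.2, hs'.2.2, one_mul]

theorem product_invol (h2 : ∃ x y : G, x ≠ 1 ∧ y ≠ 1 ∧ x ≠ y ∧ x * x = 1 ∧ y * y = 1 ∧ x * y = y * x)
    {u v : G} (hu : IsInvol u) (hv : IsInvol v) (hx : (u * v) * (u * v) ≠ 1) :
    (∃ g : G, ∃ u' ∈ Cfsg.involutionsIn (stabilizer G a : Set G), g * (u * v) * g⁻¹ = u' * t) ∧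
      Odd (Nat.card ↥(Subgroup.centralizer {u * v})) := by
  have := pretransitive hS
  obtain ⟨p, hp, -⟩ := existsUnique_fixed hS hu
  obtain ⟨c, hc, -⟩ := existsUnique_fixed hS hv
  have hne : p ≠ c := by
    rintro rfl
    obtain ⟨g, rfl⟩ := MulAction.exists_smul_eq G a p
    have key : ∀ w : G, IsInvol w → w • (g • a) = g • a →
        g⁻¹ * w * g ∈ Cfsg.involutionsIn (stabilizer G a : Set G) := fun w hw hw' =>
      (mem_involutionsIn hS).2 ⟨by simpa using hw.conj g⁻¹, by rw [mul_smul, mul_smul, hw', inv_smul_smul]⟩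
    have h := (invol_central hS h2 (key u hu hp)).2 _ (invol_central hS h2 (key v hv hc)).1
    apply hx
    have h' : u * v = v * u := by
      calc u * v = g * (g⁻¹ * u * g * (g⁻¹ * v * g)) * g⁻¹ := by group
        _ = v * u := by rw [h]; group
    calc u * v * (u * v) = (u * v) * (v * u) := by rw [← h']
      _ = u * (v * v) * u := by group
      _ = 1 := by rw [hv.2, mul_one, hu.2]
  have hvp : v • p ≠ p := fun h => hne (fixed_unique hS hv h hc)
  obtain ⟨g, hga, hgb⟩ := exists_smul_pair hS hvp.symm (ta_ne hS).symm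
  have hgv : (g * v * g⁻¹) • a = t • a := by
    rw [mul_smul, mul_smul, inv_smul_eq_iff.2 hga.symm, hgb]
  obtain ⟨l, hl, hlt⟩ := swap_conj hS (hv.conj g) hgv
  have hla : l • a = a := (Subgroup.mem_inf.1 hl.1).1
  refine ⟨⟨l * g, (l * g) * u * (l * g)⁻¹, (mem_involutionsIn hS).2 ⟨hu.conj _, ?_⟩, ?_⟩, ?_⟩
  · have h1 : (l * g) • p = a := by rw [mul_smul, hga, hla]
    rw [mul_smul, mul_smul, inv_smul_eq_iff.2 h1.symm, hp, h1]
  · rw [← hlt]; group
  · rw [← Nat.not_even_iff_odd, even_iff_two_dvd]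
    intro hdvd
    have := Fact.mk Nat.prime_two
    obtain ⟨z, hz⟩ := exists_prime_orderOf_dvd_card' 2 hdvd
    have hzi : IsInvol (z : G) := by
      refine ⟨fun e => ?_, ?_⟩
      · rw [show z = 1 from Subtype.ext e, orderOf_one] at hz; norm_num at hz
      · have h4 := pow_orderOf_eq_one z
        rw [hz, pow_two] at h4
        exact congrArg Subtype.val h4
    obtain ⟨r, hr, -⟩ := existsUnique_fixed hS hzi
    have hxz : (u * v) * (z : G) = (z : G) * (u * v) :=
      (Subgroup.mem_centralizer_singleton_iff.1 z.2).symm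
    have hxr : (u * v) • r = r := fixed_of_commute hS hzi hr hxz.symm
    by_cases hur : u • r = r
    · have hvr : v • r = r := by
        have := hxr
        rw [mul_smul] at this
        exact MulAction.injective u (this.trans hur.symm)
      exact hne ((fixed_unique hS hu hp hur).trans (fixed_unique hS hv hvr hc))
    · obtain ⟨g', hg1, hg2⟩ := exists_smul_pair hS (Ne.symm hur) (ta_ne hS).symm
      have hxur : (u * v) • (u • r) = u • r := by
        have h5 : v • r = u • r := by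
          have := hxr
          rw [mul_smul] at this
          calc v • r = u • (u • (v • r)) := by rw [← mul_smul u u, hu.2, one_smul]
            _ = u • r := by rw [this]
        rw [mul_smul, ← h5, ← mul_smul v v, hv.2, one_smul]
        exact h5.symm
      have hd : g' * (u * v) * g'⁻¹ ∈ twoStab a t := Subgroup.mem_inf.2
        ⟨by rw [mem_stabilizer_iff, mul_smul, mul_smul, inv_smul_eq_iff.2 hg1.symm, hxr, hg1],
         by rw [mem_stabilizer_iff, mul_smul, mul_smul, inv_smul_eq_iff.2 hg2.symm, hxur, hg2]⟩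
      have hone := key_trivial hS hd (hzi.conj g')
        (by rw [mul_smul, mul_smul, inv_smul_eq_iff.2 hg1.symm, hr, hg1])
        (by rw [conj_mul, conj_mul, hxz]) (hu.conj g')
        (by rw [mul_smul, mul_smul, inv_smul_eq_iff.2 hg1.symm, hg2])
        (by rw [show g' * u * g'⁻¹ * (g' * (u * v) * g'⁻¹) * (g' * u * g'⁻¹)⁻¹ =
              g' * (u * (u * v) * u⁻¹) * g'⁻¹ by group,
              show u * (u * v) * u⁻¹ = (u * v)⁻¹ by simpa using conj_pow_invol hu hv 1]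
            group)
      rw [conj_eq_one_iff] at hone
      exact hx (by rw [hone, one_mul])

theorem mem_centralizer_iff_fix {d r : G} (hd : d ∈ twoStab a t) (hr : r ∈ Q) {e : Ω}
    (hre : r • (t • a) = e) (he : d • e = e) : d * r * d⁻¹ = r := by
  obtain ⟨hda, hdb⟩ := mem_twoStab hS hd
  have h1 : (d * r * d⁻¹) • (t • a) = e := by
    rw [mul_smul, mul_smul, inv_smul_eq_iff.2 hdb.symm, hre, he]
  have hea : e ≠ a := fun h => ta_ne hS (MulAction.injective r (hre.trans (h.trans (smul_a hS hr).symm)))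
  exact congrArg Subtype.val ((existsUnique_smul hS (ta_ne hS) (b := t • a) hea).unique
    (y₁ := ⟨d * r * d⁻¹, hS.conj_mem d hda r hr⟩) (y₂ := ⟨r, hr⟩) h1 hre)

theorem structure_equation : ∃! p : G × G, p.1 ∈ Cfsg.involutionsIn (stabilizer G a : Set G) ∧ p.2 ∈ Q ∧
    t * p.1 * t = p.2⁻¹ * t * p.2 := by
  obtain ⟨e, he, -⟩ := existsUnique_fixed hS (t_invol hS)
  have hea : e ≠ a := fun h => ta_ne hS (h ▸ he)
  have htt : t • (t • a) = a := by rw [← mul_smul, hS.mul_self, one_smul]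
  obtain ⟨r, hr, hre⟩ := exists_q_smul hS hea
  have hu : IsInvol (r⁻¹ * t * r) := by simpa using (t_invol hS).conj r⁻¹
  refine ⟨(t * (r⁻¹ * t * r) * t, r), ⟨(mem_involutionsIn hS).2 ⟨?_, ?_⟩, hr, ?_⟩, ?_⟩
  · have := hu.conj t
    rwa [inv_t hS] at this
  · rw [mul_smul, mul_smul, mul_smul, mul_smul, hre, he, ← hre, inv_smul_smul, htt]
  · show t * (t * (r⁻¹ * t * r) * t) * t = r⁻¹ * t * r
    calc t * (t * (r⁻¹ * t * r) * t) * t = (t * t) * (r⁻¹ * t * r) * (t * t) := by group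
      _ = r⁻¹ * t * r := by rw [hS.mul_self, one_mul, mul_one]
  · rintro ⟨s, r'⟩ ⟨hs, hr', heq⟩
    obtain ⟨hsi, hsa⟩ := (mem_involutionsIn hS).1 hs
    have hb : (t * s * t) • (t • a) = t • a := by rw [mul_smul, mul_smul, htt, hsa]
    rw [show t * s * t = r'⁻¹ * t * r' from heq, mul_smul, mul_smul, inv_smul_eq_iff] at hb
    have hr2 : r' = r := congrArg Subtype.val ((existsUnique_smul hS (ta_ne hS) (b := t • a) hea).unique
      (y₁ := ⟨r', hr'⟩) (y₂ := ⟨r, hr⟩) (fixed_unique hS (t_invol hS) hb he) hre)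
    subst hr2
    refine Prod.ext ?_ rfl
    show s = t * (r'⁻¹ * t * r') * t
    rw [← show t * s * t = r'⁻¹ * t * r' from heq]
    calc s = (t * t) * s * (t * t) := by rw [hS.mul_self, one_mul, mul_one]
      _ = t * (t * s * t) * t := by group

theorem centralizer_t_eq {s r : G} (hs : s ∈ Cfsg.involutionsIn (stabilizer G a : Set G)) (hr : r ∈ Q)
    (heq : t * s * t = r⁻¹ * t * r) :
    twoStab a t ⊓ Subgroup.centralizer {t} = twoStab a t ⊓ Subgroup.centralizer {s} := by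
  obtain ⟨hsi, hsa⟩ := (mem_involutionsIn hS).1 hs
  obtain ⟨e, he, -⟩ := existsUnique_fixed hS (t_invol hS)
  have htt : t • (t • a) = a := by rw [← mul_smul, hS.mul_self, one_smul]
  have hb : (t * s * t) • (t • a) = t • a := by rw [mul_smul, mul_smul, htt, hsa]
  rw [heq, mul_smul, mul_smul, inv_smul_eq_iff] at hb
  have hre : r • (t • a) = e := fixed_unique hS (t_invol hS) hb he
  have hle : twoStab a t ⊓ Subgroup.centralizer {t} ≤ twoStab a t ⊓ Subgroup.centralizer {s} := by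
    intro d hd
    obtain ⟨hdD, hdt⟩ := Subgroup.mem_inf.1 hd
    have hdt' := Subgroup.mem_centralizer_singleton_iff.1 hdt
    have hdr := mem_centralizer_iff_fix hS hdD hr hre
      (fixed_of_commute hS (t_invol hS) he hdt'.symm)
    refine Subgroup.mem_inf.2 ⟨hdD, Subgroup.mem_centralizer_singleton_iff.2 ?_⟩
    have c1 : Commute d t := hdt'
    have c2 : Commute d r := mul_inv_eq_iff_eq_mul.1 hdr
    have c3 : Commute d (t * (r⁻¹ * t * r) * t) :=
      (c1.mul_right ((c2.inv_right.mul_right c1).mul_right c2)).mul_right c1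
    rw [← heq, show t * (t * s * t) * t = (t * t) * s * (t * t) by group, hS.mul_self, one_mul, mul_one] at c3
    exact c3
  refine Subgroup.eq_of_le_of_card_ge hle ?_
  -- orbit of `s` under `D` versus decomposition of `D`
  have hD := card_decomp hS.mul_self (twoStab a t) hS.odd_card (fun x hx => conj_twoStab hS hx)
  have hcl : Nat.card ↥(twoStab a t ⊓ Subgroup.centralizer {s}) *
      Nat.card (Cfsg.invertedBy (twoStab a t) t) ≤ Nat.card (twoStab a t) := by
    rw [← Nat.card_prod]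
    refine Nat.card_le_card_of_injective (fun p : ↥(twoStab a t ⊓ Subgroup.centralizer {s}) ×
      Cfsg.invertedBy (twoStab a t) t => (⟨p.1.1 * p.2.1, mul_mem (Subgroup.mem_inf.1 p.1.2).1 p.2.2.1⟩ :
        twoStab a t)) fun p q h => ?_
    have h1 : (p.1 : G) * p.2 = q.1 * q.2 := congrArg Subtype.val h
    have hp := Subgroup.mem_centralizer_singleton_iff.1 (Subgroup.mem_inf.1 p.1.2).2
    have hq := Subgroup.mem_centralizer_singleton_iff.1 (Subgroup.mem_inf.1 q.1.2).2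
    have h2 : (p.2 : G) = q.2 := by
      refine inverted_conj_inj hS hsi hsa p.2.2 q.2.2 ?_
      calc (p.2 : G)⁻¹ * s * p.2 = ((p.1 : G) * p.2)⁻¹ * ((p.1 : G) * s) * p.2 := by group
        _ = ((p.1 : G) * p.2)⁻¹ * s * ((p.1 : G) * p.2) := by rw [hp]; group
        _ = ((q.1 : G) * q.2)⁻¹ * (s * (q.1 : G)) * q.2 := by rw [h1]; group
        _ = (q.2 : G)⁻¹ * s * q.2 := by rw [← hq]; group
    exact Prod.ext (Subtype.ext (mul_right_cancel (h2 ▸ h1))) (Subtype.ext h2)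
  rw [hD] at hcl
  refine Nat.le_of_mul_le_mul_right hcl ?_
  have : Nonempty (Cfsg.invertedBy (twoStab a t) t) := ⟨⟨1, one_mem _, by group⟩⟩
  exact Nat.card_pos

theorem centralizer_inverted_eq :
    twoStab a t ⊓ Subgroup.centralizer {t} ⊓ Subgroup.centralizer (Cfsg.invertedBy (twoStab a t) t) =
      twoStab a t ⊓ Subgroup.centralizer (Cfsg.involutionsIn (stabilizer G a : Set G)) := by
  obtain ⟨⟨s, r⟩, ⟨hs, hr, heq⟩, -⟩ := structure_equation hS
  have hVs := centralizer_t_eq hS hs hr heq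
  obtain ⟨hsi, hsa⟩ := (mem_involutionsIn hS).1 hs
  ext d
  simp only [Subgroup.mem_inf, Subgroup.mem_centralizer_iff]
  constructor
  · rintro ⟨⟨hdD, hdt⟩, hdK⟩
    refine ⟨hdD, fun s' hs' => ?_⟩
    obtain ⟨k, hk, rfl⟩ := inverted_transitive hS hs hs'
    have h1 : d ∈ twoStab a t ⊓ Subgroup.centralizer {s} :=
      hVs ▸ Subgroup.mem_inf.2 ⟨Subgroup.mem_inf.2 hdD, Subgroup.mem_centralizer_iff.2 hdt⟩
    have hds : Commute s d := Subgroup.mem_centralizer_iff.1 (Subgroup.mem_inf.1 h1).2 s rfl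
    exact (((show Commute k d from hdK k hk).inv_left.mul_left hds).mul_left (hdK k hk))
  · rintro ⟨hdD, hdJ⟩
    have hdD' : d ∈ twoStab a t := Subgroup.mem_inf.2 hdD
    have h1 : d ∈ twoStab a t ⊓ Subgroup.centralizer {t} := hVs.symm ▸ Subgroup.mem_inf.2
      ⟨hdD', Subgroup.mem_centralizer_singleton_iff.2 (hdJ s hs).symm⟩
    have hdt := Subgroup.mem_centralizer_iff.1 (Subgroup.mem_inf.1 h1).2
    refine ⟨⟨hdD, hdt⟩, fun k hk => ?_⟩
    have hk' : d * k * d⁻¹ ∈ Cfsg.invertedBy (twoStab a t) t := by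
      refine ⟨mul_mem (mul_mem hdD' hk.1) (inv_mem hdD'), ?_⟩
      have htd : t * d * t⁻¹ = d := by rw [hdt t rfl, mul_inv_cancel_right]
      rw [show t * (d * k * d⁻¹) * t⁻¹ = (t * d * t⁻¹) * (t * k * t⁻¹) * (t * d * t⁻¹)⁻¹ by group,
        htd, hk.2]
      group
    have h2 : d * k * d⁻¹ = k := by
      refine inverted_conj_inj hS hsi hsa hk' hk ?_
      have hds : s * d = d * s := hdJ s hs
      have hds' := hdJ _ (conj_mem_involutionsIn hS hs (Subgroup.mem_inf.1 hk.1).1)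
      calc (d * k * d⁻¹)⁻¹ * s * (d * k * d⁻¹) = d * k⁻¹ * (d⁻¹ * (s * d)) * k * d⁻¹ := by group
        _ = (d * (k⁻¹ * s * k)) * d⁻¹ := by rw [hds]; group
        _ = k⁻¹ * s * k := by rw [← hds', mul_inv_cancel_right]
    exact (mul_inv_eq_iff_eq_mul.1 h2).symm

theorem pPrimeCore_eq (h2 : ∃ x y : G, x ≠ 1 ∧ y ≠ 1 ∧ x ≠ y ∧ x * x = 1 ∧ y * y = 1 ∧ x * y = y * x) :
    Cfsg.pPrimeCore 2 G = (stabilizer G a).normalCore := by
  have := pretransitive hS
  have := Fact.mk Nat.prime_two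
  apply le_antisymm
  · have hcop := PBasic.pPrimeCore_coprime 2 G
    set N := Cfsg.pPrimeCore 2 G with hN
    have hNn : N.Normal := FittingCores.pPrimeCore_normal 2
    have hodd : Odd (Nat.card N) := Nat.coprime_two_right.1 hcop
    refine Subgroup.normal_le_normalCore.2 fun n hn => ?_
    obtain ⟨s, s', hs, hs', hne, hc⟩ := two_invol_fixing hS h2
    obtain ⟨hsi, hsa⟩ := (mem_involutionsIn hS).1 hs
    obtain ⟨hsi', hsa'⟩ := (mem_involutionsIn hS).1 hs'
    have hfix : ∀ {w x : G}, IsInvol w → w • a = a → w * x * w⁻¹ = x → x ∈ stabilizer G a :=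
      fun hw hwa hx => fixed_of_commute hS hw hwa (mul_inv_eq_iff_eq_mul.1 hx)
    obtain ⟨c, z, -, hcf, hz, rfl⟩ :=
      exists_decomp hsi.2 hodd (fun x hx => hNn.conj_mem x hx s) hn
    obtain ⟨p, z', hp, hpf, hz', rfl⟩ :=
      exists_decomp hsi'.2 hodd (fun x hx => hNn.conj_mem x hx s') hz.1
    refine mul_mem (hfix hsi hsa hcf) ?_
    have hcomm : ∀ x : G, s * (s' * x * s'⁻¹) * s⁻¹ = s' * (s * x * s⁻¹) * s'⁻¹ := fun x => by
      calc s * (s' * x * s'⁻¹) * s⁻¹ = (s * s') * x * (s * s')⁻¹ := by group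
        _ = s' * (s * x * s⁻¹) * s'⁻¹ := by rw [hc]; group
    have hsp : s' * (s * p * s⁻¹) * s'⁻¹ = s * p * s⁻¹ := by rw [← hcomm, hpf]
    have hsz : s * z' * s⁻¹ ∈ Cfsg.invertedBy N s' :=
      ⟨hNn.conj_mem z' hz'.1 s, by rw [← hcomm, hz'.2, ← conj_inv]⟩
    have hpz : p * z'⁻¹ * p⁻¹ ∈ Cfsg.invertedBy N s' :=
      ⟨hNn.conj_mem _ (inv_mem hz'.1) p, by
        rw [show s' * (p * z'⁻¹ * p⁻¹) * s'⁻¹ = (s' * p * s'⁻¹) * (s' * z' * s'⁻¹)⁻¹ * (s' * p * s'⁻¹)⁻¹ by group,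
          hpf, hz'.2]
        group⟩
    have hpinv : s' * p⁻¹ * s'⁻¹ = p⁻¹ := by rw [← conj_inv, hpf]
    obtain ⟨h3, h4⟩ := decomp_unique hodd hsp hpinv hsz hpz
      (show s * p * s⁻¹ * (s * z' * s⁻¹) = p⁻¹ * (p * z'⁻¹ * p⁻¹) by
        rw [conj_mul, hz.2]; group)
    -- split the correction term with a square root
    obtain ⟨m, hm⟩ := exists_sqrt (odd_orderOf hodd hp)
    set r := p ^ m with hr
    have hsr : s * r * s⁻¹ = r⁻¹ := by rw [hr, ← conj_pow, h3, inv_pow]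
    have hs'r : s' * r * s'⁻¹ = r := by rw [hr, ← conj_pow, hpf]
    have hrmem : r ∈ stabilizer G a := hfix hsi' hsa' hs'r
    have hw : (s * s') * (r * z' * r⁻¹) * (s * s')⁻¹ = r * z' * r⁻¹ := by
      rw [show (s * s') * (r * z' * r⁻¹) * (s * s')⁻¹ =
        (s * (s' * r * s'⁻¹) * s⁻¹) * (s * (s' * z' * s'⁻¹) * s⁻¹) * (s * (s' * r * s'⁻¹) * s⁻¹)⁻¹ by group,
        hs'r, hsr, hz'.2, ← conj_inv, h4, ← hm]
      group
    have hwi : IsInvol (s * s') := ⟨fun e => hne (by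
        rw [← mul_left_cancel_iff (a := s), hsi.2, e]), by
      calc s * s' * (s * s') = s * (s' * s) * s' := by group
        _ = (s * s) * (s' * s') := by rw [← hc]; group
        _ = 1 := by rw [hsi.2, hsi'.2, one_mul]⟩
    have hwa : (s * s') • a = a := by rw [mul_smul, hsa', hsa]
    have hmem := hfix hwi hwa hw
    have : p * z' = r * (r * z' * r⁻¹) * r := by rw [← hm]; group
    rw [this]
    exact mul_mem (mul_mem hrmem hmem) hrmem
  · refine PBasic.le_pPrimeCore inferInstance (Nat.coprime_two_right.2 ?_)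
    refine Odd.of_dvd_nat hS.odd_card (Subgroup.card_dvd_of_le fun x hx => Subgroup.mem_inf.2
      ⟨Subgroup.normalCore_le _ hx, ?_⟩)
    have h := hx t
    rw [mem_stabilizer_iff, mul_smul, mul_smul, inv_t hS] at h
    rw [mem_stabilizer_iff]
    calc x • (t • a) = t • (t • (x • (t • a))) := by rw [← mul_smul t t, hS.mul_self, one_smul]
      _ = t • a := by rw [h]

theorem h_identities {x g h f : G} (hx : x ∈ Q) (hg : g ∈ Q) (hh : h ∈ twoStab a t) (hf : f ∈ Q)
    (heq : t * x * t = g * h * t * f) :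
    (∀ g₁ h₁ f₁ : G, g₁ ∈ Q → h₁ ∈ twoStab a t → f₁ ∈ Q → t * x⁻¹ * t = g₁ * h₁ * t * f₁ →
        f₁ = g⁻¹ ∧ h₁ = t * h⁻¹ * t) ∧
      (∀ g₂ h₂ f₂ : G, g₂ ∈ Q → h₂ ∈ twoStab a t → f₂ ∈ Q → t * f * t = g₂ * h₂ * t * f₂ →
        f₂ = x ∧ h₂ = h⁻¹) ∧
      ∀ c ∈ twoStab a t, ∀ g₃ h₃ f₃ : G, g₃ ∈ Q → h₃ ∈ twoStab a t → f₃ ∈ Q →
        t * (c⁻¹ * x * c) * t = g₃ * h₃ * t * f₃ →
          f₃ = (t * c * t)⁻¹ * f * (t * c * t) ∧ h₃ = (t * c * t)⁻¹ * h * c := by
  have hth : ∀ d ∈ twoStab a t, t * d * t ∈ twoStab a t := fun d hd => by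
    have := conj_twoStab hS hd
    rwa [inv_t hS] at this
  have hti := inv_t hS
  refine ⟨fun g₁ h₁ f₁ hg₁ hh₁ hf₁ e => ?_, fun g₂ h₂ f₂ hg₂ hh₂ hf₂ e => ?_,
    fun c hc g₃ h₃ f₃ hg₃ hh₃ hf₃ e => ?_⟩
  · have h1 : t * x⁻¹ * t = f⁻¹ * (t * h⁻¹ * t) * t * g⁻¹ := by
      calc t * x⁻¹ * t = (t * x * t)⁻¹ := by simp only [mul_inv_rev, hti, mul_assoc]
        _ = f⁻¹ * t⁻¹ * h⁻¹ * (t * t) * g⁻¹ := by rw [heq, hS.mul_self]; group
        _ = _ := by rw [hti]; group
    obtain ⟨-, h2, h3⟩ := ghtf_unique hS hg₁ hh₁ hf₁ (inv_mem hf) (hth _ (inv_mem hh)) (inv_mem hg)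
      (e.symm.trans h1)
    exact ⟨h3, h2⟩
  · have h1 : t * f * t = (h⁻¹ * g⁻¹ * h⁻¹⁻¹) * h⁻¹ * t * x := by
      calc t * f * t = h⁻¹ * g⁻¹ * (g * h * t * f) * t := by group
        _ = h⁻¹ * g⁻¹ * (t * x * (t * t)) := by rw [← heq]; group
        _ = _ := by rw [hS.mul_self]; group
    obtain ⟨-, h2, h3⟩ := ghtf_unique hS hg₂ hh₂ hf₂
      (hS.conj_mem _ (inv_mem (Subgroup.mem_inf.1 hh).1) _ (inv_mem hg)) (inv_mem hh) hx (e.symm.trans h1)
    exact ⟨h3, h2⟩
  · set c' := t * c * t with hc'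
    have hc'D : c' ∈ twoStab a t := hth c hc
    have hci : t * c'⁻¹ * t = c⁻¹ := by
      rw [hc']
      calc t * (t * c * t)⁻¹ * t = (t * t⁻¹) * c⁻¹ * (t⁻¹ * t) := by group
        _ = c⁻¹ := by group
    have h1 : t * (c⁻¹ * x * c) * t =
        (c'⁻¹ * g * c'⁻¹⁻¹) * (c'⁻¹ * h * c) * t * (c'⁻¹ * f * c') := by
      calc t * (c⁻¹ * x * c) * t = (t * c⁻¹ * t⁻¹) * (t * x * t) * (t⁻¹ * c * t) := by group
        _ = c'⁻¹ * (g * h * t * f) * c' := by
            rw [heq, hc', hti]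
            simp only [mul_inv_rev, hti, mul_assoc]
        _ = (c'⁻¹ * g * c') * (c'⁻¹ * h) * (t * c') * (c'⁻¹ * f * c') := by group
        _ = _ := by
            rw [inv_inv, show t * c' = c * t by
              rw [hc']
              calc t * (t * c * t) = (t * t) * c * t := by group
                _ = c * t := by rw [hS.mul_self, one_mul]]
            group
    obtain ⟨-, h2, h3⟩ := ghtf_unique hS hg₃ hh₃ hf₃
      (hS.conj_mem _ (inv_mem (Subgroup.mem_inf.1 hc'D).1) _ hg)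
      (mul_mem (mul_mem (inv_mem hc'D) hh) hc)
      (by simpa using hS.conj_mem _ (inv_mem (Subgroup.mem_inf.1 hc'D).1) _ hf) (e.symm.trans h1)
    exact ⟨h3, h2⟩

theorem h_product {x y gx hx fx gy hy fy : G} (hxQ : x ∈ Q) (hyQ : y ∈ Q) (hxy : x * y ≠ 1)
    (hgx : gx ∈ Q) (hhx : hx ∈ twoStab a t) (hfx : fx ∈ Q) (ex : t * x * t = gx * hx * t * fx)
    (hgy : gy ∈ Q) (hhy : hy ∈ twoStab a t) (hfy : fy ∈ Q) (ey : t * y * t = gy * hy * t * fy) :
    fx * gy ≠ 1 ∧
      ∀ gz hz fz g' h' f' : G, gz ∈ Q → hz ∈ twoStab a t → fz ∈ Q → t * (fx * gy) * t = gz * hz * t * fz →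
        g' ∈ Q → h' ∈ twoStab a t → f' ∈ Q → t * (x * y) * t = g' * h' * t * f' →
          f' = (t * hy * t)⁻¹ * fz * (t * hy * t) * fy ∧ h' = hx * hz * hy := by
  have hth : ∀ d ∈ twoStab a t, t * d * t ∈ twoStab a t := fun d hd => by
    have := conj_twoStab hS hd
    rwa [inv_t hS] at this
  have hti := inv_t hS
  have hxy' : t * (x * y) * t = gx * hx * (t * (fx * gy) * hy * t) * fy := by
    calc t * (x * y) * t = t * x * (t * t) * y * t := by rw [hS.mul_self]; group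
      _ = (t * x * t) * (t * y * t) := by group
      _ = _ := by rw [ex, ey]; group
  refine ⟨fun h1 => ?_, fun gz hz fz g' h' f' hgz hhz hfz ez hg' hh' hf' e' => ?_⟩
  · have hm : t * (x * y) * t ∈ stabilizer G a := by
      rw [hxy', h1, mul_one]
      exact mul_mem (mul_mem (mul_mem (hS.le hgx) (Subgroup.mem_inf.1 hhx).1)
        (Subgroup.mem_inf.1 (hth _ hhy)).1) (hS.le hfy)
    rw [mem_stabilizer_iff, mul_smul, mul_smul, ← eq_inv_smul_iff, hti] at hm
    exact hxy (by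
      by_contra hne
      exact ta_ne hS (eq_a_of_fixed hS (mul_mem hxQ hyQ) hne hm))
  · set w := t * hy * t with hw
    have hwD : w ∈ twoStab a t := hth _ hhy
    have e : t * (x * y) * t =
        (gx * (hx * gz * hx⁻¹)) * (hx * hz * hy) * t * (w⁻¹ * fz * w * fy) := by
      rw [hxy']
      calc gx * hx * (t * (fx * gy) * hy * t) * fy
          = gx * hx * ((t * (fx * gy) * t) * (t⁻¹ * hy * t)) * fy := by group
        _ = gx * hx * ((gz * hz * t * fz) * w) * fy := by rw [ez, hw, hti]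
        _ = (gx * (hx * gz * hx⁻¹)) * (hx * hz) * (t * w) * (w⁻¹ * fz * w * fy) := by group
        _ = _ := by
            rw [show t * w = hy * t by
              rw [hw]
              calc t * (t * hy * t) = (t * t) * hy * t := by group
                _ = hy * t := by rw [hS.mul_self, one_mul]]
            group
    obtain ⟨-, h2, h3⟩ := ghtf_unique hS hg' hh' hf'
      (mul_mem hgx (hS.conj_mem _ (Subgroup.mem_inf.1 hhx).1 _ hgz)) (mul_mem (mul_mem hhx hhz) hhy)
      (mul_mem (by simpa using hS.conj_mem _ (inv_mem (Subgroup.mem_inf.1 hwD).1) _ hfz) hfy)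
      (e'.symm.trans e)
    exact ⟨h3, h2⟩

end Cfsg.Agent.RankOne
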